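import Cfsg.Agent.Helper17.SuzP1TC.Perm

set_option autoImplicit false
set_option linter.all false
set_option maxRecDepth 100000
set_option maxHeartbeats 0
set_option Elab.async false

noncomputable section

namespace Cfsg.Agent.Helper17.SuzP1TC

open Cfsg.Spor Cfsg.Agent.Helper17.TCG Cfsg.Agent.Helper17.SuzSub

def oidT : ℕ := 0x55555555555655a6955556555699a555a555a95a556a555555555a556955555a6a69556a5559a96965a555555a55969a55555595aa59695669659555659a6955559a65966595599a6555665966556665555665995595555566595555555565555555555555555554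

def oparT : ℕ := 0xce6672d96c5e271385c2613037cbd5e6ed73b2d92f161b0d82c15fadd6ab558abd56a769a550a8541a04f6b3319e4c2612d95cae752a954a2477fc1c7e3b1b9a4d62f1798c562b13894461b0b85c2a150abfc1e0b0481c0e03357fbfdfafc7e3edf6fa87c8deef792bd9ecf27944de11477bbe4eee79ba1cee7733a9cae571385c0df6fb75b8dc6dbd5b2d86c35293576933d9ecc653b2bec8643a58ec763b198cc565309852260b0692bf5f2f57abb5db35dab95cbb570b85badd6cc35aad568d768aca7cb0582bd5cae56bf158ac55aa954a95429d4ca55234146a1503593e9f6a2793a9d84a71349a4ca623b114aa55fc944a24d269286a4522fe47a391c8d46c05188c45a2914896f2210e8743215088441a0902803fa04fc7d3e2fcf67a3d1e4f077601d4e87439b30e472389c0e0ba379b8da6d361acd4693419ccc653218cc46230988c05f2f174b85b2d258b2582b95cac552a14ca4512813c9c4d2612c944b2492c9048239148843211047e3e1e8f0763a1c8e078371a8d066331e0c86432180bc5c2d158ac5228138984a261208c4c2211084481f0f87c3c1e0e86c361a0d06432180b8982c160a05026120904422100803c1c0e06030160b078281409048200e07030180a050200c0602010040200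

def oletT : ℕ := 0x6d96cb89249271b3149132db7136da4cb61a0846238e19137244d052380886201c8a22ca09364044b9180d32502532e331491451a01c7126527143044d92e460365b04b8d84cb46348145801961071a8a325c6c225c4d84c96194996a34a320325164b8d84ca0996914da8cc6e229348265a2d46d391b82169b8cb51a8dc8e231891c8645188dc10c66270c51362085c4cc4d98620c32a265068a040

def odepT : ℕ := 0x8c2107bdef7bdef7bdef739ee739c8739ce521c8439ce739ce739c8739ce739c95b8ed421ad735ad39dad6b5ad49ced6b5086b5ad69ce76b9ad735ad6b5ad6b5cd6b4e76b9ad69ced6b5ad6b5ad6b50a698c861d0c6358c618c66318e6310c318cc620ec61d8c3198e6318e631cc630c66358c33186330c66318c6358c6b18c4b16b294e75ad0b594ab6ad68594ab5a16b2ad6b6ad6b5956b2aca5594ab5b16b5ad6b4a8845214a229495114a2294a5288a228845114a5294a525234a46948d234a52948d2348d294a5294a502409081204842108121084210842108384e139c273a0e739ce739ce739ce7300c6318e6318c6318c6294a5314a5294842108418c6210400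

def oid (i : ℕ) : ℕ := Nat.land (Nat.shiftRight oidT (Nat.mul 2 i)) 3

def opar (i : ℕ) : ℕ := Nat.land (Nat.shiftRight oparT (Nat.mul 9 i)) 511

def olet (i : ℕ) : ℕ := Nat.land (Nat.shiftRight oletT (Nat.mul 3 i)) 7

def odep (i : ℕ) : ℕ := Nat.land (Nat.shiftRight odepT (Nat.mul 5 i)) 31

def oroot : ℕ → ℕ
  | 0 => 0
  | 1 => 1
  | 2 => 38
  | _ => 0

def ClsStab : Subgroup (Equiv.Perm ℕ) where
  carrier := {π | ∀ i, i < N → oid (π i) = oid i ∧ π i < N}
  mul_mem' := by
    intro a b ha hb i hi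
    rw [Equiv.Perm.mul_apply]
    obtain ⟨h1, h2⟩ := hb i hi
    obtain ⟨h3, h4⟩ := ha _ h2
    exact ⟨h3.trans h1, h4⟩
  one_mem' := fun i hi => ⟨rfl, hi⟩
  inv_mem' := by
    intro π h i hi
    have hmaps : Set.MapsTo π (Finset.range N : Set ℕ) (Finset.range N : Set ℕ) := by
      intro j hj
      simp only [Finset.coe_range, Set.mem_Iio] at hj ⊢
      exact (h j hj).2
    have hsurj : Set.SurjOn π (Finset.range N : Set ℕ) (Finset.range N : Set ℕ) :=
      Finset.surjOn_of_injOn_of_card_le π hmaps (π.injective.injOn) le_rfl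
    obtain ⟨j, hj, hji⟩ := hsurj (by simpa using hi : i ∈ (Finset.range N : Set ℕ))
    simp only [Finset.coe_range, Set.mem_Iio] at hj
    have : π⁻¹ i = j := by rw [Equiv.Perm.inv_eq_iff_eq]; exact hji.symm
    rw [this]
    exact ⟨by rw [← hji]; exact ((h j hj).1).symm, hj⟩

def pCls (k i : ℕ) : Bool := Nat.beq (oid (evalC (subW k) i)) (oid i)

def pClsK (cw : List ℕ) (i : ℕ) : Bool := Nat.beq (oid (evalK cw i)) (oid i)

def kS0 : List ℕ := [c0]

theorem CLS0_0 : allR 0 416 (pClsK kS0) = true := by decide +kernel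

theorem CLS0_all : ∀ i, i < N → (pClsK kS0) i = true := by
  intro i hi
  have hN : N = 416 := rfl
  exact (allR_iff _ _ _).mp CLS0_0 i (by omega) (by omega)

theorem CLSW0 : ∀ i, i < N → pCls 0 i = true := fun i hi => by
  rw [pCls, evalC_eq_evalK, show (subW 0).map colOf = kS0 from rfl]
  exact CLS0_all i hi

def kS1 : List ℕ := [c1]

theorem CLS1_0 : allR 0 416 (pClsK kS1) = true := by decide +kernel

theorem CLS1_all : ∀ i, i < N → (pClsK kS1) i = true := by
  intro i hi
  have hN : N = 416 := rfl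
  exact (allR_iff _ _ _).mp CLS1_0 i (by omega) (by omega)

theorem CLSW1 : ∀ i, i < N → pCls 1 i = true := fun i hi => by
  rw [pCls, evalC_eq_evalK, show (subW 1).map colOf = kS1 from rfl]
  exact CLS1_all i hi

def kS2 : List ℕ := [c2]

theorem CLS2_0 : allR 0 416 (pClsK kS2) = true := by decide +kernel

theorem CLS2_all : ∀ i, i < N → (pClsK kS2) i = true := by
  intro i hi
  have hN : N = 416 := rfl
  exact (allR_iff _ _ _).mp CLS2_0 i (by omega) (by omega)

theorem CLSW2 : ∀ i, i < N → pCls 2 i = true := fun i hi => by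
  rw [pCls, evalC_eq_evalK, show (subW 2).map colOf = kS2 from rfl]
  exact CLS2_all i hi

def kS3 : List ℕ := [c3]

theorem CLS3_0 : allR 0 416 (pClsK kS3) = true := by decide +kernel

theorem CLS3_all : ∀ i, i < N → (pClsK kS3) i = true := by
  intro i hi
  have hN : N = 416 := rfl
  exact (allR_iff _ _ _).mp CLS3_0 i (by omega) (by omega)

theorem CLSW3 : ∀ i, i < N → pCls 3 i = true := fun i hi => by
  rw [pCls, evalC_eq_evalK, show (subW 3).map colOf = kS3 from rfl]
  exact CLS3_all i hi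

def kS4 : List ℕ := [c4]

theorem CLS4_0 : allR 0 416 (pClsK kS4) = true := by decide +kernel

theorem CLS4_all : ∀ i, i < N → (pClsK kS4) i = true := by
  intro i hi
  have hN : N = 416 := rfl
  exact (allR_iff _ _ _).mp CLS4_0 i (by omega) (by omega)

theorem CLSW4 : ∀ i, i < N → pCls 4 i = true := fun i hi => by
  rw [pCls, evalC_eq_evalK, show (subW 4).map colOf = kS4 from rfl]
  exact CLS4_all i hi

theorem CLS_all : ∀ k, k < nsub → ∀ i, i < N → pCls k i = true := by
  intro k hk
  unfold nsub at hk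
  interval_cases k
  · exact CLSW0
  · exact CLSW1
  · exact CLSW2
  · exact CLSW3
  · exact CLSW4

theorem phi_cls : ∀ h ∈ Hs, ∀ i, i < N → oid (phi h i) = oid i := by
  intro h hh i hi
  have := Hs_le ClsStab (fun k hk => by
    intro i hi
    rw [permw_apply]
    refine ⟨?_, evalw_lt _ hi⟩
    rw [evalw_eq_evalC _ (subW_lt hk) hi]
    exact nbeq.mp (CLS_all k hk i hi)) h hh
  exact (this i hi).1

def pOrb (i : ℕ) : Bool :=
  Nat.beq i (oroot (oid i)) ||
    (Nat.ble (Nat.succ (opar i)) N && Nat.beq (oid (opar i)) (oid i) &&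
      Nat.ble (Nat.succ (odep (opar i))) (odep i) &&
      Nat.ble (Nat.succ (olet i)) nsub && Nat.beq (evalC (subW (olet i)) (opar i)) i)

theorem ORB_0 : allR 0 416 (pOrb) = true := by decide +kernel

theorem ORB_all : ∀ i, i < N → (pOrb) i = true := by
  intro i hi
  have hN : N = 416 := rfl
  exact (allR_iff _ _ _).mp ORB_0 i (by omega) (by omega)

theorem orb_reach (c : ℕ) : ∀ d i, i < N → odep i = d → oid i = c →
    ∃ h ∈ Hs, phi h (oroot c) = i := by
  intro d
  induction d using Nat.strong_induction_on with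
  | _ d ih =>
    intro i hi hd hc
    have h := ORB_all i hi
    simp only [pOrb, Bool.or_eq_true, Bool.and_eq_true, nble_succ, nbeq] at h
    rcases h with h | ⟨⟨⟨⟨h1, h2⟩, h3⟩, h4⟩, h5⟩
    · exact ⟨1, Hs.one_mem, by rw [map_one, Equiv.Perm.one_apply, ← hc, ← h]⟩
    · obtain ⟨h', hh', e⟩ := ih (odep (opar i)) (hd ▸ h3) (opar i) h1 rfl (h2.trans hc)
      obtain ⟨s, hs, es⟩ := subW_mem (olet i) h4
      refine ⟨PresentedGroup.mk Rels s * h', Hs.mul_mem ?_ hh', ?_⟩
      · rw [Hs_eq]
        exact Subgroup.mem_map_of_mem _ (Subgroup.subset_closure hs)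
      · rw [map_mul, Equiv.Perm.mul_apply, e, es, permw_apply,
          evalw_eq_evalC _ (subW_lt h4) h1, h5]

theorem orbit_ncard (c r : ℕ) (hr : r < N) (hroot : oroot c = r) (hc : oid r = c) :
    (MulAction.orbit Hs (nd r)).ncard = ((Finset.range N).filter (fun i => oid i = c)).card := by
  rw [TCG.orbit_ncard_eq Hs phi hH psi_inj (nd r) ↑((Finset.range N).filter (fun i => oid i = c)),
    Set.ncard_coe_finset]
  · intro h hh
    show phi h (psiQ (nd r)) ∈ _
    rw [hpsi r hr]
    simp only [Finset.coe_filter, Finset.mem_range, Set.mem_setOf_eq]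
    exact ⟨phi_lt h hr, (phi_cls h hh r hr).trans hc⟩
  · intro i hi
    simp only [Finset.coe_filter, Finset.mem_range, Set.mem_setOf_eq] at hi
    obtain ⟨h, hh, e⟩ := orb_reach c (odep i) i hi.1 rfl hi.2
    refine ⟨h, hh, ?_⟩
    show phi h (psiQ (nd r)) = i
    rw [hpsi r hr, ← hroot, e]

theorem orbit_ne (r r' : ℕ) (hr : r < N) (hr' : r' < N) (hne : oid r ≠ oid r') :
    MulAction.orbit Hs (nd r) ≠ MulAction.orbit Hs (nd r') := by
  intro heq
  have hmem : nd r' ∈ MulAction.orbit Hs (nd r) := heq ▸ MulAction.mem_orbit_self _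
  obtain ⟨⟨h, hh⟩, e⟩ := hmem
  have e' : h • nd r = nd r' := e
  have := congrArg psiQ e'
  unfold psiQ at this
  rw [TCG.psi_smul] at this
  have h1 : phi h r = r' := by
    have a1 := hpsi r hr
    have a2 := hpsi r' hr'
    unfold psiQ at a1 a2
    rw [a1, a2] at this
    exact this
  exact hne ((phi_cls h hh r hr).symm.trans (by rw [h1]))


end Cfsg.Agent.Helper17.SuzP1TC
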