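import Cfsg.Agent.Helper17.SuzP1TC.Lemmas

set_option autoImplicit false
set_option linter.all false

noncomputable section

namespace Cfsg.Agent.Helper17.SuzP1TC

theorem F1 : act 0 n0 = n0 := d18_0 B0 
theorem F2 : act 1 n0 = n0 := d19_0 B1 
theorem F3 : act 2 n0 = n0 := d20_0 B2 
theorem F4 : act 3 n0 = n0 := d21_0 B3 
theorem F5 : act 4 n0 = n0 := d22_0 B4 
def n1 : Q := act 5 n0
theorem D1 : act 5 n0 = n1 := rfl
theorem F6 : act 0 n1 = n1 := d4_1 D1 (iv D1) F1
theorem F7 : act 2 n1 = n1 := d11_1 D1 (iv D1) F3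
theorem F8 : act 3 n1 = n1 := d13_1 D1 (iv D1) F4
theorem F9 : act 4 n1 = n1 := d14_1 D1 (iv D1) F5
def n2 : Q := act 1 n1
theorem D2 : act 1 n1 = n2 := rfl
theorem F10 : act 3 n2 = n2 := d6_2 F8 D2 (iv D2)
theorem F11 : act 4 n2 = n2 := d7_2 F9 D2 (iv D2)
theorem F12 : act 5 n2 = n2 := d8_2 D1 D2 (iv D2) (iv D1) F2
def n3 : Q := act 0 n2
theorem D3 : act 0 n2 = n3 := rfl
theorem F13 : act 3 n3 = n3 := d2_2 F10 D3 (iv D3)
theorem F14 : act 4 n3 = n3 := d3_2 F11 D3 (iv D3)
theorem F15 : act 5 n3 = n3 := d4_2 F12 D3 (iv D3)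
def n4 : Q := act 2 n2
theorem D4 : act 2 n2 = n4 := rfl
theorem F16 : act 1 n4 = n4 := d5_1 D4 (iv D4) (iv D2) F7 D2
theorem F17 : act 4 n4 = n4 := d10_2 F11 D4 (iv D4)
theorem F18 : act 5 n4 = n4 := d11_2 F12 D4 (iv D4)
def n5 : Q := act 1 n3
theorem D5 : act 1 n3 = n5 := rfl
theorem F19 : act 3 n5 = n5 := d6_2 F13 D5 (iv D5)
theorem F20 : act 4 n5 = n5 := d7_2 F14 D5 (iv D5)
def n6 : Q := act 2 n3
theorem D6 : act 2 n3 = n6 := rfl
theorem F21 : act 0 n6 = n4 := d1_1 D6 (iv D4) D3
theorem F22 : act 4 n6 = n6 := d10_2 F14 D6 (iv D6)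
theorem F23 : act 5 n6 = n6 := d11_2 F15 D6 (iv D6)
def n7 : Q := act 3 n4
theorem D7 : act 3 n4 = n7 := rfl
theorem F24 : act 1 n7 = n7 := d6_1 D7 (iv D7) F16
theorem F25 : act 5 n7 = n7 := d13_2 F18 D7 (iv D7)
def n8 : Q := act 0 n5
theorem D8 : act 0 n5 = n8 := rfl
theorem F26 : act 1 n8 = n8 := d0_2 D5 D8 (iv D8) (iv D5) (iv D3) (iv D2) F6 D2 D3
theorem F27 : act 3 n8 = n8 := d2_2 F19 D8 (iv D8)
theorem F28 : act 4 n8 = n8 := d3_2 F20 D8 (iv D8)
def n9 : Q := act 2 n5
theorem D9 : act 2 n5 = n9 := rfl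
theorem F29 : act 4 n9 = n9 := d10_2 F20 D9 (iv D9)
def n10 : Q := act 5 n5
theorem D10 : act 5 n5 = n10 := rfl
def n11 : Q := act 1 n6
theorem D11 : act 1 n6 = n11 := rfl
theorem F33 : act 4 n11 = n11 := d7_2 F22 D11 (iv D11)
def n12 : Q := act 3 n6
theorem D12 : act 3 n6 = n12 := rfl
theorem F34 : act 0 n12 = n7 := d2_1 D12 (iv D7) (iv F21)
theorem F35 : act 5 n12 = n12 := d13_2 F23 D12 (iv D12)
def n13 : Q := act 2 n7
theorem D13 : act 2 n7 = n13 := rfl
theorem F36 : act 5 n13 = n13 := d11_2 F25 D13 (iv D13)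
def n14 : Q := act 4 n7
theorem D14 : act 4 n7 = n14 := rfl
theorem F37 : act 1 n14 = n14 := d7_1 D14 (iv D14) F24
theorem F38 : act 3 n14 = n14 := d12_1 D14 (iv D14) (iv D7) F17 D7
theorem F39 : act 5 n14 = n14 := d14_2 F25 D14 (iv D14)
def n15 : Q := act 2 n8
theorem D15 : act 2 n8 = n15 := rfl
theorem F40 : act 0 n15 = n9 := d1_1 D15 (iv D9) D8
theorem F41 : act 4 n15 = n15 := d10_2 F28 D15 (iv D15)
def n16 : Q := act 5 n8
theorem D16 : act 5 n8 = n16 := rfl
theorem F42 : act 0 n16 = n10 := d4_1 D16 (iv D10) D8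
def n17 : Q := act 1 n9
theorem D17 : act 1 n9 = n17 := rfl
theorem F45 : act 2 n17 = n11 := d5_2 D9 D17 (iv D11) (iv D6) D5
theorem F46 : act 4 n17 = n17 := d7_2 F29 D17 (iv D17)
def n18 : Q := act 3 n9
theorem D18 : act 3 n9 = n18 := rfl
def n19 : Q := act 5 n9
theorem D19 : act 5 n9 = n19 := rfl
theorem F47 : act 2 n19 = n10 := d11_1 D19 (iv D10) D9
theorem F48 : act 4 n19 = n19 := d14_1 D19 (iv D19) F29
def n20 : Q := act 0 n11
theorem D20 : act 0 n11 = n20 := rfl
theorem F49 : act 4 n20 = n20 := d3_2 F33 D20 (iv D20)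
theorem F50 : act 5 n20 = n17 := d16_4 F15 D6 D11 D20 F45 (iv D11) F21 F18 (iv D4) (iv D2) F6 (iv D1) F3 F2 F1 D1 F7 D2 D3
def n21 : Q := act 3 n11
theorem D21 : act 3 n11 = n21 := rfl
theorem F51 : act 1 n21 = n12 := d6_1 D21 (iv D12) D11
def n22 : Q := act 5 n11
theorem D22 : act 5 n11 = n22 := rfl
theorem F52 : act 0 n22 = n17 := d4_1 D22 (iv F50) (iv D20)
theorem F53 : act 1 n22 = n22 := d8_1 D22 (iv D22) (iv D11) F23 D11
theorem F54 : act 2 n22 = n20 := d11_1 D22 F50 F45
theorem F55 : act 4 n22 = n22 := d14_1 D22 (iv D22) F33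
def n23 : Q := act 2 n12
theorem D23 : act 2 n12 = n23 := rfl
theorem F56 : act 0 n23 = n13 := d1_1 D23 (iv D13) (iv F34)
theorem F57 : act 5 n23 = n23 := d11_2 F35 D23 (iv D23)
theorem F58 : act 3 n23 = n13 := d15_1 D23 (iv D13) (iv D7) (iv D4) F10 D4 D7 (iv F34)
def n24 : Q := act 4 n12
theorem D24 : act 4 n12 = n24 := rfl
theorem F59 : act 0 n24 = n14 := d3_1 D24 (iv D14) (iv F34)
theorem F60 : act 3 n24 = n24 := d12_1 D24 (iv D24) (iv D12) F22 D12
theorem F61 : act 5 n24 = n24 := d14_2 F35 D24 (iv D24)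
def n25 : Q := act 1 n13
theorem D25 : act 1 n13 = n25 := rfl
theorem F62 : act 2 n25 = n25 := d5_2 D13 D25 (iv D25) (iv D13) F24
def n26 : Q := act 4 n13
theorem D26 : act 4 n13 = n26 := rfl
theorem F63 : act 2 n26 = n14 := d10_1 D26 (iv D14) D13
theorem F64 : act 5 n26 = n26 := d14_2 F36 D26 (iv D26)
def n27 : Q := act 1 n15
theorem D27 : act 1 n15 = n27 := rfl
theorem F65 : act 0 n27 = n27 := d0_1 D27 (iv D27) F40 D17 (iv F52) F53 F52 (iv D17) (iv F40)
theorem F66 : act 2 n27 = n27 := d5_2 D15 D27 (iv D27) (iv D15) F26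
theorem F67 : act 4 n27 = n27 := d7_2 F41 D27 (iv D27)
def n28 : Q := act 3 n15
theorem D28 : act 3 n15 = n28 := rfl
theorem F68 : act 0 n28 = n18 := d2_1 D28 (iv D18) (iv F40)
def n29 : Q := act 5 n15
theorem D29 : act 5 n15 = n29 := rfl
def n31 : Q := act 3 n17
theorem D31 : act 3 n17 = n31 := rfl
theorem F75 : act 1 n31 = n18 := d6_1 D31 (iv D18) D17
def n32 : Q := act 2 n18
theorem D32 : act 2 n18 = n32 := rfl
def n33 : Q := act 4 n18
theorem D33 : act 4 n18 = n33 := rfl
theorem F76 : act 3 n33 = n33 := d12_1 D33 (iv D33) (iv D18) F29 D18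
def n34 : Q := act 5 n18
theorem D34 : act 5 n18 = n34 := rfl
theorem F77 : act 3 n34 = n19 := d13_1 D34 (iv D19) D18
def n35 : Q := act 1 n19
theorem D35 : act 1 n19 = n35 := rfl
theorem F79 : act 4 n35 = n35 := d7_2 F48 D35 (iv D35)
def n36 : Q := act 1 n20
theorem D36 : act 1 n20 = n36 := rfl
theorem F80 : act 0 n36 = n36 := d0_1 D36 (iv D36) (iv D20) (iv D11) F21 F16 (iv F21) D11 D20
theorem F81 : act 2 n36 = n36 := d5_2 F54 D36 (iv D36) (iv F54) F53
theorem F82 : act 4 n36 = n36 := d7_2 F49 D36 (iv D36)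
theorem F83 : act 5 n36 = n35 := d8_2 (iv F50) D36 (iv D35) (iv D19) D17
def n37 : Q := act 3 n20
theorem D37 : act 3 n20 = n37 := rfl
theorem F85 : act 0 n37 = n21 := d2_1 D37 (iv D21) D20
theorem F86 : act 5 n37 = n31 := d13_2 (iv F50) D37 (iv D31)
def n38 : Q := act 2 n21
theorem D38 : act 2 n21 = n38 := rfl
def n39 : Q := act 4 n21
theorem D39 : act 4 n21 = n39 := rfl
theorem F87 : act 1 n39 = n24 := d7_1 D39 (iv D24) (iv F51)
theorem F88 : act 3 n39 = n39 := d12_1 D39 (iv D39) (iv D21) F33 D21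
def n40 : Q := act 5 n21
theorem D40 : act 5 n21 = n40 := rfl
theorem F89 : act 0 n40 = n31 := d4_1 D40 (iv F86) F85
theorem F90 : act 1 n40 = n40 := d8_1 D40 (iv D40) F51 F35 (iv F51)
theorem F91 : act 3 n40 = n22 := d13_1 D40 (iv D22) D21
def n41 : Q := act 1 n23
theorem D41 : act 1 n23 = n41 := rfl
theorem F92 : act 3 n41 = n25 := d6_2 (iv F58) D41 (iv D25)
def n42 : Q := act 4 n23
theorem D42 : act 4 n23 = n42 := rfl
theorem F93 : act 0 n42 = n26 := d3_1 D42 (iv D26) (iv F56)
theorem F94 : act 2 n42 = n24 := d10_1 D42 (iv D24) D23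
theorem F95 : act 5 n42 = n42 := d14_2 F57 D42 (iv D42)
def n43 : Q := act 0 n25
theorem D43 : act 0 n25 = n43 := rfl
theorem F96 : act 2 n43 = n43 := d1_2 F62 D43 (iv D43)
def n44 : Q := act 4 n25
theorem D44 : act 4 n25 = n44 := rfl
theorem F97 : act 1 n44 = n26 := d7_1 D44 (iv D26) D25
theorem F98 : act 2 n44 = n44 := d10_1 D44 (iv D44) F62
def n45 : Q := act 5 n25
theorem D45 : act 5 n25 = n45 := rfl
theorem F99 : act 1 n45 = n45 := d8_1 D45 (iv D45) (iv D25) F36 D25
theorem F100 : act 2 n45 = n45 := d11_1 D45 (iv D45) F62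
def n46 : Q := act 3 n26
theorem D46 : act 3 n26 = n46 := rfl
theorem F101 : act 5 n46 = n46 := d13_2 F64 D46 (iv D46)
def n47 : Q := act 3 n27
theorem D47 : act 3 n27 = n47 := rfl
theorem F102 : act 0 n47 = n47 := d2_1 D47 (iv D47) F65
theorem F103 : act 1 n47 = n28 := d6_1 D47 (iv D28) D27
def n49 : Q := act 2 n28
theorem D49 : act 2 n28 = n49 := rfl
theorem F107 : act 0 n49 = n32 := d1_1 D49 (iv D32) (iv F68)
theorem F108 : act 3 n49 = n32 := d15_1 D49 (iv D32) (iv D18) (iv D9) F19 D9 D18 (iv F68)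
def n50 : Q := act 4 n28
theorem D50 : act 4 n28 = n50 := rfl
theorem F109 : act 0 n50 = n33 := d3_1 D50 (iv D33) (iv F68)
theorem F110 : act 3 n50 = n50 := d12_1 D50 (iv D50) (iv D28) F41 D28
def n51 : Q := act 5 n28
theorem D51 : act 5 n28 = n51 := rfl
theorem F111 : act 0 n51 = n34 := d4_1 D51 (iv D34) (iv F68)
theorem F112 : act 3 n51 = n29 := d13_1 D51 (iv D29) D28
def n55 : Q := act 2 n31
theorem D55 : act 2 n31 = n55 := rfl
def n56 : Q := act 4 n31
theorem D56 : act 4 n31 = n56 := rfl
theorem F119 : act 1 n56 = n33 := d7_1 D56 (iv D33) (iv F75)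
theorem F120 : act 3 n56 = n56 := d12_1 D56 (iv D56) (iv D31) F46 D31
def n57 : Q := act 1 n32
theorem D57 : act 1 n32 = n57 := rfl
def n58 : Q := act 4 n32
theorem D58 : act 4 n32 = n58 := rfl
theorem F121 : act 2 n58 = n33 := d10_1 D58 (iv D33) D32
def n59 : Q := act 5 n32
theorem D59 : act 5 n32 = n59 := rfl
theorem F122 : act 2 n59 = n34 := d11_1 D59 (iv D34) D32
def n60 : Q := act 5 n33
theorem D60 : act 5 n33 = n60 := rfl
theorem F123 : act 3 n60 = n60 := d13_1 D60 (iv D60) F76
theorem F124 : act 4 n60 = n34 := d14_1 D60 (iv D34) D33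
def n61 : Q := act 1 n34
theorem D61 : act 1 n34 = n61 := rfl
theorem F125 : act 3 n61 = n35 := d6_2 (iv F77) D61 (iv D35)
def n62 : Q := act 3 n36
theorem D62 : act 3 n36 = n62 := rfl
theorem F127 : act 0 n62 = n62 := d2_1 D62 (iv D62) F80
theorem F128 : act 1 n62 = n37 := d6_1 D62 (iv D37) D36
theorem F129 : act 5 n62 = n61 := d13_2 (iv F83) D62 F125
def n63 : Q := act 2 n37
theorem D63 : act 2 n37 = n63 := rfl
theorem F130 : act 0 n63 = n38 := d1_1 D63 (iv D38) (iv F85)
theorem F131 : act 5 n63 = n55 := d11_2 (iv F86) D63 (iv D55)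
def n64 : Q := act 4 n37
theorem D64 : act 4 n37 = n64 := rfl
theorem F132 : act 0 n64 = n39 := d3_1 D64 (iv D39) (iv F85)
theorem F133 : act 3 n64 = n64 := d12_1 D64 (iv D64) (iv D37) F49 D37
theorem F134 : act 5 n64 = n56 := d14_2 (iv F86) D64 (iv D56)
def n65 : Q := act 1 n38
theorem D65 : act 1 n38 = n65 := rfl
theorem F135 : act 2 n65 = n41 := d5_2 D38 D65 (iv D41) (iv D23) (iv F51)
def n66 : Q := act 3 n38
theorem D66 : act 3 n38 = n66 := rfl
def n67 : Q := act 4 n38
theorem D67 : act 4 n38 = n67 := rfl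
theorem F136 : act 2 n67 = n39 := d10_1 D67 (iv D39) D38
def n68 : Q := act 5 n38
theorem D68 : act 5 n38 = n68 := rfl
theorem F137 : act 0 n68 = n55 := d4_1 D68 (iv F131) F130
theorem F138 : act 2 n68 = n40 := d11_1 D68 (iv D40) D38
def n69 : Q := act 5 n39
theorem D69 : act 5 n39 = n69 := rfl
theorem F139 : act 0 n69 = n56 := d4_1 D69 (iv F134) F132
theorem F140 : act 1 n69 = n69 := d8_1 D69 (iv D69) F87 F61 (iv F87)
theorem F141 : act 3 n69 = n69 := d13_1 D69 (iv D69) F88
theorem F142 : act 4 n69 = n40 := d14_1 D69 (iv D40) D39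
def n70 : Q := act 0 n41
theorem D70 : act 0 n41 = n70 := rfl
theorem F143 : act 3 n70 = n43 := d2_2 (iv F92) D70 (iv D43)
def n71 : Q := act 4 n41
theorem D71 : act 4 n41 = n71 := rfl
theorem F144 : act 1 n71 = n42 := d7_1 D71 (iv D42) D41
def n72 : Q := act 5 n41
theorem D72 : act 5 n41 = n72 := rfl
theorem F145 : act 1 n72 = n72 := d8_1 D72 (iv D72) (iv D41) F57 D41
theorem F146 : act 3 n72 = n45 := d13_1 D72 (iv D45) (iv F92)
def n73 : Q := act 3 n42
theorem D73 : act 3 n42 = n73 := rfl
theorem F147 : act 0 n73 = n46 := d2_1 D73 (iv D46) (iv F93)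
theorem F148 : act 4 n73 = n46 := d12_2 D42 D73 (iv D46) (iv D26) (iv F58)
theorem F149 : act 5 n73 = n73 := d13_2 F95 D73 (iv D73)
def n74 : Q := act 1 n43
theorem D74 : act 1 n43 = n74 := rfl
def n75 : Q := act 4 n43
theorem D75 : act 4 n43 = n75 := rfl
theorem F150 : act 0 n75 = n44 := d3_1 D75 (iv D44) D43
theorem F151 : act 2 n75 = n75 := d10_1 D75 (iv D75) F96
def n76 : Q := act 5 n43
theorem D76 : act 5 n43 = n76 := rfl
theorem F152 : act 0 n76 = n45 := d4_1 D76 (iv D45) D43
theorem F153 : act 2 n76 = n76 := d11_1 D76 (iv D76) F96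
def n77 : Q := act 3 n44
theorem D77 : act 3 n44 = n77 := rfl
theorem F154 : act 1 n77 = n46 := d6_1 D77 (iv D46) (iv F97)
def n78 : Q := act 5 n44
theorem D78 : act 5 n44 = n78 := rfl
theorem F155 : act 1 n78 = n78 := d8_1 D78 (iv D78) F97 F64 (iv F97)
theorem F156 : act 2 n78 = n78 := d11_1 D78 (iv D78) F98
theorem F157 : act 4 n78 = n45 := d14_1 D78 (iv D45) D44
def n79 : Q := act 2 n46
theorem D79 : act 2 n46 = n79 := rfl
theorem F158 : act 5 n79 = n79 := d11_2 F101 D79 (iv D79)
def n80 : Q := act 2 n47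
theorem D80 : act 2 n47 = n80 := rfl
def n81 : Q := act 4 n47
theorem D81 : act 4 n47 = n81 := rfl
theorem F160 : act 0 n81 = n81 := d3_1 D81 (iv D81) F102
theorem F161 : act 1 n81 = n50 := d7_1 D81 (iv D50) (iv F103)
theorem F162 : act 3 n81 = n81 := d12_1 D81 (iv D81) (iv D47) F67 D47
def n82 : Q := act 5 n47
theorem D82 : act 5 n47 = n82 := rfl
def n84 : Q := act 1 n49
theorem D84 : act 1 n49 = n84 := rfl
theorem F167 : act 3 n84 = n57 := d6_2 (iv F108) D84 (iv D57)
def n85 : Q := act 4 n49
theorem D85 : act 4 n49 = n85 := rfl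
theorem F168 : act 0 n85 = n58 := d3_1 D85 (iv D58) (iv F107)
theorem F169 : act 2 n85 = n50 := d10_1 D85 (iv D50) D49
def n86 : Q := act 5 n49
theorem D86 : act 5 n49 = n86 := rfl
theorem F170 : act 0 n86 = n59 := d4_1 D86 (iv D59) (iv F107)
theorem F171 : act 2 n86 = n51 := d11_1 D86 (iv D51) D49
def n87 : Q := act 5 n50
theorem D87 : act 5 n50 = n87 := rfl
theorem F174 : act 3 n87 = n87 := d13_1 D87 (iv D87) F110
theorem F175 : act 4 n87 = n51 := d14_1 D87 (iv D51) D50
def n94 : Q := act 1 n55
theorem D94 : act 1 n55 = n94 := rfl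
theorem F193 : act 2 n94 = n57 := d5_2 D55 D94 (iv D57) (iv D32) (iv F75)
def n95 : Q := act 3 n55
theorem D95 : act 3 n55 = n95 := rfl
def n96 : Q := act 4 n55
theorem D96 : act 4 n55 = n96 := rfl
theorem F194 : act 2 n96 = n56 := d10_1 D96 (iv D56) D55
def n97 : Q := act 0 n57
theorem D97 : act 0 n57 = n97 := rfl
def n98 : Q := act 4 n57
theorem D98 : act 4 n57 = n98 := rfl
theorem F195 : act 1 n98 = n58 := d7_1 D98 (iv D58) D57
def n99 : Q := act 5 n57
theorem D99 : act 5 n57 = n99 := rfl
def n100 : Q := act 3 n58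
theorem D100 : act 3 n58 = n100 := rfl
def n101 : Q := act 5 n58
theorem D101 : act 5 n58 = n101 := rfl
theorem F196 : act 2 n101 = n60 := d11_1 D101 (iv D60) (iv F121)
def n103 : Q := act 1 n60
theorem D103 : act 1 n60 = n103 := rfl
theorem F198 : act 3 n103 = n103 := d6_2 F123 D103 (iv D103)
theorem F199 : act 4 n103 = n61 := d7_2 (iv F124) D103 (iv D61)
def n105 : Q := act 2 n62
theorem D105 : act 2 n62 = n105 := rfl
def n106 : Q := act 4 n62
theorem D106 : act 4 n62 = n106 := rfl
theorem F204 : act 0 n106 = n106 := d3_1 D106 (iv D106) F127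
theorem F205 : act 1 n106 = n64 := d7_1 D106 (iv D64) (iv F128)
theorem F206 : act 3 n106 = n106 := d12_1 D106 (iv D106) (iv D62) F82 D62
theorem F207 : act 5 n106 = n103 := d14_2 (iv F129) D106 F199
def n107 : Q := act 1 n63
theorem D107 : act 1 n63 = n107 := rfl
def n108 : Q := act 3 n63
theorem D108 : act 3 n63 = n108 := rfl
theorem F208 : act 0 n108 = n66 := d2_1 D108 (iv D66) (iv F130)
theorem F209 : act 5 n108 = n95 := d13_2 (iv F131) D108 (iv D95)
theorem F210 : act 2 n108 = n95 := d15_2 D63 D108 (iv D95) (iv D55) (iv D31) F45 D21 (iv F85)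
def n109 : Q := act 4 n63
theorem D109 : act 4 n63 = n109 := rfl
theorem F211 : act 0 n109 = n67 := d3_1 D109 (iv D67) (iv F130)
theorem F212 : act 2 n109 = n64 := d10_1 D109 (iv D64) D63
theorem F213 : act 5 n109 = n96 := d14_2 (iv F131) D109 (iv D96)
def n110 : Q := act 0 n65
theorem D110 : act 0 n65 = n110 := rfl
theorem F214 : act 2 n110 = n70 := d1_2 (iv F135) D110 (iv D70)
def n111 : Q := act 3 n65
theorem D111 : act 3 n65 = n111 := rfl
theorem F215 : act 1 n111 = n66 := d6_1 D111 (iv D66) D65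
def n112 : Q := act 4 n65
theorem D112 : act 4 n65 = n112 := rfl
theorem F216 : act 1 n112 = n67 := d7_1 D112 (iv D67) D65
theorem F217 : act 2 n112 = n71 := d10_1 D112 (iv D71) (iv F135)
def n113 : Q := act 5 n65
theorem D113 : act 5 n65 = n113 := rfl
theorem F218 : act 2 n113 = n72 := d11_1 D113 (iv D72) (iv F135)
def n114 : Q := act 2 n66
theorem D114 : act 2 n66 = n114 := rfl
theorem F219 : act 0 n114 = n95 := d1_1 D114 (iv F210) F208
theorem F220 : act 3 n114 = n68 := d9_2 D66 D114 F138 F91 F54 D37 D63 D108 F210 (iv D95) (iv D55) (iv D31) F45 D21 D38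
theorem F221 : act 5 n66 = n114 := d13_0 F220 (iv D68) D66
def n115 : Q := act 4 n66
theorem D115 : act 4 n66 = n115 := rfl
def n116 : Q := act 3 n67
theorem D116 : act 3 n67 = n116 := rfl
def n117 : Q := act 5 n67
theorem D117 : act 5 n67 = n117 := rfl
theorem F222 : act 0 n117 = n96 := d4_1 D117 (iv F213) F211
theorem F223 : act 2 n117 = n69 := d11_1 D117 (iv D69) (iv F136)
theorem F224 : act 4 n117 = n68 := d14_1 D117 (iv D68) D67
def n118 : Q := act 1 n68
theorem D118 : act 1 n68 = n118 := rfl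
theorem F225 : act 2 n118 = n118 := d5_2 (iv F138) D118 (iv D118) F138 F90
def n119 : Q := act 1 n70
theorem D119 : act 1 n70 = n119 := rfl
def n120 : Q := act 4 n70
theorem D120 : act 4 n70 = n120 := rfl
theorem F227 : act 0 n120 = n71 := d3_1 D120 (iv D71) D70
def n121 : Q := act 5 n70
theorem D121 : act 5 n70 = n121 := rfl
theorem F228 : act 0 n121 = n72 := d4_1 D121 (iv D72) D70
theorem F229 : act 3 n121 = n76 := d13_1 D121 (iv D76) (iv F143)
def n122 : Q := act 3 n71
theorem D122 : act 3 n71 = n122 := rfl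
theorem F230 : act 1 n122 = n73 := d6_1 D122 (iv D73) (iv F144)
theorem F231 : act 4 n122 = n77 := d12_2 D71 D122 (iv D77) (iv D44) (iv F92)
def n123 : Q := act 5 n71
theorem D123 : act 5 n71 = n123 := rfl
theorem F232 : act 1 n123 = n123 := d8_1 D123 (iv D123) F144 F95 (iv F144)
theorem F233 : act 4 n123 = n72 := d14_1 D123 (iv D72) D71
def n124 : Q := act 2 n73
theorem D124 : act 2 n73 = n124 := rfl
theorem F234 : act 0 n124 = n79 := d1_1 D124 (iv D79) (iv F147)
theorem F235 : act 4 n124 = n79 := d10_2 (iv F148) D124 (iv D79)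
theorem F236 : act 5 n124 = n124 := d11_2 F149 D124 (iv D124)
theorem F237 : act 3 n124 = n79 := d15_1 D124 (iv D79) (iv D46) F63 F38 (iv F63) D46 (iv F147)
def n125 : Q := act 0 n74
theorem D125 : act 0 n74 = n125 := rfl
def n127 : Q := act 4 n74
theorem D127 : act 4 n74 = n127 := rfl
theorem F239 : act 1 n127 = n75 := d7_1 D127 (iv D75) D74
def n128 : Q := act 5 n74
theorem D128 : act 5 n74 = n128 := rfl
def n129 : Q := act 3 n75
theorem D129 : act 3 n75 = n129 := rfl
theorem F240 : act 0 n129 = n77 := d2_1 D129 (iv D77) (iv F150)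
def n130 : Q := act 5 n75
theorem D130 : act 5 n75 = n130 := rfl
theorem F241 : act 0 n130 = n78 := d4_1 D130 (iv D78) (iv F150)
theorem F242 : act 2 n130 = n130 := d11_1 D130 (iv D130) F151
theorem F243 : act 4 n130 = n76 := d14_1 D130 (iv D76) D75
def n131 : Q := act 1 n76
theorem D131 : act 1 n76 = n131 := rfl
def n132 : Q := act 2 n77
theorem D132 : act 2 n77 = n132 := rfl
def n133 : Q := act 5 n77
theorem D133 : act 5 n77 = n133 := rfl
theorem F244 : act 1 n133 = n133 := d8_1 D133 (iv D133) F154 F101 (iv F154)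
theorem F245 : act 3 n133 = n78 := d13_1 D133 (iv D78) D77
def n134 : Q := act 1 n79
theorem D134 : act 1 n79 = n134 := rfl
def n135 : Q := act 1 n80
theorem D135 : act 1 n80 = n135 := rfl
theorem F246 : act 2 n135 = n84 := d5_2 D80 D135 (iv D84) (iv D49) (iv F103)
def n136 : Q := act 3 n80
theorem D136 : act 3 n80 = n136 := rfl
def n137 : Q := act 4 n80
theorem D137 : act 4 n80 = n137 := rfl
theorem F250 : act 2 n137 = n81 := d10_1 D137 (iv D81) D80
def n141 : Q := act 0 n84
theorem D141 : act 0 n84 = n141 := rfl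
theorem F258 : act 3 n141 = n97 := d2_2 (iv F167) D141 (iv D97)
def n142 : Q := act 4 n84
theorem D142 : act 4 n84 = n142 := rfl
def n144 : Q := act 3 n85
theorem D144 : act 3 n85 = n144 := rfl
theorem F261 : act 0 n144 = n100 := d2_1 D144 (iv D100) (iv F168)
theorem F262 : act 4 n144 = n100 := d12_2 D85 D144 (iv D100) (iv D58) (iv F108)
def n145 : Q := act 5 n85
theorem D145 : act 5 n85 = n145 := rfl
theorem F263 : act 0 n145 = n101 := d4_1 D145 (iv D101) (iv F168)
def n155 : Q := act 0 n94
theorem D155 : act 0 n94 = n155 := rfl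
theorem F285 : act 2 n155 = n97 := d1_2 (iv F193) D155 (iv D97)
def n156 : Q := act 3 n94
theorem D156 : act 3 n94 = n156 := rfl
theorem F286 : act 1 n156 = n95 := d6_1 D156 (iv D95) D94
def n157 : Q := act 4 n94
theorem D157 : act 4 n94 = n157 := rfl
theorem F287 : act 1 n157 = n96 := d7_1 D157 (iv D96) D94
theorem F288 : act 2 n157 = n98 := d10_1 D157 (iv D98) (iv F193)
def n158 : Q := act 5 n94
theorem D158 : act 5 n94 = n158 := rfl
theorem F289 : act 2 n158 = n99 := d11_1 D158 (iv D99) (iv F193)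
def n159 : Q := act 4 n95
theorem D159 : act 4 n95 = n159 := rfl
def n160 : Q := act 3 n96
theorem D160 : act 3 n96 = n160 := rfl
def n161 : Q := act 1 n97
theorem D161 : act 1 n97 = n161 := rfl
def n162 : Q := act 4 n97
theorem D162 : act 4 n97 = n162 := rfl
theorem F290 : act 0 n162 = n98 := d3_1 D162 (iv D98) D97
def n163 : Q := act 5 n97
theorem D163 : act 5 n97 = n163 := rfl
theorem F291 : act 0 n163 = n99 := d4_1 D163 (iv D99) D97
def n164 : Q := act 3 n98
theorem D164 : act 3 n98 = n164 := rfl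
theorem F292 : act 1 n164 = n100 := d6_1 D164 (iv D100) (iv F195)
def n165 : Q := act 5 n98
theorem D165 : act 5 n98 = n165 := rfl
def n167 : Q := act 2 n100
theorem D167 : act 2 n100 = n167 := rfl
def n168 : Q := act 5 n100
theorem D168 : act 5 n100 = n168 := rfl
def n174 : Q := act 1 n105
theorem D174 : act 1 n105 = n174 := rfl
theorem F302 : act 2 n174 = n107 := d5_2 D105 D174 (iv D107) (iv D63) (iv F128)
def n175 : Q := act 3 n105
theorem D175 : act 3 n105 = n175 := rfl
def n176 : Q := act 4 n105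
theorem D176 : act 4 n105 = n176 := rfl
def n177 : Q := act 0 n107
theorem D177 : act 0 n107 = n177 := rfl
def n178 : Q := act 3 n107
theorem D178 : act 3 n107 = n178 := rfl
theorem F309 : act 1 n178 = n108 := d6_1 D178 (iv D108) D107
def n179 : Q := act 4 n107
theorem D179 : act 4 n107 = n179 := rfl
theorem F310 : act 1 n179 = n109 := d7_1 D179 (iv D109) D107
def n180 : Q := act 5 n107
theorem D180 : act 5 n107 = n180 := rfl
theorem F311 : act 1 n180 = n158 := d8_1 D180 (iv D158) (iv D94) (iv F131) D107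
def n181 : Q := act 4 n108
theorem D181 : act 4 n108 = n181 := rfl
theorem F312 : act 0 n181 = n115 := d3_1 D181 (iv D115) (iv F208)
theorem F313 : act 2 n181 = n159 := d10_1 D181 (iv D159) (iv F210)
theorem F314 : act 5 n181 = n159 := d14_2 (iv F209) D181 (iv D159)
def n182 : Q := act 3 n109
theorem D182 : act 3 n109 = n182 := rfl
theorem F315 : act 0 n182 = n116 := d2_1 D182 (iv D116) (iv F211)
theorem F316 : act 5 n182 = n160 := d13_2 (iv F213) D182 (iv D160)
def n183 : Q := act 1 n110
theorem D183 : act 1 n110 = n183 := rfl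
def n184 : Q := act 3 n110
theorem D184 : act 3 n110 = n184 := rfl
theorem F317 : act 0 n184 = n111 := d2_1 D184 (iv D111) D110
theorem F318 : act 2 n184 = n111 := d15_2 (iv F214) D184 (iv D111) F135 F92 F62 (iv F92) D70
def n185 : Q := act 4 n110
theorem D185 : act 4 n110 = n185 := rfl
theorem F319 : act 0 n185 = n112 := d3_1 D185 (iv D112) D110
theorem F320 : act 2 n185 = n120 := d10_1 D185 (iv D120) (iv F214)
def n186 : Q := act 5 n110
theorem D186 : act 5 n110 = n186 := rfl
theorem F321 : act 0 n186 = n113 := d4_1 D186 (iv D113) D110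
theorem F322 : act 2 n186 = n121 := d11_1 D186 (iv D121) (iv F214)
def n187 : Q := act 4 n111
theorem D187 : act 4 n111 = n187 := rfl
theorem F323 : act 1 n187 = n115 := d7_1 D187 (iv D115) (iv F215)
def n188 : Q := act 5 n111
theorem D188 : act 5 n111 = n188 := rfl
theorem F324 : act 3 n188 = n113 := d13_1 D188 (iv D113) D111
def n189 : Q := act 3 n112
theorem D189 : act 3 n112 = n189 := rfl
theorem F325 : act 1 n189 = n116 := d6_1 D189 (iv D116) (iv F216)
def n190 : Q := act 5 n112
theorem D190 : act 5 n112 = n190 := rfl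
theorem F326 : act 2 n190 = n123 := d11_1 D190 (iv D123) (iv F217)
theorem F327 : act 4 n190 = n113 := d14_1 D190 (iv D113) D112
def n192 : Q := act 1 n114
theorem D192 : act 1 n114 = n192 := rfl
theorem F330 : act 3 n192 = n118 := d6_2 (iv F220) D192 (iv D118)
def n193 : Q := act 4 n114
theorem D193 : act 4 n114 = n193 := rfl
theorem F331 : act 0 n193 = n159 := d3_1 D193 (iv D159) (iv F219)
theorem F332 : act 2 n193 = n115 := d10_1 D193 (iv D115) D114
theorem F333 : act 5 n193 = n115 := d14_2 F221 D193 (iv D115)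
def n194 : Q := act 3 n115
theorem D194 : act 3 n115 = n194 := rfl
theorem F334 : act 4 n194 = n116 := d12_2 D115 D194 (iv D116) (iv D67) D66
def n195 : Q := act 2 n116
theorem D195 : act 2 n116 = n195 := rfl
def n196 : Q := act 5 n116
theorem D196 : act 5 n116 = n196 := rfl
theorem F335 : act 0 n196 = n160 := d4_1 D196 (iv F316) F315
theorem F336 : act 3 n196 = n117 := d13_1 D196 (iv D117) D116
def n199 : Q := act 0 n119
theorem D199 : act 0 n119 = n199 := rfl
theorem F340 : act 1 n199 = n125 := d0_2 D119 D199 (iv D125) (iv D74) (iv D43) (iv D25) (iv F56) D41 D70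
def n200 : Q := act 2 n119
theorem D200 : act 2 n119 = n200 := rfl
def n201 : Q := act 4 n119
theorem D201 : act 4 n119 = n201 := rfl
theorem F342 : act 1 n201 = n120 := d7_1 D201 (iv D120) D119
def n202 : Q := act 5 n119
theorem D202 : act 5 n119 = n202 := rfl
def n203 : Q := act 3 n120
theorem D203 : act 3 n120 = n203 := rfl
theorem F344 : act 0 n203 = n122 := d2_1 D203 (iv D122) (iv F227)
theorem F345 : act 4 n203 = n129 := d12_2 D120 D203 (iv D129) (iv D75) (iv F143)
def n204 : Q := act 5 n120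
theorem D204 : act 5 n120 = n204 := rfl
theorem F346 : act 0 n204 = n123 := d4_1 D204 (iv D123) (iv F227)
theorem F347 : act 4 n204 = n121 := d14_1 D204 (iv D121) D120
def n205 : Q := act 1 n121
theorem D205 : act 1 n121 = n205 := rfl
theorem F348 : act 3 n205 = n131 := d6_2 (iv F229) D205 (iv D131)
def n206 : Q := act 2 n122
theorem D206 : act 2 n122 = n206 := rfl
theorem F349 : act 4 n206 = n132 := d10_2 (iv F231) D206 (iv D132)
def n207 : Q := act 5 n122
theorem D207 : act 5 n122 = n207 := rfl
theorem F350 : act 1 n207 = n207 := d8_1 D207 (iv D207) F230 F149 (iv F230)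
theorem F351 : act 3 n207 = n123 := d13_1 D207 (iv D123) D122
theorem F352 : act 4 n207 = n133 := d14_1 D207 (iv D133) (iv F231)
def n208 : Q := act 1 n124
theorem D208 : act 1 n124 = n208 := rfl
theorem F353 : act 3 n208 = n134 := d6_2 (iv F237) D208 (iv D134)
theorem F354 : act 4 n208 = n134 := d7_2 (iv F235) D208 (iv D134)
def n209 : Q := act 2 n125
theorem D209 : act 2 n125 = n209 := rfl
def n211 : Q := act 5 n125
theorem D211 : act 5 n125 = n211 := rfl
theorem F357 : act 0 n211 = n128 := d4_1 D211 (iv D128) D125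
def n215 : Q := act 3 n127
theorem D215 : act 3 n127 = n215 := rfl
theorem F362 : act 1 n215 = n129 := d6_1 D215 (iv D129) (iv F239)
def n216 : Q := act 5 n127
theorem D216 : act 5 n127 = n216 := rfl
def n217 : Q := act 1 n128
theorem D217 : act 1 n128 = n217 := rfl
theorem F364 : act 5 n217 = n131 := d8_2 D128 D217 (iv D131) (iv D76) D74
def n218 : Q := act 2 n129
theorem D218 : act 2 n129 = n218 := rfl
theorem F365 : act 0 n218 = n132 := d1_1 D218 (iv D132) (iv F240)
def n219 : Q := act 5 n129
theorem D219 : act 5 n129 = n219 := rfl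
theorem F366 : act 0 n219 = n133 := d4_1 D219 (iv D133) (iv F240)
theorem F367 : act 3 n219 = n130 := d13_1 D219 (iv D130) D129
def n220 : Q := act 1 n130
theorem D220 : act 1 n130 = n220 := rfl
theorem F368 : act 4 n220 = n131 := d7_2 (iv F243) D220 (iv D131)
def n221 : Q := act 0 n131
theorem D221 : act 0 n131 = n221 := rfl
def n222 : Q := act 2 n131
theorem D222 : act 2 n131 = n222 := rfl
def n223 : Q := act 1 n132
theorem D223 : act 1 n132 = n223 := rfl
theorem F370 : act 2 n223 = n134 := d5_2 D132 D223 (iv D134) (iv D79) (iv F154)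
def n224 : Q := act 3 n132
theorem D224 : act 3 n132 = n224 := rfl
def n225 : Q := act 5 n132
theorem D225 : act 5 n132 = n225 := rfl
theorem F371 : act 2 n225 = n133 := d11_1 D225 (iv D133) D132
def n226 : Q := act 0 n134
theorem D226 : act 0 n134 = n226 := rfl
def n227 : Q := act 5 n134
theorem D227 : act 5 n134 = n227 := rfl
theorem F372 : act 1 n227 = n227 := d8_1 D227 (iv D227) (iv D134) F158 D134
def n230 : Q := act 4 n135
theorem D230 : act 4 n135 = n230 := rfl
theorem F375 : act 1 n230 = n137 := d7_1 D230 (iv D137) D135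
theorem F376 : act 2 n230 = n142 := d10_1 D230 (iv D142) (iv F246)
def n232 : Q := act 4 n136
theorem D232 : act 4 n136 = n232 := rfl
def n233 : Q := act 5 n136
theorem D233 : act 5 n136 = n233 := rfl
def n234 : Q := act 3 n137
theorem D234 : act 3 n137 = n234 := rfl
def n235 : Q := act 5 n137
theorem D235 : act 5 n137 = n235 := rfl
def n239 : Q := act 1 n141
theorem D239 : act 1 n141 = n239 := rfl
theorem F391 : act 3 n239 = n161 := d6_2 (iv F258) D239 (iv D161)
def n240 : Q := act 4 n141
theorem D240 : act 4 n141 = n240 := rfl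
theorem F392 : act 0 n240 = n142 := d3_1 D240 (iv D142) D141
def n242 : Q := act 3 n142
theorem D242 : act 3 n142 = n242 := rfl
theorem F396 : act 4 n242 = n164 := d12_2 D142 D242 (iv D164) (iv D98) (iv F167)
def n245 : Q := act 2 n144
theorem D245 : act 2 n144 = n245 := rfl
theorem F400 : act 0 n245 = n167 := d1_1 D245 (iv D167) (iv F261)
theorem F401 : act 4 n245 = n167 := d10_2 (iv F262) D245 (iv D167)
theorem F402 : act 3 n245 = n167 := d15_1 D245 (iv D167) (iv D100) F121 F76 (iv F121) D100 (iv F261)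
def n246 : Q := act 5 n144
theorem D246 : act 5 n144 = n246 := rfl
theorem F403 : act 0 n246 = n168 := d4_1 D246 (iv D168) (iv F261)
def n260 : Q := act 1 n155
theorem D260 : act 1 n155 = n260 := rfl
def n262 : Q := act 4 n155
theorem D262 : act 4 n155 = n262 := rfl
theorem F431 : act 2 n262 = n162 := d10_1 D262 (iv D162) (iv F285)
def n263 : Q := act 5 n155
theorem D263 : act 5 n155 = n263 := rfl
theorem F432 : act 0 n263 = n158 := d4_1 D263 (iv D158) D155
theorem F433 : act 2 n263 = n163 := d11_1 D263 (iv D163) (iv F285)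
def n265 : Q := act 4 n156
theorem D265 : act 4 n156 = n265 := rfl
theorem F434 : act 1 n265 = n159 := d7_1 D265 (iv D159) (iv F286)
def n267 : Q := act 3 n157
theorem D267 : act 3 n157 = n267 := rfl
theorem F436 : act 1 n267 = n160 := d6_1 D267 (iv D160) (iv F287)
def n268 : Q := act 5 n157
theorem D268 : act 5 n157 = n268 := rfl
theorem F437 : act 2 n268 = n165 := d11_1 D268 (iv D165) (iv F288)
def n269 : Q := act 3 n159
theorem D269 : act 3 n159 = n269 := rfl
theorem F439 : act 4 n269 = n160 := d12_2 D159 D269 (iv D160) (iv D96) D95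
def n270 : Q := act 2 n160
theorem D270 : act 2 n160 = n270 := rfl
def n271 : Q := act 0 n161
theorem D271 : act 0 n161 = n271 := rfl
def n272 : Q := act 2 n161
theorem D272 : act 2 n161 = n272 := rfl
def n273 : Q := act 4 n161
theorem D273 : act 4 n161 = n273 := rfl
theorem F440 : act 1 n273 = n162 := d7_1 D273 (iv D162) D161
def n274 : Q := act 5 n161
theorem D274 : act 5 n161 = n274 := rfl
def n275 : Q := act 3 n162
theorem D275 : act 3 n162 = n275 := rfl
theorem F441 : act 0 n275 = n164 := d2_1 D275 (iv D164) (iv F290)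
def n276 : Q := act 5 n162
theorem D276 : act 5 n162 = n276 := rfl
theorem F442 : act 0 n276 = n165 := d4_1 D276 (iv D165) (iv F290)
def n277 : Q := act 1 n163
theorem D277 : act 1 n163 = n277 := rfl
def n278 : Q := act 2 n164
theorem D278 : act 2 n164 = n278 := rfl
def n279 : Q := act 5 n164
theorem D279 : act 5 n164 = n279 := rfl
theorem F444 : act 3 n279 = n165 := d13_1 D279 (iv D165) D164
def n283 : Q := act 1 n167
theorem D283 : act 1 n167 = n283 := rfl
def n293 : Q := act 0 n174
theorem D293 : act 0 n174 = n293 := rfl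
theorem F459 : act 2 n293 = n177 := d1_2 (iv F302) D293 (iv D177)
def n294 : Q := act 3 n174
theorem D294 : act 3 n174 = n294 := rfl
theorem F460 : act 1 n294 = n175 := d6_1 D294 (iv D175) D174
def n295 : Q := act 4 n174
theorem D295 : act 4 n174 = n295 := rfl
theorem F461 : act 1 n295 = n176 := d7_1 D295 (iv D176) D174
def n296 : Q := act 5 n174
theorem D296 : act 5 n174 = n296 := rfl
theorem F464 : act 2 n296 = n180 := d11_1 D296 (iv D180) (iv F302)
def n297 : Q := act 4 n175
theorem D297 : act 4 n175 = n297 := rfl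
def n298 : Q := act 3 n176
theorem D298 : act 3 n176 = n298 := rfl
def n299 : Q := act 1 n177
theorem D299 : act 1 n177 = n299 := rfl
def n300 : Q := act 3 n177
theorem D300 : act 3 n177 = n300 := rfl
theorem F470 : act 0 n300 = n178 := d2_1 D300 (iv D178) D177
def n302 : Q := act 5 n177
theorem D302 : act 5 n177 = n302 := rfl
theorem F472 : act 0 n302 = n180 := d4_1 D302 (iv D180) D177
def n303 : Q := act 2 n178
theorem D303 : act 2 n178 = n303 := rfl
def n304 : Q := act 4 n178
theorem D304 : act 4 n178 = n304 := rfl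
theorem F474 : act 1 n304 = n181 := d7_1 D304 (iv D181) (iv F309)
def n305 : Q := act 5 n178
theorem D305 : act 5 n178 = n305 := rfl
theorem F476 : act 3 n305 = n180 := d13_1 D305 (iv D180) D178
def n306 : Q := act 3 n179
theorem D306 : act 3 n179 = n306 := rfl
theorem F477 : act 1 n306 = n182 := d6_1 D306 (iv D182) (iv F310)
def n308 : Q := act 3 n181
theorem D308 : act 3 n181 = n308 := rfl
theorem F480 : act 0 n308 = n194 := d2_1 D308 (iv D194) (iv F312)
theorem F481 : act 4 n308 = n182 := d12_2 D181 D308 (iv D182) (iv D109) D108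
theorem F482 : act 5 n308 = n269 := d13_2 (iv F314) D308 (iv D269)
def n309 : Q := act 2 n182
theorem D309 : act 2 n182 = n309 := rfl
theorem F483 : act 0 n309 = n195 := d1_1 D309 (iv D195) (iv F315)
theorem F484 : act 5 n309 = n270 := d11_2 (iv F316) D309 (iv D270)
theorem F485 : act 3 n309 = n195 := d15_1 D309 (iv D195) (iv D116) F136 F88 (iv F136) D116 (iv F315)
def n310 : Q := act 0 n183
theorem D310 : act 0 n183 = n310 := rfl
def n311 : Q := act 2 n183
theorem D311 : act 2 n183 = n311 := rfl
theorem F486 : act 1 n311 = n200 := d5_1 D311 (iv D200) (iv D119) (iv F214) D183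
def n312 : Q := act 3 n183
theorem D312 : act 3 n183 = n312 := rfl
theorem F487 : act 1 n312 = n184 := d6_1 D312 (iv D184) D183
theorem F488 : act 2 n192 = n312 := d5_0 F487 F318 F215 D114 D192
theorem E1 : n311 = n310 := ((c15_9 (iv D311) D312 (iv F488) F330 F225 (iv F330) F488 (iv D312) D310)).symm
theorem F489 : act 1 n310 = n200 := (sb E1 F486)
theorem F490 : act 2 n310 = n183 := (sb E1 (iv D311))
theorem F491 : act 0 n200 = n299 := d0_1 F489 (iv D299) (iv D177) (iv D107) F130 D65 D110 D183 D310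
theorem F492 : act 2 n299 = n199 := d1_2 D200 F491 (iv D199)
theorem F493 : act 1 n209 = n293 := d5_3 F492 F340 D209 F459 D299
def n313 : Q := act 4 n183
theorem D313 : act 4 n183 = n313 := rfl
theorem F494 : act 1 n313 = n185 := d7_1 D313 (iv D185) D183
def n314 : Q := act 5 n183
theorem D314 : act 5 n183 = n314 := rfl
def n315 : Q := act 4 n184
theorem D315 : act 4 n184 = n315 := rfl
theorem F495 : act 0 n315 = n187 := d3_1 D315 (iv D187) (iv F317)
theorem F496 : act 2 n315 = n187 := d10_1 D315 (iv D187) (iv F318)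
def n316 : Q := act 5 n184
theorem D316 : act 5 n184 = n316 := rfl
theorem F497 : act 0 n316 = n188 := d4_1 D316 (iv D188) (iv F317)
theorem F498 : act 2 n316 = n188 := d11_1 D316 (iv D188) (iv F318)
theorem F499 : act 3 n316 = n186 := d13_1 D316 (iv D186) D184
def n317 : Q := act 3 n185
theorem D317 : act 3 n185 = n317 := rfl
theorem F500 : act 0 n317 = n189 := d2_1 D317 (iv D189) (iv F319)
def n318 : Q := act 5 n185
theorem D318 : act 5 n185 = n318 := rfl
theorem F501 : act 0 n318 = n190 := d4_1 D318 (iv D190) (iv F319)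
theorem F502 : act 2 n318 = n204 := d11_1 D318 (iv D204) (iv F320)
theorem F503 : act 4 n318 = n186 := d14_1 D318 (iv D186) D185
def n319 : Q := act 1 n186
theorem D319 : act 1 n186 = n319 := rfl
def n320 : Q := act 3 n187
theorem D320 : act 3 n187 = n320 := rfl
theorem F504 : act 1 n320 = n194 := d6_1 D320 (iv D194) (iv F323)
theorem F505 : act 4 n320 = n189 := d12_2 D187 D320 (iv D189) (iv D112) D111
def n321 : Q := act 5 n187
theorem D321 : act 5 n187 = n321 := rfl
theorem F506 : act 4 n321 = n188 := d14_1 D321 (iv D188) D187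
def n322 : Q := act 1 n188
theorem D322 : act 1 n188 = n322 := rfl
theorem F508 : act 5 n322 = n192 := d8_2 D188 D322 (iv D192) (iv F221) (iv F215)
def n323 : Q := act 2 n189
theorem D323 : act 2 n189 = n323 := rfl
def n324 : Q := act 5 n189
theorem D324 : act 5 n189 = n324 := rfl
theorem F509 : act 3 n324 = n190 := d13_1 D324 (iv D190) D189
def n328 : Q := act 4 n192
theorem D328 : act 4 n192 = n328 := rfl
theorem F516 : act 1 n328 = n193 := d7_1 D328 (iv D193) D192
def n329 : Q := act 3 n193
theorem D329 : act 3 n193 = n329 := rfl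
theorem F517 : act 0 n329 = n269 := d2_1 D329 (iv D269) (iv F331)
theorem F518 : act 4 n329 = n196 := d12_2 D193 D329 F336 F224 (iv F220)
theorem F519 : act 5 n329 = n194 := d13_2 (iv F333) D329 (iv D194)
def n330 : Q := act 2 n194
theorem D330 : act 2 n194 = n330 := rfl
theorem F520 : act 4 n330 = n195 := d10_2 (iv F334) D330 (iv D195)
def n331 : Q := act 1 n195
theorem D331 : act 1 n195 = n331 := rfl
def n332 : Q := act 5 n195
theorem D332 : act 5 n195 = n332 := rfl
theorem F521 : act 0 n332 = n270 := d4_1 D332 (iv F484) F483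
theorem F522 : act 2 n332 = n196 := d11_1 D332 (iv D196) D195
theorem F523 : act 3 n332 = n270 := d13_1 D332 (iv F484) F485
def n337 : Q := act 5 n199
theorem D337 : act 5 n199 = n337 := rfl
theorem F529 : act 0 n337 = n202 := d4_1 D337 (iv D202) D199
def n338 : Q := act 3 n200
theorem D338 : act 3 n200 = n338 := rfl
def n341 : Q := act 3 n201
theorem D341 : act 3 n201 = n341 := rfl
theorem F533 : act 1 n341 = n203 := d6_1 D341 (iv D203) (iv F342)
def n343 : Q := act 1 n202
theorem D343 : act 1 n202 = n343 := rfl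
theorem F537 : act 5 n343 = n205 := d8_2 D202 D343 (iv D205) (iv D121) D119
def n344 : Q := act 2 n203
theorem D344 : act 2 n203 = n344 := rfl
theorem F538 : act 0 n344 = n206 := d1_1 D344 (iv D206) (iv F344)
theorem F539 : act 4 n344 = n218 := d10_2 (iv F345) D344 (iv D218)
def n345 : Q := act 5 n203
theorem D345 : act 5 n203 = n345 := rfl
theorem F540 : act 0 n345 = n207 := d4_1 D345 (iv D207) (iv F344)
theorem F541 : act 3 n345 = n204 := d13_1 D345 (iv D204) D203
theorem F542 : act 4 n345 = n219 := d14_1 D345 (iv D219) (iv F345)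
def n346 : Q := act 1 n204
theorem D346 : act 1 n204 = n346 := rfl
theorem F543 : act 4 n346 = n205 := d7_2 (iv F347) D346 (iv D205)
def n347 : Q := act 0 n205
theorem D347 : act 0 n205 = n347 := rfl
theorem F544 : act 3 n347 = n221 := d2_2 (iv F348) D347 (iv D221)
def n348 : Q := act 2 n205
theorem D348 : act 2 n205 = n348 := rfl
def n349 : Q := act 1 n206
theorem D349 : act 1 n206 = n349 := rfl
theorem F545 : act 2 n349 = n208 := d5_2 D206 D349 (iv D208) (iv D124) (iv F230)
theorem F546 : act 4 n349 = n223 := d7_2 (iv F349) D349 (iv D223)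
def n350 : Q := act 3 n206
theorem D350 : act 3 n206 = n350 := rfl
def n351 : Q := act 5 n206
theorem D351 : act 5 n206 = n351 := rfl
theorem F547 : act 2 n351 = n207 := d11_1 D351 (iv D207) D206
theorem F548 : act 4 n351 = n225 := d14_1 D351 (iv D225) (iv F349)
def n352 : Q := act 0 n208
theorem D352 : act 0 n208 = n352 := rfl
theorem F549 : act 3 n352 = n226 := d2_2 (iv F353) D352 (iv D226)
theorem F550 : act 4 n352 = n226 := d3_2 (iv F354) D352 (iv D226)
def n353 : Q := act 5 n208
theorem D353 : act 5 n208 = n353 := rfl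
theorem F551 : act 1 n353 = n353 := d8_1 D353 (iv D353) (iv D208) F236 D208
theorem F552 : act 3 n353 = n227 := d13_1 D353 (iv D227) (iv F353)
theorem F553 : act 4 n353 = n227 := d14_1 D353 (iv D227) (iv F354)
def n356 : Q := act 5 n209
theorem D356 : act 5 n209 = n356 := rfl
theorem F558 : act 2 n356 = n211 := d11_1 D356 (iv D211) D209
def n359 : Q := act 1 n211
theorem D359 : act 1 n211 = n359 := rfl
def n366 : Q := act 2 n215
theorem D366 : act 2 n215 = n366 := rfl
def n367 : Q := act 5 n215
theorem D367 : act 5 n215 = n367 := rfl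
theorem F568 : act 3 n367 = n216 := d13_1 D367 (iv D216) D215
def n368 : Q := act 1 n216
theorem D368 : act 1 n216 = n368 := rfl
theorem F570 : act 5 n368 = n220 := d8_2 D216 D368 (iv D220) (iv D130) (iv F239)
def n369 : Q := act 0 n217
theorem D369 : act 0 n217 = n369 := rfl
theorem F571 : act 5 n369 = n221 := d4_2 (iv F364) D369 (iv D221)
theorem F572 : act 2 n369 = n277 := d16_1 (iv F571) (iv D277) F291 (iv D99) (iv F193) (iv D94) (iv F137) (iv D68) (iv D38) F51 F34 F25 D13 D25 D43 D76 F153 D131 D221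
def n370 : Q := act 2 n217
theorem D370 : act 2 n217 = n370 := rfl
theorem F574 : act 5 n370 = n222 := d11_2 (iv F364) D370 (iv D222)
def n371 : Q := act 1 n218
theorem D371 : act 1 n218 = n371 := rfl
def n372 : Q := act 3 n218
theorem D372 : act 3 n218 = n372 := rfl
theorem F575 : act 0 n372 = n224 := d2_1 D372 (iv D224) (iv F365)
theorem F576 : act 2 n372 = n224 := d15_2 D218 D372 (iv D224) (iv D132) (iv D77) F98 D77 (iv F240)
def n373 : Q := act 5 n218
theorem D373 : act 5 n218 = n373 := rfl
theorem F577 : act 0 n373 = n225 := d4_1 D373 (iv D225) (iv F365)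
theorem F578 : act 2 n373 = n219 := d11_1 D373 (iv D219) D218
def n374 : Q := act 1 n219
theorem D374 : act 1 n219 = n374 := rfl
def n375 : Q := act 0 n220
theorem D375 : act 0 n220 = n375 := rfl
theorem F580 : act 4 n375 = n221 := d3_2 (iv F368) D375 (iv D221)
def n377 : Q := act 1 n221
theorem D377 : act 1 n221 = n377 := rfl
def n378 : Q := act 2 n221
theorem D378 : act 2 n221 = n378 := rfl
theorem F584 : act 0 n378 = n222 := d1_1 D378 (iv D222) D221
theorem F585 : act 5 n378 = n277 := d11_2 F571 D378 (iv F572)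
theorem F586 : act 1 n274 = n378 := d8_5 F585 (iv D277) (iv D163) D161 D274
def n380 : Q := act 0 n223
theorem D380 : act 0 n223 = n380 := rfl
theorem F588 : act 2 n380 = n226 := d1_2 (iv F370) D380 (iv D226)
def n381 : Q := act 3 n223
theorem D381 : act 3 n223 = n381 := rfl
theorem F589 : act 1 n381 = n224 := d6_1 D381 (iv D224) D223
def n382 : Q := act 5 n223
theorem D382 : act 5 n223 = n382 := rfl
theorem F590 : act 2 n382 = n227 := d11_1 D382 (iv D227) (iv F370)
def n383 : Q := act 4 n224
theorem D383 : act 4 n224 = n383 := rfl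
def n384 : Q := act 5 n224
theorem D384 : act 5 n224 = n384 := rfl
theorem F591 : act 3 n384 = n225 := d13_1 D384 (iv D225) D224
def n385 : Q := act 1 n225
theorem D385 : act 1 n225 = n385 := rfl
theorem F592 : act 2 n385 = n385 := d5_2 (iv F371) D385 (iv D385) F371 F244
def n386 : Q := act 1 n226
theorem D386 : act 1 n226 = n386 := rfl
def n387 : Q := act 5 n226
theorem D387 : act 5 n226 = n387 := rfl
theorem F593 : act 0 n387 = n227 := d4_1 D387 (iv D227) D226
def n399 : Q := act 5 n232
theorem D399 : act 5 n232 = n399 := rfl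
theorem F610 : act 4 n399 = n233 := d14_1 D399 (iv D233) D232
def n401 : Q := act 2 n234
theorem D401 : act 2 n234 = n401 := rfl
def n402 : Q := act 5 n234
theorem D402 : act 5 n234 = n402 := rfl
theorem F615 : act 3 n402 = n235 := d13_1 D402 (iv D235) D234
def n408 : Q := act 0 n239
theorem D408 : act 0 n239 = n408 := rfl
theorem F622 : act 1 n408 = n271 := d0_2 D239 D408 (iv D271) (iv D161) (iv D97) (iv D57) (iv F107) D84 D141
theorem F623 : act 3 n408 = n271 := d2_2 (iv F391) D408 (iv D271)
def n410 : Q := act 4 n239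
theorem D410 : act 4 n239 = n410 := rfl
theorem F624 : act 1 n410 = n240 := d7_1 D410 (iv D240) D239
def n411 : Q := act 5 n239
theorem D411 : act 5 n239 = n411 := rfl
theorem F625 : act 3 n411 = n274 := d13_1 D411 (iv D274) (iv F391)
def n415 : Q := act 2 n242
theorem D415 : act 2 n242 = n415 := rfl
theorem F631 : act 4 n415 = n278 := d10_2 (iv F396) D415 (iv D278)
def n420 : Q := act 1 n245
theorem D420 : act 1 n245 = n420 := rfl
theorem F639 : act 3 n420 = n283 := d6_2 (iv F402) D420 (iv D283)
theorem F640 : act 4 n420 = n283 := d7_2 (iv F401) D420 (iv D283)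
def n421 : Q := act 5 n245
theorem D421 : act 5 n245 = n421 := rfl
theorem F642 : act 2 n421 = n246 := d11_1 D421 (iv D246) D245
def n443 : Q := act 2 n260
theorem D443 : act 2 n260 = n443 := rfl
theorem F672 : act 1 n443 = n272 := d5_1 D443 (iv D272) (iv D161) (iv F285) D260
def n446 : Q := act 5 n260
theorem D446 : act 5 n260 = n446 := rfl
def n450 : Q := act 3 n262
theorem D450 : act 3 n262 = n450 := rfl
def n452 : Q := act 1 n263
theorem D452 : act 1 n263 = n452 := rfl
def n456 : Q := act 3 n265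
theorem D456 : act 3 n265 = n456 := rfl
theorem F691 : act 4 n456 = n267 := d12_2 D265 D456 (iv D267) (iv D157) D156
def n458 : Q := act 2 n267
theorem D458 : act 2 n267 = n458 := rfl
def n460 : Q := act 2 n269
theorem D460 : act 2 n269 = n460 := rfl
theorem F694 : act 4 n460 = n270 := d10_2 (iv F439) D460 (iv D270)
def n461 : Q := act 1 n270
theorem D461 : act 1 n270 = n461 := rfl
def n462 : Q := act 2 n271
theorem D462 : act 2 n271 = n462 := rfl
theorem F695 : act 0 n462 = n272 := d1_1 D462 (iv D272) D271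
def n463 : Q := act 4 n271
theorem D463 : act 4 n271 = n463 := rfl
def n464 : Q := act 5 n271
theorem D464 : act 5 n271 = n464 := rfl
theorem F698 : act 2 n464 = n274 := d16_1 D464 F586 F584 (iv F574) (iv D370) (iv D217) (iv F357) (iv D211) D209 F493 (iv D293) D296 F464 F311 (iv F432) (iv D263) F285 D161 D271
theorem E2 : n462 = n161 := (c11_2 (iv D464) D462 D274 (iv F698))
theorem E3 : n272 = n271 := (((D271).symm.trans (sb E2 F695))).symm
theorem E4 : n443 = n408 := ((((iv F622)).symm.trans (sb E3 (iv F672)))).symm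
theorem F700 : act 2 n408 = n260 := (sb E4 (iv D443))
def n465 : Q := act 3 n273
theorem D465 : act 3 n273 = n465 := rfl
theorem F703 : act 1 n465 = n275 := d6_1 D465 (iv D275) (iv F440)
def n466 : Q := act 5 n273
theorem D466 : act 5 n273 = n466 := rfl
theorem F704 : act 4 n466 = n274 := d14_1 D466 (iv D274) D273
def n467 : Q := act 2 n275
theorem D467 : act 2 n275 = n467 := rfl
theorem F705 : act 0 n467 = n278 := d1_1 D467 (iv D278) (iv F441)
def n469 : Q := act 1 n276
theorem D469 : act 1 n276 = n469 := rfl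
def n470 : Q := act 1 n278
theorem D470 : act 1 n278 = n470 := rfl
theorem F709 : act 2 n470 = n283 := d5_2 D278 D470 (iv D283) (iv D167) (iv F292)
def n471 : Q := act 3 n278
theorem D471 : act 3 n278 = n471 := rfl
def n472 : Q := act 5 n278
theorem D472 : act 5 n278 = n472 := rfl
theorem F710 : act 2 n472 = n279 := d11_1 D472 (iv D279) D278
def n479 : Q := act 0 n283
theorem D479 : act 0 n283 = n479 := rfl
def n480 : Q := act 5 n283
theorem D480 : act 5 n283 = n480 := rfl
def n496 : Q := act 3 n293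
theorem D496 : act 3 n293 = n496 := rfl
def n497 : Q := act 4 n293
theorem D497 : act 4 n293 = n497 := rfl
theorem F734 : act 0 n497 = n295 := d3_1 D497 (iv D295) D293
def n498 : Q := act 5 n293
theorem D498 : act 5 n293 = n498 := rfl
theorem F737 : act 0 n498 = n296 := d4_1 D498 (iv D296) D293
def n499 : Q := act 2 n294
theorem D499 : act 2 n294 = n499 := rfl
def n500 : Q := act 4 n294
theorem D500 : act 4 n294 = n500 := rfl
theorem F740 : act 1 n500 = n297 := d7_1 D500 (iv D297) (iv F460)
def n502 : Q := act 3 n295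
theorem D502 : act 3 n295 = n502 := rfl
theorem F743 : act 1 n502 = n298 := d6_1 D502 (iv D298) (iv F461)
def n506 : Q := act 3 n299
theorem D506 : act 3 n299 = n506 := rfl
theorem F753 : act 0 n506 = n338 := d2_1 D506 (iv D338) F491
theorem F754 : act 1 n506 = n300 := d6_1 D506 (iv D300) D299
def n509 : Q := act 2 n300
theorem D509 : act 2 n300 = n509 := rfl
theorem F760 : act 0 n509 = n303 := d1_1 D509 (iv D303) (iv F470)
def n515 : Q := act 3 n303
theorem D515 : act 3 n303 = n515 := rfl
def n517 : Q := act 5 n303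
theorem D517 : act 5 n303 = n517 := rfl
theorem F770 : act 2 n517 = n305 := d11_1 D517 (iv D305) D303
def n518 : Q := act 3 n304
theorem D518 : act 3 n304 = n518 := rfl
theorem F771 : act 1 n518 = n308 := d6_1 D518 (iv D308) (iv F474)
def n519 : Q := act 5 n304
theorem D519 : act 5 n304 = n519 := rfl
theorem F774 : act 4 n519 = n305 := d14_1 D519 (iv D305) D304
def n520 : Q := act 2 n306
theorem D520 : act 2 n306 = n520 := rfl
def n522 : Q := act 2 n308
theorem D522 : act 2 n308 = n522 := rfl
theorem F777 : act 0 n522 = n330 := d1_1 D522 (iv D330) (iv F480)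
theorem F778 : act 4 n522 = n309 := d10_2 (iv F481) D522 (iv D309)
theorem F779 : act 5 n522 = n460 := d11_2 (iv F482) D522 (iv D460)
def n523 : Q := act 1 n309
theorem D523 : act 1 n309 = n523 := rfl
theorem F780 : act 3 n523 = n331 := d6_2 (iv F485) D523 (iv D331)
def n524 : Q := act 3 n310
theorem D524 : act 3 n310 = n524 := rfl
theorem F782 : act 1 n524 = n338 := d6_1 D524 (iv D338) (iv F489)
def n525 : Q := act 4 n310
theorem D525 : act 4 n310 = n525 := rfl
theorem F784 : act 0 n525 = n313 := d3_1 D525 (iv D313) D310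
theorem F786 : act 2 n525 = n313 := d10_1 D525 (iv D313) (iv F490)
def n526 : Q := act 5 n310
theorem D526 : act 5 n310 = n526 := rfl
theorem F787 : act 0 n526 = n314 := d4_1 D526 (iv D314) D310
theorem F788 : act 2 n526 = n314 := d11_1 D526 (iv D314) (iv F490)
def n527 : Q := act 4 n312
theorem D527 : act 4 n312 = n527 := rfl
theorem F789 : act 1 n527 = n315 := d7_1 D527 (iv D315) (iv F487)
theorem F790 : act 2 n527 = n328 := d10_1 D527 (iv D328) F488
def n528 : Q := act 5 n312
theorem D528 : act 5 n312 = n528 := rfl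
theorem F791 : act 2 n528 = n322 := d11_1 D528 F508 F488
theorem F792 : act 3 n528 = n314 := d13_1 D528 (iv D314) D312
def n529 : Q := act 3 n313
theorem D529 : act 3 n313 = n529 := rfl
theorem F793 : act 1 n529 = n317 := d6_1 D529 (iv D317) (iv F494)
def n530 : Q := act 5 n313
theorem D530 : act 5 n313 = n530 := rfl
theorem F794 : act 4 n530 = n314 := d14_1 D530 (iv D314) D313
def n531 : Q := act 1 n314
theorem D531 : act 1 n314 = n531 := rfl
theorem F795 : act 5 n531 = n319 := d8_2 D314 D531 (iv D319) (iv D186) D183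
def n532 : Q := act 3 n315
theorem D532 : act 3 n315 = n532 := rfl
theorem F797 : act 4 n532 = n317 := d12_2 D315 D532 (iv D317) (iv D185) D184
def n533 : Q := act 5 n315
theorem D533 : act 5 n315 = n533 := rfl
theorem F798 : act 0 n533 = n321 := d4_1 D533 (iv D321) (iv F495)
theorem F799 : act 2 n533 = n321 := d11_1 D533 (iv D321) (iv F496)
theorem F800 : act 4 n533 = n316 := d14_1 D533 (iv D316) D315
def n534 : Q := act 1 n316
theorem D534 : act 1 n316 = n534 := rfl
theorem F801 : act 3 n534 = n319 := d6_2 (iv F499) D534 (iv D319)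
def n535 : Q := act 2 n317
theorem D535 : act 2 n317 = n535 := rfl
theorem F802 : act 0 n535 = n323 := d1_1 D535 (iv D323) (iv F500)
def n536 : Q := act 5 n317
theorem D536 : act 5 n317 = n536 := rfl
theorem F803 : act 0 n536 = n324 := d4_1 D536 (iv D324) (iv F500)
theorem F804 : act 3 n536 = n318 := d13_1 D536 (iv D318) D317
def n537 : Q := act 1 n318
theorem D537 : act 1 n318 = n537 := rfl
theorem F805 : act 4 n537 = n319 := d7_2 (iv F503) D537 (iv D319)
def n538 : Q := act 0 n319
theorem D538 : act 0 n319 = n538 := rfl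
def n539 : Q := act 2 n319
theorem D539 : act 2 n319 = n539 := rfl
theorem F806 : act 1 n539 = n348 := d5_1 D539 (iv D348) (iv D205) (iv F322) D319
theorem F807 : act 5 n538 = n539 := d16_0 (iv D539) (iv D319) F321 (iv D113) F135 (iv D41) F56 F36 (iv D13) F24 (iv F34) F35 D23 D41 D70 D121 (iv F322) D319 D538
theorem F808 : act 0 n539 = n531 := d4_1 F807 F795 D538
theorem F809 : act 2 n531 = n538 := d11_3 F807 (iv D539) (iv F795)
def n540 : Q := act 2 n320
theorem D540 : act 2 n320 = n540 := rfl
theorem F810 : act 4 n540 = n323 := d10_2 (iv F505) D540 (iv D323)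
def n541 : Q := act 5 n320
theorem D541 : act 5 n320 = n541 := rfl
theorem F811 : act 3 n541 = n321 := d13_1 D541 (iv D321) D320
theorem F812 : act 4 n541 = n324 := d14_1 D541 (iv D324) (iv F505)
def n542 : Q := act 1 n321
theorem D542 : act 1 n321 = n542 := rfl
theorem F813 : act 4 n542 = n322 := d7_2 (iv F506) D542 (iv D322)
theorem F814 : act 5 n542 = n328 := d8_2 D321 D542 F516 F333 (iv F323)
def n544 : Q := act 1 n323
theorem D544 : act 1 n323 = n544 := rfl
theorem F817 : act 2 n544 = n331 := d5_2 D323 D544 (iv D331) (iv D195) (iv F325)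
def n545 : Q := act 3 n323
theorem D545 : act 3 n323 = n545 := rfl
def n546 : Q := act 5 n323
theorem D546 : act 5 n323 = n546 := rfl
theorem F818 : act 2 n546 = n324 := d11_1 D546 (iv D324) D323
def n553 : Q := act 2 n329
theorem D553 : act 2 n329 = n553 := rfl
theorem F828 : act 0 n553 = n460 := d1_1 D553 (iv D460) (iv F517)
theorem F829 : act 4 n553 = n332 := d10_2 (iv F518) D553 F522
theorem F830 : act 5 n553 = n330 := d11_2 (iv F519) D553 (iv D330)
def n554 : Q := act 1 n330
theorem D554 : act 1 n330 = n554 := rfl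
theorem F831 : act 4 n554 = n331 := d7_2 (iv F520) D554 (iv D331)
def n555 : Q := act 3 n330
theorem D555 : act 3 n330 = n555 := rfl
def n556 : Q := act 0 n331
theorem D556 : act 0 n331 = n556 := rfl
def n557 : Q := act 5 n331
theorem D557 : act 5 n331 = n557 := rfl
def n558 : Q := act 1 n332
theorem D558 : act 1 n332 = n558 := rfl
theorem F832 : act 3 n558 = n461 := d6_2 (iv F523) D558 (iv D461)
def n567 : Q := act 1 n337
theorem D567 : act 1 n337 = n567 := rfl
theorem F845 : act 5 n567 = n359 := d8_2 D337 D567 (iv D359) (iv D211) (iv F340)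
def n579 : Q := act 1 n344
theorem D579 : act 1 n344 = n579 := rfl
theorem F857 : act 4 n579 = n371 := d7_2 (iv F539) D579 (iv D371)
def n580 : Q := act 3 n344
theorem D580 : act 3 n344 = n580 := rfl
theorem F858 : act 0 n580 = n350 := d2_1 D580 (iv D350) (iv F538)
theorem F859 : act 2 n580 = n545 := d15_2 D344 D580 (iv D545) (iv D323) (iv D189) F217 D122 (iv F344)
def n581 : Q := act 5 n344
theorem D581 : act 5 n344 = n581 := rfl
theorem F860 : act 0 n581 = n351 := d4_1 D581 (iv D351) (iv F538)
theorem F861 : act 2 n581 = n345 := d11_1 D581 (iv D345) D344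
theorem F862 : act 4 n581 = n373 := d14_1 D581 (iv D373) (iv F539)
def n582 : Q := act 1 n345
theorem D582 : act 1 n345 = n582 := rfl
theorem F863 : act 3 n582 = n346 := d6_2 (iv F541) D582 (iv D346)
def n585 : Q := act 1 n347
theorem D585 : act 1 n347 = n585 := rfl
theorem F868 : act 3 n585 = n377 := d6_2 (iv F544) D585 (iv D377)
def n588 : Q := act 0 n349
theorem D588 : act 0 n349 = n588 := rfl
theorem F870 : act 2 n588 = n352 := d1_2 (iv F545) D588 (iv D352)
theorem F871 : act 4 n588 = n380 := d3_2 (iv F546) D588 (iv D380)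
def n589 : Q := act 3 n349
theorem D589 : act 3 n349 = n589 := rfl
theorem F872 : act 1 n589 = n350 := d6_1 D589 (iv D350) D349
def n590 : Q := act 5 n349
theorem D590 : act 5 n349 = n590 := rfl
theorem F873 : act 2 n590 = n353 := d11_1 D590 (iv D353) (iv F545)
theorem F874 : act 4 n590 = n382 := d14_1 D590 (iv D382) (iv F546)
def n591 : Q := act 2 n350
theorem D591 : act 2 n350 = n591 := rfl
theorem F875 : act 0 n591 = n545 := d1_1 D591 (iv F859) F858
theorem F876 : act 3 n591 = n535 := d9_2 D350 D591 (iv D535) (iv D317) F320 D203 D344 D580 F859 (iv D545) (iv D323) (iv D189) F217 D122 D206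
def n592 : Q := act 4 n350
theorem D592 : act 4 n350 = n592 := rfl
theorem F877 : act 3 n592 = n383 := d12_1 D592 (iv D383) (iv D224) (iv F349) D350
def n593 : Q := act 5 n350
theorem D593 : act 5 n350 = n593 := rfl
theorem F878 : act 3 n593 = n351 := d13_1 D593 (iv D351) D350
def n594 : Q := act 1 n351
theorem D594 : act 1 n351 = n594 := rfl
theorem F879 : act 2 n594 = n594 := d5_2 (iv F547) D594 (iv D594) F547 F350
theorem F880 : act 4 n594 = n385 := d7_2 (iv F548) D594 (iv D385)
def n595 : Q := act 1 n352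
theorem D595 : act 1 n352 = n595 := rfl
theorem F881 : act 3 n595 = n386 := d6_2 (iv F549) D595 (iv D386)
theorem F882 : act 4 n595 = n386 := d7_2 (iv F550) D595 (iv D386)
def n596 : Q := act 5 n352
theorem D596 : act 5 n352 = n596 := rfl
theorem F883 : act 0 n596 = n353 := d4_1 D596 (iv D353) D352
theorem F884 : act 3 n596 = n387 := d13_1 D596 (iv D387) (iv F549)
theorem F885 : act 4 n596 = n387 := d14_1 D596 (iv D387) (iv F550)
def n602 : Q := act 1 n356
theorem D602 : act 1 n356 = n602 := rfl
def n620 : Q := act 1 n366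
theorem D620 : act 1 n366 = n620 := rfl
theorem F915 : act 2 n620 = n371 := d5_2 D366 D620 (iv D371) (iv D218) (iv F362)
def n622 : Q := act 5 n366
theorem D622 : act 5 n366 = n622 := rfl
theorem F916 : act 2 n622 = n367 := d11_1 D622 (iv D367) D366
def n623 : Q := act 1 n367
theorem D623 : act 1 n367 = n623 := rfl
theorem F917 : act 3 n623 = n368 := d6_2 (iv F568) D623 (iv D368)
theorem F918 : act 5 n623 = n374 := d8_2 D367 D623 (iv D374) (iv D219) (iv F362)
def n624 : Q := act 0 n368
theorem D624 : act 0 n368 = n624 := rfl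
theorem F920 : act 5 n624 = n375 := d4_2 (iv F570) D624 (iv D375)
theorem F921 : act 2 n624 = n469 := d16_1 (iv F920) (iv D469) F442 (iv D165) (iv F288) F287 (iv F222) (iv D117) F136 F87 F59 F39 (iv F63) (iv F97) (iv F150) D130 F242 D220 D375
def n626 : Q := act 1 n369
theorem D626 : act 1 n369 = n626 := rfl
theorem F925 : act 2 n626 = n452 := d5_2 (iv F572) D626 (iv D452) F433 D277
def n628 : Q := act 0 n371
theorem D628 : act 0 n371 = n628 := rfl
def n629 : Q := act 3 n371
theorem D629 : act 3 n371 = n629 := rfl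
theorem F928 : act 1 n629 = n372 := d6_1 D629 (iv D372) D371
def n630 : Q := act 5 n371
theorem D630 : act 5 n371 = n630 := rfl
def n631 : Q := act 4 n372
theorem D631 : act 4 n372 = n631 := rfl
theorem F929 : act 0 n631 = n383 := d3_1 D631 (iv D383) (iv F575)
theorem F930 : act 2 n631 = n383 := d10_1 D631 (iv D383) (iv F576)
def n632 : Q := act 5 n372
theorem D632 : act 5 n372 = n632 := rfl
theorem F931 : act 0 n632 = n384 := d4_1 D632 (iv D384) (iv F575)
theorem F932 : act 2 n632 = n384 := d11_1 D632 (iv D384) (iv F576)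
theorem F933 : act 3 n632 = n373 := d13_1 D632 (iv D373) D372
def n633 : Q := act 1 n373
theorem D633 : act 1 n373 = n633 := rfl
def n636 : Q := act 1 n375
theorem D636 : act 1 n375 = n636 := rfl
theorem F935 : act 0 n636 = n636 := d0_1 D636 (iv D636) (iv D375) (iv D220) F241 F155 (iv F241) D220 D375
def n637 : Q := act 2 n375
theorem D637 : act 2 n375 = n637 := rfl
theorem F938 : act 4 n637 = n378 := d10_2 (iv F580) D637 (iv D378)
theorem F939 : act 5 n637 = n469 := d11_2 F920 D637 (iv F921)
def n639 : Q := act 2 n377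
theorem D639 : act 2 n377 = n639 := rfl
theorem F943 : act 1 n639 = n464 := d5_1 D639 F698 F586 (iv D378) D377
def n644 : Q := act 1 n380
theorem D644 : act 1 n380 = n644 := rfl
def n645 : Q := act 3 n380
theorem D645 : act 3 n380 = n645 := rfl
theorem F949 : act 0 n645 = n381 := d2_1 D645 (iv D381) D380
def n646 : Q := act 5 n380
theorem D646 : act 5 n380 = n646 := rfl
theorem F950 : act 0 n646 = n382 := d4_1 D646 (iv D382) D380
theorem F951 : act 2 n646 = n387 := d11_1 D646 (iv D387) (iv F588)
def n647 : Q := act 2 n381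
theorem D647 : act 2 n381 = n647 := rfl
def n648 : Q := act 4 n381
theorem D648 : act 4 n381 = n648 := rfl
theorem F952 : act 1 n648 = n383 := d7_1 D648 (iv D383) (iv F589)
def n649 : Q := act 5 n381
theorem D649 : act 5 n381 = n649 := rfl
theorem F953 : act 3 n649 = n382 := d13_1 D649 (iv D382) D381
def n650 : Q := act 1 n382
theorem D650 : act 1 n382 = n650 := rfl
theorem F954 : act 2 n650 = n650 := d5_2 (iv F590) D650 (iv D650) F590 F372
theorem F955 : act 5 n650 = n385 := d8_2 D382 D650 (iv D385) (iv D225) D223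
def n651 : Q := act 5 n383
theorem D651 : act 5 n383 = n651 := rfl
theorem F956 : act 4 n651 = n384 := d14_1 D651 (iv D384) D383
def n652 : Q := act 1 n384
theorem D652 : act 1 n384 = n652 := rfl
theorem F957 : act 3 n652 = n385 := d6_2 (iv F591) D652 (iv D385)
def n653 : Q := act 0 n385
theorem D653 : act 0 n385 = n653 := rfl
def n654 : Q := act 0 n386
theorem D654 : act 0 n386 = n654 := rfl
def n655 : Q := act 2 n386
theorem D655 : act 2 n386 = n655 := rfl
def n656 : Q := act 5 n386
theorem D656 : act 5 n386 = n656 := rfl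
def n657 : Q := act 1 n387
theorem D657 : act 1 n387 = n657 := rfl
def n682 : Q := act 5 n401
theorem D682 : act 5 n401 = n682 := rfl
theorem F992 : act 2 n682 = n402 := d11_1 D682 (iv D402) D401
def n691 : Q := act 4 n408
theorem D691 : act 4 n408 = n691 := rfl
theorem F1004 : act 1 n691 = n463 := d7_1 D691 (iv D463) (iv F622)
def n692 : Q := act 5 n408
theorem D692 : act 5 n408 = n692 := rfl
theorem F1007 : act 2 n692 = n446 := d11_1 D692 (iv D446) (iv F700)
theorem F1008 : act 3 n692 = n464 := d13_1 D692 (iv D464) (iv F623)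
def n697 : Q := act 5 n410
theorem D697 : act 5 n410 = n697 := rfl
theorem F1017 : act 4 n697 = n411 := d14_1 D697 (iv D411) D410
def n702 : Q := act 1 n415
theorem D702 : act 1 n415 = n702 := rfl
theorem F1025 : act 4 n702 = n470 := d7_2 (iv F631) D702 (iv D470)
def n711 : Q := act 0 n420
theorem D711 : act 0 n420 = n711 := rfl
theorem F1039 : act 3 n711 = n479 := d2_2 (iv F639) D711 (iv D479)
theorem F1040 : act 4 n711 = n479 := d3_2 (iv F640) D711 (iv D479)
def n712 : Q := act 5 n420
theorem D712 : act 5 n420 = n712 := rfl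
theorem F1042 : act 4 n712 = n480 := d14_1 D712 (iv D480) (iv F640)
def n754 : Q := act 1 n446
theorem D754 : act 1 n446 = n754 := rfl
theorem F1098 : act 5 n754 = n452 := d8_2 D446 D754 (iv D452) (iv D263) D260
def n760 : Q := act 2 n450
theorem D760 : act 2 n450 = n760 := rfl
def n769 : Q := act 2 n456
theorem D769 : act 2 n456 = n769 := rfl
theorem F1121 : act 4 n769 = n458 := d10_2 (iv F691) D769 (iv D458)
def n771 : Q := act 1 n458
theorem D771 : act 1 n458 = n771 := rfl
theorem F1124 : act 2 n771 = n461 := d5_2 D458 D771 (iv D461) (iv D270) (iv F436)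
def n772 : Q := act 3 n458
theorem D772 : act 3 n458 = n772 := rfl
def n774 : Q := act 1 n460
theorem D774 : act 1 n460 = n774 := rfl
theorem F1126 : act 4 n774 = n461 := d7_2 (iv F694) D774 (iv D461)
def n775 : Q := act 3 n460
theorem D775 : act 3 n460 = n775 := rfl
theorem F1127 : act 2 n775 = n555 := d15_2 D460 D775 (iv D555) (iv D330) (iv D194) (iv F332) D329 F517
def n776 : Q := act 0 n461
theorem D776 : act 0 n461 = n776 := rfl
def n777 : Q := act 5 n461
theorem D777 : act 5 n461 = n777 := rfl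
def n779 : Q := act 5 n463
theorem D779 : act 5 n463 = n779 := rfl
theorem F1131 : act 4 n779 = n464 := d14_1 D779 (iv D464) D463
def n781 : Q := act 5 n465
theorem D781 : act 5 n465 = n781 := rfl
theorem F1132 : act 3 n781 = n466 := d13_1 D781 (iv D466) D465
def n783 : Q := act 3 n467
theorem D783 : act 3 n467 = n783 := rfl
theorem F1133 : act 0 n783 = n471 := d2_1 D783 (iv D471) (iv F705)
theorem F1134 : act 2 n783 = n772 := d15_2 D467 D783 (iv D772) (iv D458) (iv D267) F288 D164 (iv F441)
def n786 : Q := act 0 n470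
theorem D786 : act 0 n470 = n786 := rfl
theorem F1138 : act 2 n786 = n479 := d1_2 (iv F709) D786 (iv D479)
def n787 : Q := act 3 n470
theorem D787 : act 3 n470 = n787 := rfl
theorem F1139 : act 1 n787 = n471 := d6_1 D787 (iv D471) D470
def n788 : Q := act 5 n470
theorem D788 : act 5 n470 = n788 := rfl
theorem F1140 : act 2 n788 = n480 := d11_1 D788 (iv D480) (iv F709)
def n789 : Q := act 2 n471
theorem D789 : act 2 n471 = n789 := rfl
theorem F1141 : act 0 n789 = n772 := d1_1 D789 (iv F1134) F1133
theorem F1142 : act 3 n789 = n760 := d9_2 D471 D789 (iv D760) (iv D450) F431 D275 D467 D783 F1134 (iv D772) (iv D458) (iv D267) F288 D164 D278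
def n790 : Q := act 4 n471
theorem D790 : act 4 n471 = n790 := rfl
def n791 : Q := act 5 n471
theorem D791 : act 5 n471 = n791 := rfl
theorem F1143 : act 3 n791 = n472 := d13_1 D791 (iv D472) D471
def n805 : Q := act 1 n479
theorem D805 : act 1 n479 = n805 := rfl
def n806 : Q := act 5 n479
theorem D806 : act 5 n479 = n806 := rfl
theorem F1157 : act 0 n806 = n480 := d4_1 D806 (iv D480) D479
def n834 : Q := act 2 n496
theorem D834 : act 2 n496 = n834 := rfl
def n837 : Q := act 3 n497
theorem D837 : act 3 n497 = n837 := rfl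
theorem F1191 : act 0 n837 = n502 := d2_1 D837 (iv D502) (iv F734)
def n839 : Q := act 1 n498
theorem D839 : act 1 n498 = n839 := rfl
theorem F1196 : act 5 n839 = n602 := d8_2 D498 D839 (iv D602) (iv D356) F493
def n840 : Q := act 3 n499
theorem D840 : act 3 n499 = n840 := rfl
def n855 : Q := act 3 n509
theorem D855 : act 3 n509 = n855 := rfl
theorem F1222 : act 0 n855 = n515 := d2_1 D855 (iv D515) (iv F760)
theorem F1223 : act 2 n855 = n840 := d15_2 D509 D855 (iv D840) (iv D499) (iv D294) F302 D178 (iv F470)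
def n866 : Q := act 2 n515
theorem D866 : act 2 n515 = n866 := rfl
theorem F1237 : act 0 n866 = n840 := d1_1 D866 (iv F1223) F1222
theorem F1238 : act 3 n866 = n834 := d9_2 D515 D866 (iv D834) (iv D496) F459 D300 D509 D855 F1223 (iv D840) (iv D499) (iv D294) F302 D178 D303
def n873 : Q := act 5 n518
theorem D873 : act 5 n518 = n873 := rfl
theorem F1248 : act 3 n873 = n519 := d13_1 D873 (iv D519) D518
def n874 : Q := act 1 n520
theorem D874 : act 1 n520 = n874 := rfl
theorem F1250 : act 2 n874 = n523 := d5_2 D520 D874 (iv D523) (iv D309) (iv F477)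
def n878 : Q := act 3 n522
theorem D878 : act 3 n522 = n878 := rfl
theorem F1253 : act 0 n878 = n555 := d2_1 D878 (iv D555) (iv F777)
theorem F1254 : act 4 n878 = n555 := d12_2 (iv F778) D878 (iv D555) F520 (iv F485)
def n879 : Q := act 0 n523
theorem D879 : act 0 n523 = n879 := rfl
theorem F1256 : act 3 n879 = n556 := d2_2 (iv F780) D879 (iv D556)
def n880 : Q := act 5 n523
theorem D880 : act 5 n523 = n880 := rfl
theorem F1257 : act 1 n880 = n777 := d8_1 D880 (iv D777) (iv D461) (iv F484) D523
theorem F1258 : act 3 n880 = n557 := d13_1 D880 (iv D557) (iv F780)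
def n882 : Q := act 5 n524
theorem D882 : act 5 n524 = n882 := rfl
theorem F1264 : act 3 n882 = n526 := d13_1 D882 (iv D526) D524
def n883 : Q := act 3 n525
theorem D883 : act 3 n525 = n883 := rfl
theorem F1265 : act 0 n883 = n529 := d2_1 D883 (iv D529) (iv F784)
def n887 : Q := act 5 n527
theorem D887 : act 5 n527 = n887 := rfl
theorem F1274 : act 4 n887 = n528 := d14_1 D887 (iv D528) D527
def n888 : Q := act 1 n528
theorem D888 : act 1 n528 = n888 := rfl
theorem F1275 : act 2 n888 = n534 := d5_2 (iv F791) D888 (iv D534) F498 D322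
theorem F1276 : act 3 n888 = n531 := d6_2 (iv F792) D888 (iv D531)
theorem E6 : n538 = n319 := (c15_5 (iv D539) (iv F801) (iv F1275) F1276 F809 (iv F801) (iv F1275) F1276 (iv F808))
theorem F1278 : act 0 n319 = n319 := (sb E6 (iv D538))
theorem E7 : n539 = n531 := ((D539).symm.trans (sb E6 (iv F809)))
theorem F1279 : act 0 n531 = n531 := (sb E7 F808)
theorem E8 : n348 = n314 := ((((iv D531)).symm.trans (sb E7 F806))).symm
theorem F1280 : act 2 n531 = n319 := (sb E7 (iv D539))
theorem E10 : n526 = n205 := (((iv F788)).symm.trans (sb E8 (iv D348)))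
theorem E15 : n347 = n314 := ((D347).symm.trans (sb E10 F787))
theorem E17 : n882 = n131 := (((F348).symm.trans (sb E10 (iv F1264)))).symm
theorem E19 : n343 = n310 := (((iv F537)).symm.trans (sb E10 (iv D526)))
theorem E20 : n585 = n531 := (((D531).symm.trans (sb E15 D585))).symm
theorem E21 : n528 = n221 := (((iv F792)).symm.trans (sb E15 F544))
theorem E26 : n524 = n217 := ((((iv F364)).symm.trans (sb E17 (iv D882)))).symm
theorem E28 : n202 = n200 := (((F489).symm.trans (sb E19 (iv D343)))).symm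
theorem E29 : n888 = n377 := (((iv F1276)).symm.trans (sb E20 F868))
theorem E30 : n378 = n322 := ((D378).symm.trans (sb E21 F791))
theorem E31 : n887 = n375 := ((((iv F580)).symm.trans (sb E21 (iv F1274)))).symm
theorem E32 : n369 = n312 := (((iv F571)).symm.trans (sb E21 (iv D528)))
theorem E36 : n338 = n128 := ((((iv D217)).symm.trans (sb E26 F782))).symm
theorem F1288 : act 3 n217 = n310 := (sb E26 (iv D524))
theorem E39 : n337 = n299 := (((F491).symm.trans (sb E28 (iv F529)))).symm
theorem E40 : n639 = n534 := ((D639).symm.trans (sb E29 F1275))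
theorem E42 : n274 = n188 := ((((iv D322)).symm.trans (sb E30 (iv F586)))).symm
theorem E44 : n637 = n542 := ((((iv F813)).symm.trans (sb E30 (iv F938)))).symm
theorem E45 : n277 = n192 := (((F508).symm.trans (sb E30 F585))).symm
theorem E46 : n624 = n527 := (((iv F920)).symm.trans (sb E31 (iv D887)))
theorem F1293 : act 0 n312 = n217 := (sb E32 (iv D369))
theorem E47 : n626 = n184 := (((F487).symm.trans (sb E32 D626))).symm
theorem E57 : n506 = n211 := ((((iv F357)).symm.trans (sb E36 (iv F753)))).symm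
theorem E62 : n567 = n177 := ((((iv D299)).symm.trans (sb E39 D567))).symm
theorem E63 : n464 = n316 := ((((iv D534)).symm.trans (sb E40 F943))).symm
theorem E64 : n411 = n113 := (((F324).symm.trans (sb E42 (iv F625)))).symm
theorem E65 : n466 = n321 := ((((iv F506)).symm.trans (sb E42 (iv F704)))).symm
theorem E66 : n161 = n111 := ((((iv D188)).symm.trans (sb E42 (iv D274)))).symm
theorem E68 : n469 = n328 := (((F814).symm.trans (sb E44 F939))).symm
theorem E69 : n163 = n114 := ((((iv D192)).symm.trans (sb E45 (iv D277)))).symm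
theorem F1305 : act 0 n527 = n368 := (sb E46 (iv D624))
theorem F1306 : act 5 n527 = n375 := (sb E46 F920)
theorem E70 : n452 = n111 := (((F318).symm.trans (sb E47 F925))).symm
theorem E74 : n359 = n300 := ((D359).symm.trans (sb E57 F754))
theorem E78 : n302 = n300 := ((D302).symm.trans (sb E62 (tr F845 E74)))
theorem E79 : n692 = n186 := (((F499).symm.trans (sb E63 (iv F1008)))).symm
theorem E80 : n779 = n533 := ((((iv F800)).symm.trans (sb E63 (iv F1131)))).symm
theorem E81 : n271 = n184 := ((((iv D316)).symm.trans (sb E63 (iv D464)))).symm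
theorem E83 : n697 = n190 := ((((iv F327)).symm.trans (sb E64 (iv F1017)))).symm
theorem E84 : n239 = n65 := ((((iv D113)).symm.trans (sb E64 (iv D411)))).symm
theorem E85 : n781 = n541 := ((((iv F811)).symm.trans (sb E65 (iv F1132)))).symm
theorem E86 : n273 = n187 := ((((iv D321)).symm.trans (sb E65 (iv D466)))).symm
theorem E87 : n97 = n66 := (((F215).symm.trans (sb E66 (iv D161)))).symm
theorem E91 : n276 = n193 := (((F516).symm.trans (sb E68 (iv D469)))).symm
theorem E93 : n99 = n95 := (((F219).symm.trans (sb E69 F291))).symm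
theorem E98 : n754 = n188 := (((D188).symm.trans (sb E70 (iv F1098)))).symm
theorem E105 : n180 = n178 := (((F470).symm.trans (sb E78 F472))).symm
theorem E109 : n446 = n121 := (((F322).symm.trans (sb E79 F1007))).symm
theorem E110 : n408 = n110 := ((((iv D186)).symm.trans (sb E79 (iv D692)))).symm
theorem E111 : n463 = n315 := ((((iv D533)).symm.trans (sb E80 (iv D779)))).symm
theorem E112 : n312 = n110 := (((iv F487)).symm.trans (sb E81 (tr (iv F622) E110)))
theorem E114 : n410 = n112 := ((((iv D190)).symm.trans (sb E83 (iv D697)))).symm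
theorem E115 : n141 = n38 := ((((iv D65)).symm.trans (sb E84 (iv D239)))).symm
theorem E116 : n465 = n320 := ((((iv D541)).symm.trans (sb E85 (iv D781)))).symm
theorem E117 : n162 = n115 := (((F323).symm.trans (sb E86 F440))).symm
theorem E118 : n108 = n57 := (((iv F208)).symm.trans (sb E87 (iv D97)))
theorem E123 : n165 = n159 := (((F331).symm.trans (sb E91 F442))).symm
theorem E127 : n158 = n57 := (((E118).symm.trans (((iv F210)).symm.trans (sb E93 (iv F289))))).symm
theorem E129 : n322 = n121 := ((D322).symm.trans (sb E98 (tr (iv D754) E109)))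
theorem E134 : n303 = n296 := ((D303).symm.trans (sb E105 (iv F464)))
theorem E135 : n305 = n107 := ((((iv D178)).symm.trans (sb E105 (iv F476)))).symm
theorem E146 : n691 = n185 := (((D185).symm.trans (sb E110 D691))).symm
theorem E147 : n527 = n185 := (((iv F789)).symm.trans (sb E111 (tr (iv F1004) E146)))
theorem E149 : n217 = n65 := ((((iv D110)).symm.trans (sb E112 F1293))).symm
theorem E150 : n184 = n183 := (((D183).symm.trans (sb E112 F487))).symm
theorem E151 : n192 = n70 := (((F214).symm.trans (sb E112 (iv F488)))).symm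
theorem E156 : n240 = n67 := (((F216).symm.trans (sb E114 F624))).symm
theorem E158 : n84 = n63 := ((((iv F130)).symm.trans (sb E115 (iv D141)))).symm
theorem E160 : n275 = n194 := (((F504).symm.trans (sb E116 F703))).symm
theorem E162 : n181 = n98 := (((iv F312)).symm.trans (sb E117 F290))
theorem E163 : n262 = n193 := ((((iv F332)).symm.trans (sb E117 (iv F431)))).symm
theorem F1327 : act 0 n57 = n66 := (sb E118 F208)
theorem E164 : n178 = n32 := ((((iv D57)).symm.trans (sb E118 (iv F309)))).symm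
theorem E165 : n95 = n94 := ((((iv F193)).symm.trans (sb E118 F210))).symm
theorem E175 : n268 = n98 := (((E162).symm.trans (((iv F313)).symm.trans (sb E123 (iv F437))))).symm
theorem E176 : n279 = n269 := (((D269).symm.trans (sb E123 (iv F444)))).symm
theorem F1328 : act 5 n57 = n94 := (sb E127 (iv D158))
theorem E187 : n205 = n188 := ((D205).symm.trans (sb E129 (iv D322)))
theorem E190 : n296 = n18 := ((((iv D32)).symm.trans (iv (sb E134 (tr (iv D303) E164))))).symm
theorem E191 : n303 = n18 := (E134).trans E190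
theorem E192 : n515 = n9 := ((((iv D18)).symm.trans (sb E191 D515))).symm
theorem E194 : n517 = n34 := (((D34).symm.trans (sb E191 D517))).symm
theorem E195 : n174 = n34 := (((iv F302)).symm.trans (sb E135 (tr (iv F770) E194)))
theorem E196 : n519 = n179 := (((D179).symm.trans (sb E135 (iv F774)))).symm
theorem E197 : n107 = n59 := (((D59).symm.trans (iv (sb E135 (tr (iv D305) E164))))).symm
theorem E203 : n368 = n112 := (((F319).symm.trans (sb E147 F1305))).symm
theorem E204 : n315 = n313 := ((((iv F494)).symm.trans (sb E147 F789))).symm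
theorem E205 : n328 = n120 := (((F320).symm.trans (sb E147 F790))).symm
theorem E207 : n375 = n318 := (((D318).symm.trans (sb E147 F1306))).symm
theorem E208 : n128 = n38 := ((((iv D65)).symm.trans (sb E149 (iv D217)))).symm
theorem E210 : n310 = n111 := (((D111).symm.trans (sb E149 F1288))).symm
theorem E211 : n131 = n113 := (((D113).symm.trans (sb E149 F364))).symm
theorem F1334 : act 3 n183 = n110 := (sb E150 (iv D184))
theorem E212 : n316 = n314 := (((D314).symm.trans (sb E150 D316))).symm
theorem E213 : n119 = n114 := ((D119).symm.trans (sb E151 (iv D192)))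
theorem E218 : n142 = n109 := ((((iv F211)).symm.trans (sb E156 F392))).symm
theorem E221 : n59 = n49 := ((E197).symm.trans ((D107).symm.trans (sb E158 (iv D84))))
theorem E222 : n135 = n37 := ((((iv D63)).symm.trans (sb E158 (iv F246)))).symm
theorem F1335 : act 3 n63 = n57 := (sb E158 F167)
theorem E224 : n308 = n164 := (((iv F480)).symm.trans (sb E160 F441))
theorem E225 : n467 = n330 := (((D330).symm.trans (sb E160 D467))).symm
theorem F1336 : act 0 n98 = n115 := (sb E162 F312)
theorem E226 : n304 = n58 := (((F195).symm.trans (sb E162 (iv F474)))).symm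
theorem E227 : n159 = n157 := ((((iv F288)).symm.trans (sb E162 F313))).symm
theorem E228 : n450 = n329 := (((D329).symm.trans (sb E163 D450))).symm
theorem E230 : n107 = n49 := (E197).trans E221
theorem F1337 : act 0 n94 = n114 := (sb E165 (iv F219))
theorem E231 : n156 = n55 := ((((iv D94)).symm.trans (sb E165 (iv F286)))).symm
theorem F1338 : act 5 n98 = n157 := (sb E175 (iv D268))
theorem E248 : n472 = n460 := (((D460).symm.trans (sb E176 (iv F710)))).symm
theorem F1339 : act 1 n188 = n121 := (sb E187 (iv D205))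
theorem E263 : n346 = n321 := ((((iv F506)).symm.trans (sb E187 (iv F543)))).symm
theorem E265 : n498 = n28 := ((((iv F68)).symm.trans (sb E190 (iv F737)))).symm
theorem E267 : n866 = n5 := ((((iv D9)).symm.trans (sb E192 D866))).symm
theorem E273 : n293 = n51 := ((((iv F111)).symm.trans (sb E195 D293))).symm
theorem E274 : n105 = n61 := (((D61).symm.trans (sb E195 (iv D174)))).symm
theorem E275 : n294 = n19 := (((F77).symm.trans (sb E195 D294))).symm
theorem E276 : n295 = n60 := ((((iv F124)).symm.trans (sb E195 D295))).symm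
theorem E277 : n873 = n306 := (((D306).symm.trans (sb E196 (iv F1248)))).symm
theorem E278 : n179 = n101 := (((D101).symm.trans (iv (sb E196 (tr (iv D519) E226))))).symm
theorem F1340 : act 1 n49 = n63 := (sb E230 (iv D107))
theorem E280 : n101 = n85 := (((D85).symm.trans (sb E230 (tr D179 E278)))).symm
theorem E290 : n216 = n67 := (((F216).symm.trans (sb E203 (iv D368)))).symm
theorem E292 : n623 = n189 := (((D189).symm.trans (sb E203 (iv F917)))).symm
theorem E293 : n220 = n190 := (((D190).symm.trans (sb E203 F570))).symm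
theorem E294 : n525 = n187 := (((iv F784)).symm.trans (sb E204 F495))
theorem E295 : n532 = n529 := (((D529).symm.trans (sb E204 D532))).symm
theorem E296 : n533 = n530 := (((D530).symm.trans (sb E204 D533))).symm
theorem E297 : n201 = n193 := (((iv F342)).symm.trans (sb E205 F516))
theorem E299 : n636 = n537 := (((D537).symm.trans (sb E207 D636))).symm
theorem E301 : n211 = n63 := ((((iv F130)).symm.trans (sb E208 (iv F357)))).symm
theorem E304 : n74 = n68 := (((D68).symm.trans (sb E208 (iv D128)))).symm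
theorem F1341 : act 0 n111 = n183 := (sb E210 (iv D310))
theorem F1342 : act 2 n111 = n183 := (sb E210 F490)
theorem F1343 : act 1 n113 = n76 := (sb E211 (iv D131))
theorem F1344 : act 0 n314 = n188 := (sb E212 F497)
theorem E307 : n534 = n531 := (((D531).symm.trans (sb E212 D534))).symm
theorem F1345 : act 2 n314 = n188 := (sb E212 F498)
theorem F1346 : act 3 n314 = n186 := (sb E212 F499)
theorem F1347 : act 1 n114 = n70 := (sb E213 (iv D119))
theorem E316 : n179 = n85 := (E278).trans E280
theorem E317 : n230 = n64 := (((F212).symm.trans (sb E218 (iv F376)))).symm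
theorem E318 : n242 = n182 := (((D182).symm.trans (sb E218 D242))).symm
theorem E321 : n86 = n32 := (((F107).symm.trans (sb E221 (iv F170)))).symm
theorem E322 : n34 = n28 := ((((iv D49)).symm.trans (sb E221 F122))).symm
theorem E323 : n80 = n62 := ((((iv F128)).symm.trans (sb E222 (iv D135)))).symm
theorem F1348 : act 0 n164 = n194 := (sb E224 F480)
theorem E326 : n518 = n100 := (((F292).symm.trans (sb E224 (iv F771)))).symm
theorem E327 : n522 = n278 := (((D278).symm.trans (sb E224 D522))).symm
theorem F1349 : act 5 n164 = n269 := (sb E224 F482)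
theorem E329 : n783 = n555 := (((D555).symm.trans (sb E225 D783))).symm
theorem F1350 : act 0 n157 = n193 := (sb E227 (iv F331))
theorem E331 : n265 = n96 := (((F287).symm.trans (sb E227 (iv F434)))).symm
theorem E332 : n269 = n267 := (((D267).symm.trans (sb E227 D269))).symm
theorem E333 : n760 = n553 := (((D553).symm.trans (sb E228 D760))).symm
theorem F1351 : act 3 n55 = n94 := (sb E231 (iv D156))
theorem E367 : n791 = n775 := (((D775).symm.trans (sb E248 (iv F1143)))).symm
theorem F1352 : act 1 n321 = n204 := (sb E263 (iv D346))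
theorem E383 : n582 = n541 := ((((iv F811)).symm.trans (sb E263 (iv F863)))).symm
theorem E385 : n839 = n47 := ((((iv F103)).symm.trans (sb E265 D839))).symm
theorem E387 : n840 = n8 := (((D8).symm.trans (sb E267 F1237))).symm
theorem E388 : n834 = n5 := (((F19).symm.trans (sb E267 F1238))).symm
theorem E390 : n496 = n29 := (((F112).symm.trans (sb E273 D496))).symm
theorem E391 : n497 = n87 := ((((iv F175)).symm.trans (sb E273 D497))).symm
theorem E392 : n175 = n35 := (((F125).symm.trans (sb E274 D175))).symm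
theorem E393 : n176 = n103 := ((((iv F199)).symm.trans (sb E274 D176))).symm
theorem E394 : n499 = n10 := (((F47).symm.trans (sb E275 D499))).symm
theorem E395 : n500 = n19 := (((F48).symm.trans (sb E275 D500))).symm
theorem E396 : n502 = n60 := (((F123).symm.trans (sb E276 D502))).symm
theorem E397 : n306 = n168 := (((D168).symm.trans (iv (sb E277 (tr (iv D873) E326))))).symm
theorem F1353 : act 1 n85 = n109 := (sb E316 F310)
theorem E399 : n168 = n144 := (((D144).symm.trans (sb E316 (tr D306 E397)))).symm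
theorem E401 : n145 = n58 := (((F168).symm.trans (sb E280 (iv F263)))).symm
theorem E402 : n60 = n50 := (((F169).symm.trans (sb E280 F196))).symm
theorem E403 : n502 = n50 := (E396).trans E402
theorem E406 : n367 = n116 := (((D116).symm.trans (sb E290 (iv F568)))).symm
theorem E407 : n127 = n117 := (((D117).symm.trans (sb E290 (iv D216)))).symm
theorem E408 : n374 = n324 := (((D324).symm.trans (sb E292 F918))).symm
theorem F1355 : act 1 n190 = n130 := (sb E293 (iv D220))
theorem F1356 : act 0 n187 = n313 := (sb E294 F784)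
theorem F1357 : act 2 n187 = n313 := (sb E294 F786)
theorem E410 : n883 = n320 := (((D320).symm.trans (sb E294 D883))).symm
theorem F1358 : act 4 n529 = n317 := (sb E295 F797)
theorem F1359 : act 0 n530 = n321 := (sb E296 F798)
theorem F1360 : act 2 n530 = n321 := (sb E296 F799)
theorem F1361 : act 1 n193 = n120 := (sb E297 F342)
theorem E412 : n341 = n329 := (((D329).symm.trans (sb E297 D341))).symm
theorem F1362 : act 0 n537 = n537 := (sb E299 (tr F935 E299))
theorem E414 : n356 = n37 := ((((iv D63)).symm.trans (sb E301 (iv F558)))).symm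
theorem F1363 : act 1 n68 = n43 := (sb E304 (iv D74))
theorem F1364 : act 3 n531 = n319 := (sb E307 F801)
theorem E420 : n137 = n106 := ((((iv F205)).symm.trans (sb E317 F375))).symm
theorem E422 : n306 = n144 := (E397).trans E399
theorem E423 : n415 = n309 := (((D309).symm.trans (sb E318 D415))).symm
theorem F1365 : act 4 n182 = n164 := (sb E318 F396)
theorem E424 : n51 = n18 := ((((iv D32)).symm.trans (sb E321 F171))).symm
theorem F1366 : act 5 n32 = n49 := (sb E321 (iv D86))
theorem E426 : n19 = n15 := ((((iv D28)).symm.trans (sb E322 F77))).symm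
theorem F1367 : act 2 n62 = n47 := (sb E323 (iv D80))
theorem E427 : n136 = n36 := ((((iv D62)).symm.trans (sb E323 D136))).symm
theorem F1368 : act 0 n278 = n330 := (sb E327 F777)
theorem E433 : n878 = n471 := (((D471).symm.trans (sb E327 D878))).symm
theorem F1369 : act 5 n278 = n460 := (sb E327 F779)
theorem E434 : n775 = n772 := (((iv F1127)).symm.trans (sb E329 F1134))
theorem E435 : n456 = n160 := (((D160).symm.trans (sb E331 D456))).symm
theorem F1370 : act 0 n267 = n329 := (sb E332 (iv F517))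
theorem E436 : n460 = n458 := (((D458).symm.trans (sb E332 D460))).symm
theorem F1371 : act 5 n267 = n164 := (sb E332 (iv F1349))
theorem F1372 : act 3 n553 = n789 := (sb E333 (iv F1142))
theorem E455 : n791 = n772 := (E367).trans E434
theorem F1374 : act 5 n772 = n471 := (sb E455 (iv D791))
theorem F1375 : act 1 n541 = n345 := (sb E383 (iv D582))
theorem E464 : n602 = n82 := (((D82).symm.trans (sb E385 F1196))).symm
theorem E465 : n10 = n8 := (((F27).symm.trans (sb E387 (tr (iv D840) E394)))).symm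
theorem E467 : n29 = n9 := (((D9).symm.trans (sb E388 (tr (iv D834) E390)))).symm
theorem E475 : n837 = n87 := (((F174).symm.trans (sb E391 D837))).symm
theorem E476 : n297 = n35 := (((F79).symm.trans (sb E392 D297))).symm
theorem E477 : n298 = n103 := (((F198).symm.trans (sb E393 D298))).symm
theorem E479 : n500 = n15 := (E395).trans E426
theorem E480 : n35 = n27 := (((D27).symm.trans (sb E479 (tr F740 E476)))).symm
theorem E482 : n87 = n33 := (((F109).symm.trans (sb E403 (tr (iv F1191) E475)))).symm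
theorem E483 : n103 = n81 := ((((iv F161)).symm.trans (sb E403 (tr F743 E477)))).symm
theorem F1376 : act 1 n144 = n182 := (sb E422 F477)
theorem E486 : n520 = n245 := (((D245).symm.trans (sb E422 D520))).symm
theorem E488 : n246 = n100 := (((F261).symm.trans (sb E399 (iv F403)))).symm
theorem F1377 : act 5 n58 = n85 := (sb E401 (iv D145))
theorem E496 : n622 = n195 := (((D195).symm.trans (sb E406 (iv F916)))).symm
theorem E498 : n215 = n196 := (((D196).symm.trans (sb E406 (iv D367)))).symm
theorem F1378 : act 1 n117 = n75 := (sb E407 F239)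
theorem F1379 : act 1 n324 = n219 := (sb E408 (iv D374))
theorem F1380 : act 0 n320 = n529 := (sb E410 F1265)
theorem F1381 : act 1 n329 = n203 := (sb E412 F533)
theorem E504 : n82 = n62 := ((((iv F128)).symm.trans (sb E414 (tr D602 E464)))).symm
theorem F1382 : act 2 n106 = n81 := (sb E420 F250)
theorem E511 : n234 = n106 := (((F206).symm.trans (sb E420 D234))).symm
theorem E512 : n235 = n81 := (((E483).symm.trans ((F207).symm.trans (sb E420 D235)))).symm
theorem E515 : n702 = n523 := (((D523).symm.trans (sb E423 D702))).symm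
theorem F1383 : act 4 n309 = n278 := (sb E423 F631)
theorem F1384 : act 5 n18 = n28 := (sb E424 (iv D51))
theorem E518 : n232 = n36 := (((F82).symm.trans (sb E427 D232))).symm
theorem E519 : n233 = n27 := (((E480).symm.trans ((F83).symm.trans (sb E427 D233)))).symm
theorem F1385 : act 0 n471 = n555 := (sb E433 F1253)
theorem E520 : n790 = n555 := ((D790).symm.trans (sb E433 F1254))
theorem F1386 : act 2 n772 = n555 := (sb E434 F1127)
theorem E521 : n769 = n270 := (((D270).symm.trans (sb E435 D769))).symm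
theorem F1387 : act 4 n160 = n267 := (sb E435 F691)
theorem F1388 : act 0 n458 = n553 := (sb E436 (iv F828))
theorem E522 : n774 = n771 := (((D771).symm.trans (sb E436 D774))).symm
theorem F1389 : act 5 n458 = n278 := (sb E436 (iv F1369))
theorem E573 : n16 = n5 := ((((iv D8)).symm.trans (sb E465 (iv F42)))).symm
theorem F1390 : act 5 n9 = n15 := (sb E467 (iv D29))
theorem F1391 : act 5 n33 = n50 := (sb E482 (iv D87))
theorem E592 : n874 = n420 := (((D420).symm.trans (sb E486 D874))).symm
theorem E594 : n421 = n167 := (((D167).symm.trans (sb E488 (iv F642)))).symm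
theorem F1392 : act 5 n100 = n144 := (sb E488 (iv D246))
theorem E598 : n366 = n332 := (((D332).symm.trans (sb E496 (iv D622)))).symm
theorem F1393 : act 1 n196 = n129 := (sb E498 F362)
theorem F1394 : act 5 n62 = n47 := (sb E504 (iv D82))
theorem E602 : n401 = n81 := (((F1382).symm.trans (sb E511 D401))).symm
theorem E604 : n402 = n81 := (((F162).symm.trans (sb E512 (iv F615)))).symm
theorem F1396 : act 4 n523 = n470 := (sb E515 F1025)
theorem F1397 : act 5 n36 = n399 := (sb E518 D399)
theorem E605 : n399 = n27 := (((F67).symm.trans (sb E519 (iv F610)))).symm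
theorem F1398 : act 4 n555 = n471 := (sb E520 (iv D790))
theorem F1399 : act 4 n270 = n458 := (sb E521 F1121)
theorem F1400 : act 4 n771 = n461 := (sb E522 F1126)
theorem F1401 : act 5 n5 = n8 := (sb E573 (iv D16))
theorem F1402 : act 2 n420 = n523 := (sb E592 F1250)
theorem F1403 : act 5 n167 = n245 := (sb E594 (iv D421))
theorem E629 : n620 = n558 := (((D558).symm.trans (sb E598 D620))).symm
theorem F1404 : act 5 n81 = n682 := (sb E602 D682)
theorem E634 : n682 = n106 := ((((iv F1382)).symm.trans (sb E604 (iv F992)))).symm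
theorem F1405 : act 5 n27 = n36 := (sb E605 (iv F1397))
theorem F1407 : act 2 n558 = n371 := (sb E629 F915)
theorem F1408 : act 5 n106 = n81 := (sb E634 (iv F1404))
theorem F1409 : act 2 n879 = n711 := d1_2 F1402 D879 (iv D711)
theorem F1410 : act 2 n880 = n712 := d11_3 (iv D712) F1402 D880
theorem F1411 : act 4 n788 = n880 := d10_0 F1410 F1042 (iv F1140)
theorem F1412 : act 4 n786 = n879 := d10_0 F1409 F1040 (iv F1138)
theorem F1413 : act 4 n772 = n789 := d12_2 F1399 D772 (iv F1372) F829 F523
theorem F1414 : act 5 n789 = n555 := d14_2 (iv F1374) F1413 F1398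
def n889 : Q := act 2 n529
theorem D889 : act 2 n529 = n889 := rfl
theorem F1415 : act 0 n889 = n540 := d1_1 D889 (iv D540) F1380
theorem F1416 : act 4 n889 = n535 := d10_2 (iv F1358) D889 (iv D535)
def n890 : Q := act 5 n529
theorem D890 : act 5 n529 = n890 := rfl
theorem F1417 : act 0 n890 = n541 := d4_1 D890 (iv D541) F1380
theorem F1418 : act 3 n890 = n530 := d13_1 D890 (iv D530) D529
theorem F1419 : act 4 n890 = n536 := d14_1 D890 (iv D536) (iv F1358)
def n891 : Q := act 1 n530
theorem D891 : act 1 n530 = n891 := rfl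
theorem F1420 : act 0 n891 = n891 := d0_1 D891 (iv D891) F1359 F1352 F346 F232 (iv F346) (iv F1352) (iv F1359)
theorem F1421 : act 2 n891 = n537 := d5_2 (iv F1360) D891 (iv D537) F502 (iv F1352)
theorem F1422 : act 4 n891 = n531 := d7_2 (iv F794) D891 (iv D531)
theorem F1423 : act 5 n891 = n537 := d8_2 D530 D891 (iv D537) (iv D318) (iv F494)
def n892 : Q := act 1 n535
theorem D892 : act 1 n535 = n892 := rfl
def n893 : Q := act 5 n535
theorem D893 : act 5 n535 = n893 := rfl
theorem F1424 : act 0 n893 = n546 := d4_1 D893 (iv D546) (iv F802)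
theorem F1425 : act 2 n893 = n536 := d11_1 D893 (iv D536) D535
def n894 : Q := act 1 n536
theorem D894 : act 1 n536 = n894 := rfl
theorem F1426 : act 0 n894 = n894 := d0_1 D894 (iv D894) F803 F1379 F366 F244 (iv F366) (iv F1379) (iv F803)
theorem F1427 : act 3 n894 = n537 := d6_2 (iv F804) D894 (iv D537)
def n895 : Q := act 1 n540
theorem D895 : act 1 n540 = n895 := rfl
theorem F1428 : act 2 n895 = n554 := d5_2 D540 D895 (iv D554) (iv D330) (iv F504)
theorem F1429 : act 4 n895 = n544 := d7_2 (iv F810) D895 (iv D544)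
def n896 : Q := act 3 n540
theorem D896 : act 3 n540 = n896 := rfl
theorem F1430 : act 2 n896 = n896 := d15_2 D540 D896 (iv D896) (iv D540) (iv D320) F1357 D529 (iv F1380)
def n897 : Q := act 5 n540
theorem D897 : act 5 n540 = n897 := rfl
theorem F1431 : act 2 n897 = n541 := d11_1 D897 (iv D541) D540
theorem F1432 : act 4 n897 = n546 := d14_1 D897 (iv D546) (iv F810)
def n898 : Q := act 0 n544
theorem D898 : act 0 n544 = n898 := rfl
theorem F1433 : act 2 n898 = n556 := d1_2 (iv F817) D898 (iv D556)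
def n899 : Q := act 3 n544
theorem D899 : act 3 n544 = n899 := rfl
theorem F1434 : act 1 n899 = n545 := d6_1 D899 (iv D545) D544
def n900 : Q := act 5 n544
theorem D900 : act 5 n544 = n900 := rfl
theorem F1435 : act 2 n900 = n557 := d11_1 D900 (iv D557) (iv F817)
def n901 : Q := act 4 n545
theorem D901 : act 4 n545 = n901 := rfl
def n902 : Q := act 5 n545
theorem D902 : act 5 n545 = n902 := rfl
theorem F1436 : act 3 n902 = n546 := d13_1 D902 (iv D546) D545
def n903 : Q := act 1 n546
theorem D903 : act 1 n546 = n903 := rfl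
theorem F1437 : act 2 n903 = n633 := d5_2 (iv F818) D903 (iv D633) F578 (iv F1379)
def n904 : Q := act 1 n553
theorem D904 : act 1 n553 = n904 := rfl
theorem F1438 : act 2 n904 = n579 := d5_2 D553 D904 (iv D579) (iv D344) (iv F1381)
theorem F1439 : act 4 n904 = n558 := d7_2 (iv F829) D904 (iv D558)
def n905 : Q := act 0 n554
theorem D905 : act 0 n554 = n905 := rfl
theorem F1440 : act 4 n905 = n556 := d3_2 (iv F831) D905 (iv D556)
def n906 : Q := act 3 n554
theorem D906 : act 3 n554 = n906 := rfl
theorem F1441 : act 1 n906 = n555 := d6_1 D906 (iv D555) D554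
theorem F1442 : act 4 n906 = n787 := d12_2 (iv F831) D906 (iv D787) (iv F1396) F780
def n907 : Q := act 5 n554
theorem D907 : act 5 n554 = n907 := rfl
theorem F1443 : act 4 n907 = n557 := d14_1 D907 (iv D557) (iv F831)
def n908 : Q := act 1 n556
theorem D908 : act 1 n556 = n908 := rfl
def n909 : Q := act 5 n556
theorem D909 : act 5 n556 = n909 := rfl
theorem F1444 : act 0 n909 = n557 := d4_1 D909 (iv D557) D556
def n910 : Q := act 1 n557
theorem D910 : act 1 n557 = n910 := rfl
theorem F1445 : act 3 n910 = n777 := d6_2 F1258 D910 (iv F1257)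
theorem F1446 : act 5 n910 = n558 := d8_2 D557 D910 (iv D558) (iv D332) D331
theorem F1447 : act 2 n630 = n910 := d11_3 F1446 F1407 D630
def n911 : Q := act 0 n558
theorem D911 : act 0 n558 = n911 := rfl
theorem F1448 : act 2 n911 = n628 := d1_2 (iv F1407) D911 (iv D628)
theorem F1449 : act 3 n911 = n776 := d2_2 (iv F832) D911 (iv D776)
def n912 : Q := act 0 n579
theorem D912 : act 0 n579 = n912 := rfl
theorem F1450 : act 4 n912 = n628 := d3_2 (iv F857) D912 (iv D628)
def n913 : Q := act 3 n579
theorem D913 : act 3 n579 = n913 := rfl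
theorem F1451 : act 1 n913 = n580 := d6_1 D913 (iv D580) D579
def n914 : Q := act 5 n579
theorem D914 : act 5 n579 = n914 := rfl
theorem F1452 : act 4 n914 = n630 := d14_1 D914 (iv D630) (iv F857)
def n915 : Q := act 4 n580
theorem D915 : act 4 n580 = n915 := rfl
theorem F1453 : act 0 n915 = n592 := d3_1 D915 (iv D592) (iv F858)
theorem F1454 : act 2 n915 = n901 := d10_1 D915 (iv D901) (iv F859)
theorem F1455 : act 3 n915 = n631 := d12_1 D915 (iv D631) (iv D372) (iv F539) D580
def n916 : Q := act 5 n580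
theorem D916 : act 5 n580 = n916 := rfl
theorem F1456 : act 0 n916 = n593 := d4_1 D916 (iv D593) (iv F858)
theorem F1457 : act 2 n916 = n902 := d11_1 D916 (iv D902) (iv F859)
theorem F1458 : act 3 n916 = n581 := d13_1 D916 (iv D581) D580
def n917 : Q := act 1 n581
theorem D917 : act 1 n581 = n917 := rfl
theorem F1459 : act 4 n917 = n633 := d7_2 (iv F862) D917 (iv D633)
def n918 : Q := act 1 n588
theorem D918 : act 1 n588 = n918 := rfl
theorem F1460 : act 4 n918 = n644 := d7_2 (iv F871) D918 (iv D644)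
def n919 : Q := act 3 n588
theorem D919 : act 3 n588 = n919 := rfl
theorem F1461 : act 0 n919 = n589 := d2_1 D919 (iv D589) D588
def n920 : Q := act 5 n588
theorem D920 : act 5 n588 = n920 := rfl
theorem F1462 : act 0 n920 = n590 := d4_1 D920 (iv D590) D588
theorem F1463 : act 2 n920 = n596 := d11_1 D920 (iv D596) (iv F870)
theorem F1464 : act 4 n920 = n646 := d14_1 D920 (iv D646) (iv F871)
def n921 : Q := act 2 n589
theorem D921 : act 2 n589 = n921 := rfl
def n922 : Q := act 4 n589
theorem D922 : act 4 n589 = n922 := rfl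
theorem F1465 : act 1 n922 = n592 := d7_1 D922 (iv D592) (iv F872)
theorem F1466 : act 3 n922 = n648 := d12_1 D922 (iv D648) (iv D381) (iv F546) D589
def n923 : Q := act 5 n589
theorem D923 : act 5 n589 = n923 := rfl
theorem F1467 : act 3 n923 = n590 := d13_1 D923 (iv D590) D589
def n924 : Q := act 1 n590
theorem D924 : act 1 n590 = n924 := rfl
theorem F1468 : act 2 n924 = n924 := d5_2 (iv F873) D924 (iv D924) F873 F551
theorem F1469 : act 4 n924 = n650 := d7_2 (iv F874) D924 (iv D650)
theorem F1470 : act 5 n924 = n594 := d8_2 D590 D924 (iv D594) (iv D351) D349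
def n925 : Q := act 1 n591
theorem D925 : act 1 n591 = n925 := rfl
theorem F1471 : act 3 n925 = n892 := d6_2 (iv F876) D925 (iv D892)
def n926 : Q := act 4 n591
theorem D926 : act 4 n591 = n926 := rfl
theorem F1472 : act 0 n926 = n901 := d3_1 D926 (iv D901) (iv F875)
theorem F1473 : act 2 n926 = n592 := d10_1 D926 (iv D592) D591
def n927 : Q := act 5 n591
theorem D927 : act 5 n591 = n927 := rfl
theorem F1474 : act 0 n927 = n902 := d4_1 D927 (iv D902) (iv F875)
theorem F1475 : act 2 n927 = n593 := d11_1 D927 (iv D593) D591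
theorem F1476 : act 3 n927 = n893 := d13_1 D927 (iv D893) (iv F876)
def n928 : Q := act 5 n592
theorem D928 : act 5 n592 = n928 := rfl
theorem F1477 : act 3 n928 = n651 := d13_1 D928 (iv D651) (iv F877)
theorem F1478 : act 4 n928 = n593 := d14_1 D928 (iv D593) D592
def n929 : Q := act 1 n593
theorem D929 : act 1 n593 = n929 := rfl
theorem F1479 : act 3 n929 = n594 := d6_2 (iv F878) D929 (iv D594)
def n930 : Q := act 0 n594
theorem D930 : act 0 n594 = n930 := rfl
def n931 : Q := act 0 n595
theorem D931 : act 0 n595 = n931 := rfl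
theorem F1482 : act 1 n931 = n654 := d0_2 D595 D931 (iv D654) (iv D386) (iv D226) (iv D134) (iv F234) D208 D352
theorem F1483 : act 3 n931 = n654 := d2_2 (iv F881) D931 (iv D654)
theorem F1484 : act 4 n931 = n654 := d3_2 (iv F882) D931 (iv D654)
def n932 : Q := act 2 n595
theorem D932 : act 2 n595 = n932 := rfl
theorem F1485 : act 4 n932 = n655 := d10_2 (iv F882) D932 (iv D655)
def n933 : Q := act 5 n595
theorem D933 : act 5 n595 = n933 := rfl
theorem F1486 : act 3 n933 = n656 := d13_1 D933 (iv D656) (iv F881)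
theorem F1487 : act 4 n933 = n656 := d14_1 D933 (iv D656) (iv F882)
def n934 : Q := act 1 n596
theorem D934 : act 1 n596 = n934 := rfl
theorem F1488 : act 3 n934 = n657 := d6_2 (iv F884) D934 (iv D657)
theorem F1489 : act 4 n934 = n657 := d7_2 (iv F885) D934 (iv D657)
def n935 : Q := act 1 n628
theorem D935 : act 1 n628 = n935 := rfl
def n936 : Q := act 3 n628
theorem D936 : act 3 n628 = n936 := rfl
theorem F1490 : act 0 n936 = n629 := d2_1 D936 (iv D629) D628
def n937 : Q := act 5 n628
theorem D937 : act 5 n628 = n937 := rfl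
theorem F1491 : act 0 n937 = n630 := d4_1 D937 (iv D630) D628
def n938 : Q := act 2 n629
theorem D938 : act 2 n629 = n938 := rfl
theorem F1492 : act 1 n938 = n647 := d5_1 D938 (iv D647) F589 (iv F576) (iv F928)
def n939 : Q := act 4 n629
theorem D939 : act 4 n629 = n939 := rfl
theorem F1493 : act 1 n939 = n631 := d7_1 D939 (iv D631) (iv F928)
def n940 : Q := act 5 n629
theorem D940 : act 5 n629 = n940 := rfl
theorem F1494 : act 3 n940 = n630 := d13_1 D940 (iv D630) D629
def n941 : Q := act 1 n630
theorem D941 : act 1 n630 = n941 := rfl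
theorem F1495 : act 5 n941 = n633 := d8_2 D630 D941 (iv D633) (iv D373) D371
def n942 : Q := act 5 n631
theorem D942 : act 5 n631 = n942 := rfl
theorem F1496 : act 0 n942 = n651 := d4_1 D942 (iv D651) (iv F929)
theorem F1497 : act 2 n942 = n651 := d11_1 D942 (iv D651) (iv F930)
theorem F1498 : act 4 n942 = n632 := d14_1 D942 (iv D632) D631
def n943 : Q := act 1 n632
theorem D943 : act 1 n632 = n943 := rfl
theorem F1499 : act 3 n943 = n633 := d6_2 (iv F933) D943 (iv D633)
def n944 : Q := act 0 n633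
theorem D944 : act 0 n633 = n944 := rfl
def n945 : Q := act 0 n644
theorem D945 : act 0 n644 = n945 := rfl
def n946 : Q := act 2 n644
theorem D946 : act 2 n644 = n946 := rfl
theorem F1500 : act 1 n946 = n655 := d5_1 D946 (iv D655) (iv D386) (iv F588) D644
def n947 : Q := act 3 n644
theorem D947 : act 3 n644 = n947 := rfl
theorem F1501 : act 1 n947 = n645 := d6_1 D947 (iv D645) D644
def n948 : Q := act 5 n644
theorem D948 : act 5 n644 = n948 := rfl
def n949 : Q := act 2 n645
theorem D949 : act 2 n645 = n949 := rfl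
theorem F1502 : act 0 n949 = n647 := d1_1 D949 (iv D647) (iv F949)
theorem F1503 : act 3 n949 = n921 := d15_1 D949 (iv D921) (iv D589) F545 F353 (iv F370) D381 (iv F949)
def n950 : Q := act 4 n645
theorem D950 : act 4 n645 = n950 := rfl
theorem F1504 : act 0 n950 = n648 := d3_1 D950 (iv D648) (iv F949)
def n951 : Q := act 5 n645
theorem D951 : act 5 n645 = n951 := rfl
theorem F1505 : act 0 n951 = n649 := d4_1 D951 (iv D649) (iv F949)
theorem F1506 : act 3 n951 = n646 := d13_1 D951 (iv D646) D645
def n952 : Q := act 1 n646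
theorem D952 : act 1 n646 = n952 := rfl
def n953 : Q := act 3 n647
theorem D953 : act 3 n647 = n953 := rfl
theorem F1507 : act 0 n953 = n921 := d2_1 D953 (iv F1503) F1502
theorem F1508 : act 2 n953 = n919 := d9_1 D953 (iv D919) F870 F549 (iv F588) D645 D949 F1503 (iv D921) (iv D589) F545 F353 (iv F370) D381 D647
def n954 : Q := act 4 n647
theorem D954 : act 4 n647 = n954 := rfl
theorem F1509 : act 2 n954 = n648 := d10_1 D954 (iv D648) D647
def n955 : Q := act 5 n647
theorem D955 : act 5 n647 = n955 := rfl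
def n956 : Q := act 5 n648
theorem D956 : act 5 n648 = n956 := rfl
theorem F1511 : act 4 n956 = n649 := d14_1 D956 (iv D649) D648
def n957 : Q := act 1 n649
theorem D957 : act 1 n649 = n957 := rfl
theorem F1512 : act 3 n957 = n650 := d6_2 (iv F953) D957 (iv D650)
theorem F1513 : act 5 n957 = n652 := d8_2 D649 D957 (iv D652) (iv D384) (iv F589)
def n958 : Q := act 0 n650
theorem D958 : act 0 n650 = n958 := rfl
theorem F1515 : act 5 n958 = n653 := d4_2 (iv F955) D958 (iv D653)
def n959 : Q := act 1 n651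
theorem D959 : act 1 n651 = n959 := rfl
theorem F1516 : act 4 n959 = n652 := d7_2 (iv F956) D959 (iv D652)
def n960 : Q := act 0 n652
theorem D960 : act 0 n652 = n960 := rfl
def n961 : Q := act 2 n652
theorem D961 : act 2 n652 = n961 := rfl
def n962 : Q := act 1 n653
theorem D962 : act 1 n653 = n962 := rfl
def n963 : Q := act 2 n654
theorem D963 : act 2 n654 = n963 := rfl
theorem F1518 : act 0 n963 = n655 := d1_1 D963 (iv D655) D654
def n964 : Q := act 5 n654
theorem D964 : act 5 n654 = n964 := rfl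
theorem F1519 : act 0 n964 = n656 := d4_1 D964 (iv D656) D654
def n965 : Q := act 3 n655
theorem D965 : act 3 n655 = n965 := rfl
def n966 : Q := act 5 n655
theorem D966 : act 5 n655 = n966 := rfl
theorem F1520 : act 2 n966 = n656 := d11_1 D966 (iv D656) D655
def n967 : Q := act 1 n656
theorem D967 : act 1 n656 = n967 := rfl
theorem F1521 : act 5 n967 = n657 := d8_2 D656 D967 (iv D657) (iv D387) D386
def n968 : Q := act 0 n657
theorem D968 : act 0 n657 = n968 := rfl
def n969 : Q := act 2 n657
theorem D969 : act 2 n657 = n969 := rfl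
def n970 : Q := act 1 n711
theorem D970 : act 1 n711 = n970 := rfl
theorem F1522 : act 3 n970 = n805 := d6_2 (iv F1039) D970 (iv D805)
theorem F1523 : act 4 n970 = n805 := d7_2 (iv F1040) D970 (iv D805)
def n971 : Q := act 5 n711
theorem D971 : act 5 n711 = n971 := rfl
theorem F1524 : act 0 n971 = n712 := d4_1 D971 (iv D712) D711
def n972 : Q := act 0 n771
theorem D972 : act 0 n771 = n972 := rfl
theorem F1527 : act 2 n972 = n776 := d1_2 (iv F1124) D972 (iv D776)
theorem F1528 : act 4 n972 = n776 := d3_2 (iv F1400) D972 (iv D776)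
def n973 : Q := act 3 n771
theorem D973 : act 3 n771 = n973 := rfl
theorem F1529 : act 1 n973 = n772 := d6_1 D973 (iv D772) D771
def n974 : Q := act 5 n771
theorem D974 : act 5 n771 = n974 := rfl
theorem F1530 : act 1 n974 = n788 := d8_1 D974 (iv D788) (iv D470) (iv F1389) D771
theorem F1531 : act 2 n974 = n777 := d11_1 D974 (iv D777) (iv F1124)
theorem F1532 : act 4 n974 = n777 := d14_1 D974 (iv D777) (iv F1400)
def n975 : Q := act 1 n776
theorem D975 : act 1 n776 = n975 := rfl
def n976 : Q := act 5 n776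
theorem D976 : act 5 n776 = n976 := rfl
theorem F1533 : act 0 n976 = n777 := d4_1 D976 (iv D777) D776
def n977 : Q := act 1 n786
theorem D977 : act 1 n786 = n977 := rfl
def n978 : Q := act 3 n786
theorem D978 : act 3 n786 = n978 := rfl
theorem F1534 : act 0 n978 = n787 := d2_1 D978 (iv D787) D786
theorem F1535 : act 2 n978 = n899 := d15_2 (iv F1138) D978 (iv D899) F817 (iv F780) (iv F1402) F639 D479
def n979 : Q := act 5 n786
theorem D979 : act 5 n786 = n979 := rfl
theorem F1537 : act 2 n979 = n806 := d11_1 D979 (iv D806) (iv F1138)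
def n980 : Q := act 2 n787
theorem D980 : act 2 n787 = n980 := rfl
theorem F1538 : act 0 n980 = n899 := d1_1 D980 (iv F1535) F1534
theorem F1539 : act 3 n980 = n898 := d9_2 D787 D980 F1433 (iv F1256) F1409 F1039 (iv F1138) D978 F1535 (iv D899) F817 (iv F780) (iv F1402) F639 (iv F709)
def n981 : Q := act 5 n787
theorem D981 : act 5 n787 = n981 := rfl
theorem F1540 : act 3 n981 = n788 := d13_1 D981 (iv D788) D787
def n982 : Q := act 1 n789
theorem D982 : act 1 n789 = n982 := rfl
theorem F1541 : act 3 n982 = n904 := d6_2 F1372 D982 (iv D904)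
theorem F1542 : act 4 n982 = n973 := d7_2 F1413 D982 F1529
def n983 : Q := act 0 n805
theorem D983 : act 0 n805 = n983 := rfl
def n984 : Q := act 2 n805
theorem D984 : act 2 n805 = n984 := rfl
def n985 : Q := act 5 n805
theorem D985 : act 5 n805 = n985 := rfl
def n986 : Q := act 1 n806
theorem D986 : act 1 n806 = n986 := rfl
def n987 : Q := act 1 n879
theorem D987 : act 1 n879 = n987 := rfl
theorem F1543 : act 3 n987 = n908 := d6_2 (iv F1256) D987 (iv D908)
theorem F1544 : act 4 n987 = n977 := d7_2 F1412 D987 (iv D977)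
def n988 : Q := act 5 n879
theorem D988 : act 5 n879 = n988 := rfl
theorem F1546 : act 2 n988 = n971 := d11_1 D988 (iv D971) (iv F1409)
theorem F1547 : act 3 n988 = n909 := d13_1 D988 (iv D909) (iv F1256)
def n989 : Q := act 1 n889
theorem D989 : act 1 n889 = n989 := rfl
theorem F1549 : act 2 n989 = n892 := d5_2 D889 D989 (iv D892) (iv D535) (iv F793)
theorem F1550 : act 4 n989 = n892 := d7_2 (iv F1416) D989 (iv D892)
def n990 : Q := act 3 n889
theorem D990 : act 3 n889 = n990 := rfl
theorem F1551 : act 0 n990 = n896 := d2_1 D990 (iv D896) (iv F1415)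
theorem F1552 : act 2 n990 = n990 := d9_1 D990 (iv D990) (iv D889) (iv D529) (iv F1357) D320 D540 D896 F1430 (iv D896) (iv D540) (iv D320) F1357 D529 D889
def n991 : Q := act 5 n889
theorem D991 : act 5 n889 = n991 := rfl
theorem F1553 : act 0 n991 = n897 := d4_1 D991 (iv D897) (iv F1415)
theorem F1554 : act 2 n991 = n890 := d11_1 D991 (iv D890) D889
theorem F1555 : act 4 n991 = n893 := d14_1 D991 (iv D893) (iv F1416)
def n992 : Q := act 1 n890
theorem D992 : act 1 n890 = n992 := rfl
theorem F1556 : act 0 n992 = n992 := d0_1 D992 (iv D992) F1417 F1375 F540 F350 (iv F540) (iv F1375) (iv F1417)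
theorem F1557 : act 3 n992 = n891 := d6_2 (iv F1418) D992 (iv D891)
theorem F1558 : act 4 n992 = n894 := d7_2 (iv F1419) D992 (iv D894)
theorem F1559 : act 5 n992 = n894 := d8_2 D890 D992 (iv D894) (iv D536) (iv F793)
def n993 : Q := act 0 n892
theorem D993 : act 0 n892 = n993 := rfl
def n994 : Q := act 5 n892
theorem D994 : act 5 n892 = n994 := rfl
def n995 : Q := act 1 n893
theorem D995 : act 1 n893 = n995 := rfl
def n996 : Q := act 2 n894
theorem D996 : act 2 n894 = n996 := rfl
def n997 : Q := act 0 n895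
theorem D997 : act 0 n895 = n997 := rfl
theorem F1561 : act 2 n997 = n905 := d1_2 (iv F1428) D997 (iv D905)
theorem F1562 : act 4 n997 = n898 := d3_2 (iv F1429) D997 (iv D898)
def n998 : Q := act 3 n895
theorem D998 : act 3 n895 = n998 := rfl
theorem F1563 : act 1 n998 = n896 := d6_1 D998 (iv D896) D895
def n999 : Q := act 5 n895
theorem D999 : act 5 n895 = n999 := rfl
theorem F1564 : act 2 n999 = n907 := d11_1 D999 (iv D907) (iv F1428)
theorem F1565 : act 4 n999 = n900 := d14_1 D999 (iv D900) (iv F1429)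
def n1000 : Q := act 4 n896
theorem D1000 : act 4 n896 = n1000 := rfl
theorem F1566 : act 2 n1000 = n1000 := d10_1 D1000 (iv D1000) F1430
theorem F1567 : act 3 n1000 = n901 := d12_1 D1000 (iv D901) (iv D545) (iv F810) D896
def n1001 : Q := act 5 n896
theorem D1001 : act 5 n896 = n1001 := rfl
theorem F1568 : act 2 n1001 = n1001 := d11_1 D1001 (iv D1001) F1430
theorem F1569 : act 3 n1001 = n897 := d13_1 D1001 (iv D897) D896
def n1002 : Q := act 1 n897
theorem D1002 : act 1 n897 = n1002 := rfl
theorem F1570 : act 2 n1002 = n917 := d5_2 (iv F1431) D1002 (iv D917) F861 (iv F1375)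
theorem F1571 : act 4 n1002 = n903 := d7_2 (iv F1432) D1002 (iv D903)
def n1003 : Q := act 1 n898
theorem D1003 : act 1 n898 = n1003 := rfl
def n1004 : Q := act 5 n898
theorem D1004 : act 5 n898 = n1004 := rfl
theorem F1572 : act 0 n1004 = n900 := d4_1 D1004 (iv D900) D898
theorem F1573 : act 2 n1004 = n909 := d11_1 D1004 (iv D909) (iv F1433)
def n1005 : Q := act 4 n899
theorem D1005 : act 4 n899 = n1005 := rfl
theorem F1574 : act 1 n1005 = n901 := d7_1 D1005 (iv D901) (iv F1434)
def n1007 : Q := act 1 n900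
theorem D1007 : act 1 n900 = n1007 := rfl
theorem F1577 : act 5 n1007 = n903 := d8_2 D900 D1007 (iv D903) (iv D546) D544
def n1008 : Q := act 5 n901
theorem D1008 : act 5 n901 = n1008 := rfl
theorem F1578 : act 4 n1008 = n902 := d14_1 D1008 (iv D902) D901
def n1010 : Q := act 0 n903
theorem D1010 : act 0 n903 = n1010 := rfl
def n1011 : Q := act 0 n904
theorem D1011 : act 0 n904 = n1011 := rfl
theorem F1581 : act 2 n1011 = n912 := d1_2 (iv F1438) D1011 (iv D912)
theorem F1582 : act 4 n1011 = n911 := d3_2 (iv F1439) D1011 (iv D911)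
def n1012 : Q := act 5 n904
theorem D1012 : act 5 n904 = n1012 := rfl
theorem F1583 : act 1 n1012 = n907 := d8_1 D1012 (iv D907) (iv D554) (iv F830) D904
theorem F1584 : act 2 n1012 = n914 := d11_1 D1012 (iv D914) (iv F1438)
theorem F1585 : act 4 n1012 = n910 := d14_1 D1012 F1446 (iv F1439)
def n1013 : Q := act 1 n905
theorem D1013 : act 1 n905 = n1013 := rfl
theorem F1586 : act 4 n1013 = n908 := d7_2 (iv F1440) D1013 (iv D908)
def n1014 : Q := act 3 n905
theorem D1014 : act 3 n905 = n1014 := rfl
theorem F1587 : act 0 n1014 = n906 := d2_1 D1014 (iv D906) D905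
theorem F1588 : act 4 n1014 = n978 := d12_2 (iv F1440) D1014 (iv D978) F1412 F1256
theorem F1589 : act 2 n1005 = n1014 := d10_3 F1588 F1535 D1005
def n1015 : Q := act 5 n905
theorem D1015 : act 5 n905 = n1015 := rfl
theorem F1590 : act 0 n1015 = n907 := d4_1 D1015 (iv D907) D905
theorem F1591 : act 4 n1015 = n909 := d14_1 D1015 (iv D909) (iv F1440)
def n1016 : Q := act 2 n906
theorem D1016 : act 2 n906 = n1016 := rfl
theorem F1592 : act 0 n1016 = n1005 := d1_1 D1016 F1589 F1587
theorem F1593 : act 4 n1016 = n980 := d10_2 (iv F1442) D1016 (iv D980)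
def n1017 : Q := act 5 n906
theorem D1017 : act 5 n906 = n1017 := rfl
theorem F1594 : act 3 n1017 = n907 := d13_1 D1017 (iv D907) D906
theorem F1595 : act 4 n1017 = n981 := d14_1 D1017 (iv D981) (iv F1442)
def n1018 : Q := act 0 n908
theorem D1018 : act 0 n908 = n1018 := rfl
def n1019 : Q := act 2 n908
theorem D1019 : act 2 n908 = n1019 := rfl
def n1020 : Q := act 5 n908
theorem D1020 : act 5 n908 = n1020 := rfl
def n1021 : Q := act 1 n909
theorem D1021 : act 1 n909 = n1021 := rfl
def n1022 : Q := act 0 n910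
theorem D1022 : act 0 n910 = n1022 := rfl
theorem F1596 : act 2 n1022 = n937 := d1_2 F1447 D1022 F1491
theorem F1597 : act 3 n1022 = n976 := d2_2 (iv F1445) D1022 F1533
theorem F1598 : act 5 n1022 = n911 := d4_2 (iv F1446) D1022 (iv D911)
def n1023 : Q := act 1 n911
theorem D1023 : act 1 n911 = n1023 := rfl
theorem F1599 : act 3 n1023 = n975 := d6_2 (iv F1449) D1023 (iv D975)
def n1024 : Q := act 1 n912
theorem D1024 : act 1 n912 = n1024 := rfl
theorem F1600 : act 4 n1024 = n935 := d7_2 (iv F1450) D1024 (iv D935)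
def n1025 : Q := act 3 n912
theorem D1025 : act 3 n912 = n1025 := rfl
theorem F1601 : act 0 n1025 = n913 := d2_1 D1025 (iv D913) D912
def n1026 : Q := act 5 n912
theorem D1026 : act 5 n912 = n1026 := rfl
theorem F1602 : act 0 n1026 = n914 := d4_1 D1026 (iv D914) D912
theorem F1603 : act 4 n1026 = n937 := d14_1 D1026 (iv D937) (iv F1450)
def n1027 : Q := act 2 n913
theorem D1027 : act 2 n913 = n1027 := rfl
theorem F1604 : act 1 n1027 = n978 := d5_1 D1027 F1535 F1434 (iv F859) (iv F1451)
theorem F1605 : act 3 n977 = n1027 := d6_0 F1604 (iv D978) D977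
def n1028 : Q := act 4 n913
theorem D1028 : act 4 n913 = n1028 := rfl
theorem F1606 : act 1 n1028 = n915 := d7_1 D1028 (iv D915) (iv F1451)
theorem F1607 : act 3 n1028 = n939 := d12_1 D1028 (iv D939) (iv D629) (iv F857) D913
def n1029 : Q := act 5 n913
theorem D1029 : act 5 n913 = n1029 := rfl
theorem F1608 : act 3 n1029 = n914 := d13_1 D1029 (iv D914) D913
def n1030 : Q := act 1 n914
theorem D1030 : act 1 n914 = n1030 := rfl
theorem F1609 : act 4 n1030 = n941 := d7_2 (iv F1452) D1030 (iv D941)
theorem F1610 : act 5 n1030 = n917 := d8_2 D914 D1030 (iv D917) (iv D581) D579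
def n1031 : Q := act 5 n915
theorem D1031 : act 5 n915 = n1031 := rfl
theorem F1611 : act 0 n1031 = n928 := d4_1 D1031 (iv D928) (iv F1453)
theorem F1613 : act 3 n1031 = n942 := d13_1 D1031 (iv D942) (iv F1455)
theorem F1614 : act 4 n1031 = n916 := d14_1 D1031 (iv D916) D915
def n1032 : Q := act 1 n916
theorem D1032 : act 1 n916 = n1032 := rfl
theorem F1615 : act 3 n1032 = n917 := d6_2 (iv F1458) D1032 (iv D917)
def n1033 : Q := act 0 n917
theorem D1033 : act 0 n917 = n1033 := rfl
theorem F1616 : act 4 n1033 = n944 := d3_2 (iv F1459) D1033 (iv D944)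
def n1034 : Q := act 0 n918
theorem D1034 : act 0 n918 = n1034 := rfl
theorem F1617 : act 4 n1034 = n945 := d3_2 (iv F1460) D1034 (iv D945)
def n1035 : Q := act 2 n918
theorem D1035 : act 2 n918 = n1035 := rfl
theorem F1618 : act 1 n1035 = n932 := d5_1 D1035 (iv D932) (iv D595) (iv F870) D918
theorem F1619 : act 4 n1035 = n946 := d10_2 (iv F1460) D1035 (iv D946)
def n1036 : Q := act 3 n918
theorem D1036 : act 3 n918 = n1036 := rfl
theorem F1620 : act 1 n1036 = n919 := d6_1 D1036 (iv D919) D918
def n1037 : Q := act 5 n918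
theorem D1037 : act 5 n918 = n1037 := rfl
theorem F1621 : act 4 n1037 = n948 := d14_1 D1037 (iv D948) (iv F1460)
def n1038 : Q := act 4 n919
theorem D1038 : act 4 n919 = n1038 := rfl
theorem F1622 : act 0 n1038 = n922 := d3_1 D1038 (iv D922) (iv F1461)
theorem F1623 : act 3 n1038 = n950 := d12_1 D1038 (iv D950) (iv D645) (iv F871) D919
def n1039 : Q := act 5 n919
theorem D1039 : act 5 n919 = n1039 := rfl
theorem F1625 : act 3 n1039 = n920 := d13_1 D1039 (iv D920) D919
def n1040 : Q := act 1 n920
theorem D1040 : act 1 n920 = n1040 := rfl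
def n1041 : Q := act 1 n921
theorem D1041 : act 1 n921 = n1041 := rfl
theorem F1627 : act 2 n1041 = n925 := d5_2 D921 D1041 (iv D925) (iv D591) (iv F872)
def n1042 : Q := act 4 n921
theorem D1042 : act 4 n921 = n1042 := rfl
theorem F1628 : act 2 n1042 = n922 := d10_1 D1042 (iv D922) D921
def n1043 : Q := act 5 n921
theorem D1043 : act 5 n921 = n1043 := rfl
theorem F1629 : act 2 n1043 = n923 := d11_1 D1043 (iv D923) D921
def n1044 : Q := act 5 n922
theorem D1044 : act 5 n922 = n1044 := rfl
theorem F1630 : act 3 n1044 = n956 := d13_1 D1044 (iv D956) (iv F1466)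
theorem F1631 : act 4 n1044 = n923 := d14_1 D1044 (iv D923) D922
def n1045 : Q := act 1 n923
theorem D1045 : act 1 n923 = n1045 := rfl
theorem F1632 : act 3 n1045 = n924 := d6_2 (iv F1467) D1045 (iv D924)
theorem F1633 : act 5 n1045 = n929 := d8_2 D923 D1045 (iv D929) (iv D593) (iv F872)
def n1046 : Q := act 0 n924
theorem D1046 : act 0 n924 = n1046 := rfl
theorem F1634 : act 2 n1046 = n1046 := d1_2 F1468 D1046 (iv D1046)
theorem F1635 : act 4 n1046 = n958 := d3_2 (iv F1469) D1046 (iv D958)
theorem F1636 : act 5 n1046 = n930 := d4_2 (iv F1470) D1046 (iv D930)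
def n1047 : Q := act 0 n925
theorem D1047 : act 0 n925 = n1047 := rfl
theorem F1637 : act 3 n1047 = n993 := d2_2 (iv F1471) D1047 (iv D993)
def n1048 : Q := act 4 n925
theorem D1048 : act 4 n925 = n1048 := rfl
theorem F1638 : act 1 n1048 = n926 := d7_1 D1048 (iv D926) D925
def n1049 : Q := act 5 n925
theorem D1049 : act 5 n925 = n1049 := rfl
def n1050 : Q := act 3 n926
theorem D1050 : act 3 n926 = n1050 := rfl
theorem F1640 : act 0 n1050 = n1000 := d2_1 D1050 F1567 (iv F1472)
theorem F1641 : act 2 n1050 = n1050 := d9_1 D1050 (iv D1050) F1473 F877 (iv F930) (iv F1455) F1454 (iv F1567) F1566 F1567 (iv F1454) F1455 F930 (iv F877) (iv F1473)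
theorem F1642 : act 4 n1050 = n990 := d12_2 D926 D1050 (iv D990) F1416 (iv F876)
def n1051 : Q := act 5 n926
theorem D1051 : act 5 n926 = n1051 := rfl
theorem F1644 : act 2 n1051 = n928 := d11_1 D1051 (iv D928) (iv F1473)
theorem F1645 : act 4 n1051 = n927 := d14_1 D1051 (iv D927) D926
def n1052 : Q := act 1 n927
theorem D1052 : act 1 n927 = n1052 := rfl
theorem F1646 : act 3 n1052 = n995 := d6_2 (iv F1476) D1052 (iv D995)
def n1053 : Q := act 1 n928
theorem D1053 : act 1 n928 = n1053 := rfl
theorem F1647 : act 3 n1053 = n959 := d6_2 (iv F1477) D1053 (iv D959)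
theorem F1648 : act 4 n1053 = n929 := d7_2 (iv F1478) D1053 (iv D929)
def n1054 : Q := act 0 n929
theorem D1054 : act 0 n929 = n1054 := rfl
def n1055 : Q := act 2 n929
theorem D1055 : act 2 n929 = n1055 := rfl
def n1057 : Q := act 2 n931
theorem D1057 : act 2 n931 = n1057 := rfl
theorem F1651 : act 0 n1057 = n932 := d1_1 D1057 (iv D932) D931
theorem F1652 : act 4 n1057 = n963 := d10_2 (iv F1484) D1057 (iv D963)
def n1059 : Q := act 3 n932
theorem D1059 : act 3 n932 = n1059 := rfl
def n1060 : Q := act 5 n932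
theorem D1060 : act 5 n932 = n1060 := rfl
theorem F1656 : act 2 n1060 = n933 := d11_1 D1060 (iv D933) D932
def n1061 : Q := act 1 n933
theorem D1061 : act 1 n933 = n1061 := rfl
theorem F1658 : act 3 n1061 = n967 := d6_2 (iv F1486) D1061 (iv D967)
theorem F1659 : act 4 n1061 = n967 := d7_2 (iv F1487) D1061 (iv D967)
theorem F1660 : act 5 n1061 = n934 := d8_2 D933 D1061 (iv D934) (iv D596) D595
def n1062 : Q := act 0 n934
theorem D1062 : act 0 n934 = n1062 := rfl
theorem F1661 : act 3 n1062 = n968 := d2_2 (iv F1488) D1062 (iv D968)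
theorem F1662 : act 4 n1062 = n968 := d3_2 (iv F1489) D1062 (iv D968)
def n1063 : Q := act 2 n934
theorem D1063 : act 2 n934 = n1063 := rfl
theorem F1663 : act 4 n1063 = n969 := d10_2 (iv F1489) D1063 (iv D969)
def n1064 : Q := act 0 n935
theorem D1064 : act 0 n935 = n1064 := rfl
theorem F1664 : act 1 n1064 = n945 := d0_2 D935 D1064 (iv D945) (iv D644) (iv D380) (iv D223) (iv F365) D371 D628
def n1065 : Q := act 2 n935
theorem D1065 : act 2 n935 = n1065 := rfl
def n1066 : Q := act 3 n935
theorem D1066 : act 3 n935 = n1066 := rfl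
theorem F1665 : act 1 n1066 = n936 := d6_1 D1066 (iv D936) D935
def n1067 : Q := act 5 n935
theorem D1067 : act 5 n935 = n1067 := rfl
def n1068 : Q := act 2 n936
theorem D1068 : act 2 n936 = n1068 := rfl
theorem F1666 : act 0 n1068 = n938 := d1_1 D1068 (iv D938) (iv F1490)
def n1069 : Q := act 4 n936
theorem D1069 : act 4 n936 = n1069 := rfl
theorem F1667 : act 0 n1069 = n939 := d3_1 D1069 (iv D939) (iv F1490)
def n1070 : Q := act 5 n936
theorem D1070 : act 5 n936 = n1070 := rfl
theorem F1669 : act 3 n1070 = n937 := d13_1 D1070 (iv D937) D936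
def n1071 : Q := act 1 n937
theorem D1071 : act 1 n937 = n1071 := rfl
def n1072 : Q := act 3 n938
theorem D1072 : act 3 n938 = n1072 := rfl
theorem F1670 : act 1 n1072 = n953 := d6_1 D1072 (iv D953) (iv F1492)
def n1073 : Q := act 4 n938
theorem D1073 : act 4 n938 = n1073 := rfl
theorem F1671 : act 1 n1073 = n954 := d7_1 D1073 (iv D954) (iv F1492)
theorem F1672 : act 2 n1073 = n939 := d10_1 D1073 (iv D939) D938
def n1074 : Q := act 5 n938
theorem D1074 : act 5 n938 = n1074 := rfl
theorem F1673 : act 2 n1074 = n940 := d11_1 D1074 (iv D940) D938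
def n1075 : Q := act 5 n939
theorem D1075 : act 5 n939 = n1075 := rfl
theorem F1674 : act 4 n1075 = n940 := d14_1 D1075 (iv D940) D939
def n1076 : Q := act 1 n940
theorem D1076 : act 1 n940 = n1076 := rfl
theorem F1675 : act 3 n1076 = n941 := d6_2 (iv F1494) D1076 (iv D941)
theorem F1676 : act 5 n1076 = n943 := d8_2 D940 D1076 (iv D943) (iv D632) (iv F928)
def n1077 : Q := act 0 n941
theorem D1077 : act 0 n941 = n1077 := rfl
theorem F1677 : act 5 n1077 = n944 := d4_2 (iv F1495) D1077 (iv D944)
def n1078 : Q := act 1 n942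
theorem D1078 : act 1 n942 = n1078 := rfl
theorem F1678 : act 4 n1078 = n943 := d7_2 (iv F1498) D1078 (iv D943)
def n1079 : Q := act 0 n943
theorem D1079 : act 0 n943 = n1079 := rfl
theorem F1679 : act 3 n1079 = n944 := d2_2 (iv F1499) D1079 (iv D944)
def n1080 : Q := act 2 n943
theorem D1080 : act 2 n943 = n1080 := rfl
theorem F1680 : act 1 n1080 = n961 := d5_1 D1080 (iv D961) (iv D652) (iv F932) D943
def n1081 : Q := act 1 n944
theorem D1081 : act 1 n944 = n1081 := rfl
def n1082 : Q := act 2 n945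
theorem D1082 : act 2 n945 = n1082 := rfl
theorem F1681 : act 0 n1082 = n946 := d1_1 D1082 (iv D946) D945
def n1083 : Q := act 3 n945
theorem D1083 : act 3 n945 = n1083 := rfl
theorem F1682 : act 0 n1083 = n947 := d2_1 D1083 (iv D947) D945
def n1084 : Q := act 5 n945
theorem D1084 : act 5 n945 = n1084 := rfl
theorem F1683 : act 0 n1084 = n948 := d4_1 D1084 (iv D948) D945
def n1085 : Q := act 3 n946
theorem D1085 : act 3 n946 = n1085 := rfl
def n1086 : Q := act 5 n946
theorem D1086 : act 5 n946 = n1086 := rfl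
def n1087 : Q := act 2 n947
theorem D1087 : act 2 n947 = n1087 := rfl
def n1088 : Q := act 4 n947
theorem D1088 : act 4 n947 = n1088 := rfl
theorem F1686 : act 1 n1088 = n950 := d7_1 D1088 (iv D950) (iv F1501)
def n1089 : Q := act 5 n947
theorem D1089 : act 5 n947 = n1089 := rfl
theorem F1687 : act 3 n1089 = n948 := d13_1 D1089 (iv D948) D947
def n1090 : Q := act 1 n948
theorem D1090 : act 1 n948 = n1090 := rfl
theorem F1688 : act 5 n1090 = n952 := d8_2 D948 D1090 (iv D952) (iv D646) D644
def n1091 : Q := act 1 n949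
theorem D1091 : act 1 n949 = n1091 := rfl
theorem F1689 : act 3 n1091 = n1041 := d6_2 (iv F1503) D1091 (iv D1041)
def n1092 : Q := act 4 n949
theorem D1092 : act 4 n949 = n1092 := rfl
theorem F1690 : act 0 n1092 = n954 := d3_1 D1092 (iv D954) (iv F1502)
theorem F1691 : act 2 n1092 = n950 := d10_1 D1092 (iv D950) D949
def n1093 : Q := act 5 n949
theorem D1093 : act 5 n949 = n1093 := rfl
theorem F1693 : act 2 n1093 = n951 := d11_1 D1093 (iv D951) D949
def n1094 : Q := act 5 n950
theorem D1094 : act 5 n950 = n1094 := rfl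
theorem F1695 : act 0 n1094 = n956 := d4_1 D1094 (iv D956) (iv F1504)
theorem F1696 : act 4 n1094 = n951 := d14_1 D1094 (iv D951) D950
def n1095 : Q := act 1 n951
theorem D1095 : act 1 n951 = n1095 := rfl
theorem F1697 : act 3 n1095 = n952 := d6_2 (iv F1506) D1095 (iv D952)
def n1096 : Q := act 0 n952
theorem D1096 : act 0 n952 = n1096 := rfl
def n1097 : Q := act 2 n952
theorem D1097 : act 2 n952 = n1097 := rfl
theorem F1698 : act 1 n1097 = n969 := d5_1 D1097 (iv D969) (iv D657) (iv F951) D952
def n1098 : Q := act 4 n953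
theorem D1098 : act 4 n953 = n1098 := rfl
theorem F1699 : act 0 n1098 = n1042 := d3_1 D1098 (iv D1042) (iv F1507)
theorem F1700 : act 2 n1098 = n1038 := d10_1 D1098 (iv D1038) (iv F1508)
def n1100 : Q := act 3 n954
theorem D1100 : act 3 n954 = n1100 := rfl
def n1101 : Q := act 5 n954
theorem D1101 : act 5 n954 = n1101 := rfl
def n1103 : Q := act 1 n956
theorem D1103 : act 1 n956 = n1103 := rfl
theorem F1706 : act 4 n1103 = n957 := d7_2 (iv F1511) D1103 (iv D957)
theorem F1707 : act 5 n1103 = n959 := d8_2 D956 D1103 (iv D959) (iv D651) (iv F952)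
def n1104 : Q := act 0 n957
theorem D1104 : act 0 n957 = n1104 := rfl
theorem F1708 : act 3 n1104 = n958 := d2_2 (iv F1512) D1104 (iv D958)
theorem F1709 : act 5 n1104 = n960 := d4_2 (iv F1513) D1104 (iv D960)
def n1105 : Q := act 2 n957
theorem D1105 : act 2 n957 = n1105 := rfl
def n1106 : Q := act 1 n958
theorem D1106 : act 1 n958 = n1106 := rfl
def n1107 : Q := act 0 n959
theorem D1107 : act 0 n959 = n1107 := rfl
def n1112 : Q := act 0 n962
theorem D1112 : act 0 n962 = n1112 := rfl
def n1115 : Q := act 1 n963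
theorem D1115 : act 1 n963 = n1115 := rfl
def n1116 : Q := act 3 n963
theorem D1116 : act 3 n963 = n1116 := rfl
def n1119 : Q := act 2 n965
theorem D1119 : act 2 n965 = n1119 := rfl
def n1120 : Q := act 4 n965
theorem D1120 : act 4 n965 = n1120 := rfl
def n1121 : Q := act 5 n965
theorem D1121 : act 5 n965 = n1121 := rfl
theorem F1719 : act 3 n1121 = n966 := d13_1 D1121 (iv D966) D965
def n1122 : Q := act 1 n966
theorem D1122 : act 1 n966 = n1122 := rfl
def n1123 : Q := act 0 n967
theorem D1123 : act 0 n967 = n1123 := rfl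
theorem F1720 : act 5 n1123 = n968 := d4_2 (iv F1521) D1123 (iv D968)
def n1124 : Q := act 2 n967
theorem D1124 : act 2 n967 = n1124 := rfl
theorem F1721 : act 5 n1124 = n969 := d11_2 (iv F1521) D1124 (iv D969)
def n1125 : Q := act 1 n968
theorem D1125 : act 1 n968 = n1125 := rfl
theorem F1722 : act 0 n1125 = n1125 := d0_1 D1125 (iv D1125) (iv D968) (iv D657) F593 F372 (iv F593) D657 D968
def n1126 : Q := act 2 n968
theorem D1126 : act 2 n968 = n1126 := rfl
theorem F1723 : act 0 n1126 = n969 := d1_1 D1126 (iv D969) D968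
def n1128 : Q := act 0 n970
theorem D1128 : act 0 n970 = n1128 := rfl
theorem F1724 : act 1 n1128 = n983 := d0_2 D970 D1128 (iv D983) (iv D805) (iv D479) (iv D283) (iv F400) D420 D711
theorem F1725 : act 3 n1128 = n983 := d2_2 (iv F1522) D1128 (iv D983)
def n1129 : Q := act 2 n970
theorem D1129 : act 2 n970 = n1129 := rfl
theorem F1727 : act 4 n1129 = n984 := d10_2 (iv F1523) D1129 (iv D984)
def n1130 : Q := act 5 n970
theorem D1130 : act 5 n970 = n1130 := rfl
theorem F1728 : act 3 n1130 = n985 := d13_1 D1130 (iv D985) (iv F1522)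
def n1131 : Q := act 1 n971
theorem D1131 : act 1 n971 = n1131 := rfl
def n1132 : Q := act 1 n972
theorem D1132 : act 1 n972 = n1132 := rfl
theorem F1732 : act 4 n1132 = n975 := d7_2 (iv F1528) D1132 (iv D975)
def n1133 : Q := act 3 n972
theorem D1133 : act 3 n972 = n1133 := rfl
theorem F1733 : act 0 n1133 = n973 := d2_1 D1133 (iv D973) D972
theorem F1734 : act 2 n1133 = n1072 := d15_2 (iv F1527) D1133 (iv D1072) (iv D938) (iv D629) (iv F1407) F832 D776
def n1135 : Q := act 2 n973
theorem D1135 : act 2 n973 = n1135 := rfl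
theorem F1738 : act 0 n1135 = n1072 := d1_1 D1135 (iv F1734) F1733
theorem F1739 : act 1 n1135 = n1016 := d5_1 D1135 (iv D1016) F1441 (iv F1386) (iv F1529)
theorem F1740 : act 3 n1135 = n1068 := d9_2 D973 D1135 (iv D1068) (iv D936) (iv F1448) F1449 (iv F1527) D1133 F1734 (iv D1072) (iv D938) (iv D629) (iv F1407) F832 (iv F1124)
theorem F1741 : act 0 n1048 = n1041 := d0_5 F1739 F1592 F1574 (iv F1472) (iv F1638) (iv D1041) (iv F1507) (iv F1670) (iv F1738)
theorem F1742 : act 2 n1047 = n1048 := d1_0 F1741 F1627 D1047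
theorem F1743 : act 4 n1041 = n1047 := d3_2 D1048 F1741 (iv D1047)
theorem F1744 : act 1 n1047 = n1042 := d7_1 F1743 (iv D1042) D1041
def n1136 : Q := act 5 n973
theorem D1136 : act 5 n973 = n1136 := rfl
theorem F1745 : act 1 n1136 = n981 := d8_1 D1136 (iv D981) F1139 (iv F1374) (iv F1529)
theorem F1746 : act 3 n1136 = n974 := d13_1 D1136 (iv D974) D973
def n1137 : Q := act 0 n975
theorem D1137 : act 0 n975 = n1137 := rfl
def n1138 : Q := act 2 n975
theorem D1138 : act 2 n975 = n1138 := rfl
def n1141 : Q := act 0 n977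
theorem D1141 : act 0 n977 = n1141 := rfl
def n1142 : Q := act 2 n977
theorem D1142 : act 2 n977 = n1142 := rfl
theorem F1747 : act 1 n1142 = n984 := d5_1 D1142 (iv D984) (iv D805) (iv F1138) D977
def n1143 : Q := act 5 n977
theorem D1143 : act 5 n977 = n1143 := rfl
def n1144 : Q := act 5 n978
theorem D1144 : act 5 n978 = n1144 := rfl
theorem F1750 : act 3 n1144 = n979 := d13_1 D1144 (iv D979) D978
def n1146 : Q := act 1 n980
theorem D1146 : act 1 n980 = n1146 := rfl
theorem F1751 : act 2 n1146 = n982 := d5_2 D980 D1146 (iv D982) (iv D789) (iv F1139)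
theorem F1752 : act 3 n1146 = n1003 := d6_2 (iv F1539) D1146 (iv D1003)
theorem F1753 : act 4 n1146 = n1135 := d7_2 F1593 D1146 F1739
theorem F1754 : act 0 n1003 = n1142 := d15_8 (iv D1142) F1605 (iv D1027) (iv D913) (iv F1438) (iv F1541) (iv F1751) F1752
theorem F1755 : act 2 n1141 = n1003 := d15_0 (iv F1752) F1751 F1541 F1438 D913 D1027 (iv F1605) D1141
theorem F1756 : act 1 n1019 = n1141 := d5_5 F1755 (iv D1003) F1433 D908 D1019
theorem F1757 : act 0 n1013 = n1019 := d0_9 F1756 (iv D1141) (iv D977) (iv D786) (iv D470) F1368 D554 D905 D1013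
theorem F1758 : act 2 n1018 = n1013 := d1_0 F1757 (iv D1019) D1018
theorem F1759 : act 4 n1019 = n1018 := d3_2 (iv F1586) F1757 (iv D1018)
def n1147 : Q := act 5 n980
theorem D1147 : act 5 n980 = n1147 := rfl
theorem F1761 : act 2 n1147 = n981 := d11_1 D1147 (iv D981) D980
theorem F1762 : act 3 n1147 = n1004 := d13_1 D1147 (iv D1004) (iv F1539)
def n1149 : Q := act 5 n982
theorem D1149 : act 5 n982 = n1149 := rfl
theorem F1765 : act 1 n1149 = n1017 := d8_1 D1149 (iv D1017) F1441 (iv F1414) D982
theorem F1766 : act 3 n1149 = n1012 := d13_1 D1149 (iv D1012) (iv F1541)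
theorem F1767 : act 4 n1149 = n1136 := d14_1 D1149 (iv D1136) (iv F1542)
def n1150 : Q := act 2 n983
theorem D1150 : act 2 n983 = n1150 := rfl
theorem F1768 : act 0 n1150 = n984 := d1_1 D1150 (iv D984) D983
theorem F1769 : act 1 n993 = n1150 := d0_0 F1768 (iv F1747) (iv F1754) (iv D1003) (iv D898) (iv D544) (iv F802) D892 D993
theorem F1770 : act 3 n1150 = n1042 := d6_2 F1637 F1769 (iv F1744)
theorem F1771 : act 3 n1098 = n984 := d2_2 F1770 (iv F1699) (iv F1768)
theorem E683 : n1129 = n1100 := ((c15_6 D1150 F1770 F1628 F1466 (iv F1509) D1100 (iv D1129) F1522 D983)).symm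
theorem F1772 : act 2 n1100 = n970 := (sb E683 (iv D1129))
theorem F1773 : act 4 n1100 = n984 := (sb E683 F1727)
def n1151 : Q := act 5 n983
theorem D1151 : act 5 n983 = n1151 := rfl
def n1152 : Q := act 5 n984
theorem D1152 : act 5 n984 = n1152 := rfl
def n1153 : Q := act 1 n985
theorem D1153 : act 1 n985 = n1153 := rfl
theorem F1776 : act 5 n1153 = n986 := d8_2 D985 D1153 (iv D986) (iv D806) D805
def n1156 : Q := act 0 n987
theorem D1156 : act 0 n987 = n1156 := rfl
theorem F1777 : act 1 n1156 = n1018 := d0_2 D987 D1156 (iv D1018) (iv D908) (iv D556) (iv D331) (iv F483) D523 D879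
theorem F1778 : act 3 n1156 = n1018 := d2_2 (iv F1543) D1156 (iv D1018)
theorem F1779 : act 4 n1156 = n1141 := d3_2 (iv F1544) D1156 (iv D1141)
def n1157 : Q := act 2 n987
theorem D1157 : act 2 n987 = n1157 := rfl
theorem F1780 : act 1 n1157 = n1100 := d5_1 D1157 F1772 (iv D970) (iv F1409) D987
theorem F1781 : act 4 n1157 = n1142 := d10_2 (iv F1544) D1157 (iv D1142)
theorem F1782 : act 3 n1073 = n1157 := d6_0 F1780 (iv D1100) (iv F1671)
def n1158 : Q := act 5 n987
theorem D1158 : act 5 n987 = n1158 := rfl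
theorem F1784 : act 4 n1158 = n1143 := d14_1 D1158 (iv D1143) (iv F1544)
def n1159 : Q := act 1 n988
theorem D1159 : act 1 n988 = n1159 := rfl
theorem F1785 : act 3 n1159 = n1021 := d6_2 (iv F1547) D1159 (iv D1021)
def n1160 : Q := act 0 n989
theorem D1160 : act 0 n989 = n1160 := rfl
theorem F1787 : act 2 n1160 = n993 := d1_2 (iv F1549) D1160 (iv D993)
theorem F1788 : act 4 n1160 = n993 := d3_2 (iv F1550) D1160 (iv D993)
def n1161 : Q := act 3 n989
theorem D1161 : act 3 n989 = n1161 := rfl
theorem F1789 : act 1 n1161 = n990 := d6_1 D1161 (iv D990) D989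
def n1162 : Q := act 5 n989
theorem D1162 : act 5 n989 = n1162 := rfl
theorem F1790 : act 2 n1162 = n994 := d11_1 D1162 (iv D994) (iv F1549)
def n1163 : Q := act 5 n990
theorem D1163 : act 5 n990 = n1163 := rfl
theorem F1792 : act 0 n1163 = n1001 := d4_1 D1163 (iv D1001) (iv F1551)
theorem F1793 : act 2 n1163 = n1163 := d11_1 D1163 (iv D1163) F1552
theorem F1794 : act 3 n1163 = n991 := d13_1 D1163 (iv D991) D990
def n1164 : Q := act 1 n991
theorem D1164 : act 1 n991 = n1164 := rfl
theorem F1795 : act 4 n1164 = n995 := d7_2 (iv F1555) D1164 (iv D995)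
def n1165 : Q := act 2 n992
theorem D1165 : act 2 n992 = n1165 := rfl
theorem F1797 : act 4 n1165 = n996 := d10_2 (iv F1558) D1165 (iv D996)
def n1166 : Q := act 5 n993
theorem D1166 : act 5 n993 = n1166 := rfl
theorem F1799 : act 0 n1166 = n994 := d4_1 D1166 (iv D994) D993
def n1167 : Q := act 1 n994
theorem D1167 : act 1 n994 = n1167 := rfl
theorem F1800 : act 5 n1167 = n995 := d8_2 D994 D1167 (iv D995) (iv D893) D892
def n1169 : Q := act 2 n995
theorem D1169 : act 2 n995 = n1169 := rfl
theorem F1801 : act 1 n1169 = n996 := d5_1 D1169 (iv D996) (iv D894) (iv F1425) D995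
def n1171 : Q := act 1 n997
theorem D1171 : act 1 n997 = n1171 := rfl
theorem F1803 : act 2 n1171 = n1156 := d5_2 (iv F1561) D1171 F1777 F1758 (iv D1013)
theorem F1804 : act 4 n1171 = n1003 := d7_2 (iv F1562) D1171 (iv D1003)
theorem F1805 : act 0 n1157 = n1171 := d3_3 F1804 F1754 (iv F1781)
def n1172 : Q := act 3 n997
theorem D1172 : act 3 n997 = n1172 := rfl
theorem F1806 : act 0 n1172 = n998 := d2_1 D1172 (iv D998) D997
def n1173 : Q := act 5 n997
theorem D1173 : act 5 n997 = n1173 := rfl
theorem F1807 : act 0 n1173 = n999 := d4_1 D1173 (iv D999) D997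
theorem F1808 : act 2 n1173 = n1015 := d11_1 D1173 (iv D1015) (iv F1561)
theorem F1809 : act 4 n1173 = n1004 := d14_1 D1173 (iv D1004) (iv F1562)
def n1174 : Q := act 2 n998
theorem D1174 : act 2 n998 = n1174 := rfl
theorem F1810 : act 1 n1174 = n1174 := d5_1 D1174 (iv D1174) F1563 F1430 (iv F1563)
def n1176 : Q := act 5 n998
theorem D1176 : act 5 n998 = n1176 := rfl
theorem F1813 : act 3 n1176 = n999 := d13_1 D1176 (iv D999) D998
def n1177 : Q := act 1 n999
theorem D1177 : act 1 n999 = n1177 := rfl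
theorem F1815 : act 4 n1177 = n1007 := d7_2 (iv F1565) D1177 (iv D1007)
theorem F1816 : act 5 n1177 = n1002 := d8_2 D999 D1177 (iv D1002) (iv D897) D895
def n1178 : Q := act 5 n1000
theorem D1178 : act 5 n1000 = n1178 := rfl
theorem F1817 : act 2 n1178 = n1178 := d11_1 D1178 (iv D1178) F1566
def n1179 : Q := act 1 n1001
theorem D1179 : act 1 n1001 = n1179 := rfl
theorem F1820 : act 3 n1179 = n1002 := d6_2 (iv F1569) D1179 (iv D1002)
def n1180 : Q := act 0 n1002
theorem D1180 : act 0 n1002 = n1180 := rfl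
theorem F1822 : act 4 n1180 = n1010 := d3_2 (iv F1571) D1180 (iv D1010)
def n1181 : Q := act 5 n1003
theorem D1181 : act 5 n1003 = n1181 := rfl
def n1182 : Q := act 1 n1004
theorem D1182 : act 1 n1004 = n1182 := rfl
def n1185 : Q := act 0 n1007
theorem D1185 : act 0 n1007 = n1185 := rfl
theorem F1827 : act 5 n1185 = n1010 := d4_2 (iv F1577) D1185 (iv D1010)
def n1190 : Q := act 1 n1011
theorem D1190 : act 1 n1011 = n1190 := rfl
theorem F1830 : act 4 n1190 = n1023 := d7_2 (iv F1582) D1190 (iv D1023)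
def n1191 : Q := act 5 n1011
theorem D1191 : act 5 n1011 = n1191 := rfl
theorem F1831 : act 0 n1191 = n1012 := d4_1 D1191 (iv D1012) D1011
theorem F1833 : act 4 n1191 = n1022 := d14_1 D1191 F1598 (iv F1582)
def n1192 : Q := act 3 n1013
theorem D1192 : act 3 n1013 = n1192 := rfl
theorem F1834 : act 1 n1192 = n1014 := d6_1 D1192 (iv D1014) D1013
theorem F1835 : act 4 n1192 = n1027 := d12_2 (iv F1586) D1192 (iv F1605) (iv F1544) F1543
theorem F1836 : act 2 n1192 = n1028 := d15_2 F1758 D1192 F1607 (iv F1672) F1782 (iv D1157) F1543 D1018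
def n1193 : Q := act 5 n1013
theorem D1193 : act 5 n1013 = n1193 := rfl
theorem F1837 : act 4 n1193 = n1020 := d14_1 D1193 (iv D1020) (iv F1586)
def n1194 : Q := act 5 n1014
theorem D1194 : act 5 n1014 = n1194 := rfl
theorem F1840 : act 3 n1194 = n1015 := d13_1 D1194 (iv D1015) D1014
theorem F1841 : act 4 n1194 = n1144 := d14_1 D1194 (iv D1144) (iv F1588)
def n1195 : Q := act 1 n1015
theorem D1195 : act 1 n1015 = n1195 := rfl
def n1196 : Q := act 3 n1016
theorem D1196 : act 3 n1016 = n1196 := rfl
theorem F1844 : act 1 n1196 = n1068 := d6_1 D1196 (iv F1740) F1739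
theorem F1845 : act 4 n1196 = n1172 := d12_2 (iv F1593) D1196 (iv D1172) F1562 (iv F1539)
def n1197 : Q := act 5 n1016
theorem D1197 : act 5 n1016 = n1197 := rfl
theorem F1847 : act 2 n1197 = n1017 := d11_1 D1197 (iv D1017) D1016
theorem F1848 : act 4 n1197 = n1147 := d14_1 D1197 (iv D1147) (iv F1593)
def n1199 : Q := act 3 n1019
theorem D1199 : act 3 n1019 = n1199 := rfl
theorem F1851 : act 0 n1199 = n1192 := d2_1 D1199 (iv D1192) F1757
def n1200 : Q := act 5 n1019
theorem D1200 : act 5 n1019 = n1200 := rfl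
theorem F1853 : act 2 n1200 = n1020 := d11_1 D1200 (iv D1020) D1019
def n1201 : Q := act 1 n1020
theorem D1201 : act 1 n1020 = n1201 := rfl
theorem F1855 : act 5 n1201 = n1021 := d8_2 D1020 D1201 (iv D1021) (iv D909) D908
def n1205 : Q := act 0 n1023
theorem D1205 : act 0 n1023 = n1205 := rfl
theorem F1857 : act 1 n1205 = n1137 := d0_2 D1023 D1205 (iv D1137) (iv D975) (iv D776) (iv D461) (iv F521) D558 D911
def n1206 : Q := act 2 n1023
theorem D1206 : act 2 n1023 = n1206 := rfl
theorem F1859 : act 1 n1206 = n1065 := d5_1 D1206 (iv D1065) (iv D935) (iv F1448) D1023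
def n1208 : Q := act 0 n1024
theorem D1208 : act 0 n1024 = n1208 := rfl
theorem F1861 : act 1 n1208 = n1034 := d0_2 D1024 D1208 (iv D1034) (iv D918) (iv D588) (iv D349) (iv F538) D579 D912
theorem F1862 : act 4 n1208 = n1064 := d3_2 (iv F1600) D1208 (iv D1064)
def n1209 : Q := act 2 n1024
theorem D1209 : act 2 n1024 = n1209 := rfl
theorem F1863 : act 4 n1209 = n1065 := d10_2 (iv F1600) D1209 (iv D1065)
def n1210 : Q := act 3 n1024
theorem D1210 : act 3 n1024 = n1210 := rfl
theorem F1864 : act 1 n1210 = n1025 := d6_1 D1210 (iv D1025) D1024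
def n1211 : Q := act 5 n1024
theorem D1211 : act 5 n1024 = n1211 := rfl
theorem F1865 : act 4 n1211 = n1067 := d14_1 D1211 (iv D1067) (iv F1600)
def n1212 : Q := act 2 n1025
theorem D1212 : act 2 n1025 = n1212 := rfl
theorem F1866 : act 0 n1212 = n1027 := d1_1 D1212 (iv D1027) (iv F1601)
theorem F1867 : act 3 n1212 = n1141 := d15_1 D1212 F1755 (iv F1752) F1751 F1541 F1438 D913 (iv F1601)
theorem F1868 : act 1 n1199 = n1212 := d6_3 F1867 (iv F1756) D1199
theorem F1869 : act 4 n1199 = n1212 := d12_0 F1867 (iv F1779) F1778 (iv F1759) D1199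
def n1213 : Q := act 4 n1025
theorem D1213 : act 4 n1025 = n1213 := rfl
theorem F1870 : act 0 n1213 = n1028 := d3_1 D1213 (iv D1028) (iv F1601)
theorem F1871 : act 2 n1213 = n1199 := d10_1 D1213 F1869 (iv D1212)
theorem F1872 : act 3 n1213 = n1069 := d12_1 D1213 (iv D1069) (iv D936) (iv F1450) D1025
def n1214 : Q := act 5 n1025
theorem D1214 : act 5 n1025 = n1214 := rfl
theorem F1873 : act 0 n1214 = n1029 := d4_1 D1214 (iv D1029) (iv F1601)
theorem F1874 : act 3 n1214 = n1026 := d13_1 D1214 (iv D1026) D1025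
def n1215 : Q := act 1 n1026
theorem D1215 : act 1 n1026 = n1215 := rfl
theorem F1875 : act 4 n1215 = n1071 := d7_2 (iv F1603) D1215 (iv D1071)
def n1216 : Q := act 5 n1027
theorem D1216 : act 5 n1027 = n1216 := rfl
theorem F1876 : act 2 n1216 = n1029 := d11_1 D1216 (iv D1029) D1027
theorem F1877 : act 3 n1216 = n1143 := d13_1 D1216 (iv D1143) F1605
def n1217 : Q := act 5 n1028
theorem D1217 : act 5 n1028 = n1217 := rfl
theorem F1878 : act 3 n1217 = n1075 := d13_1 D1217 (iv D1075) (iv F1607)
theorem F1879 : act 4 n1217 = n1029 := d14_1 D1217 (iv D1029) D1028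
def n1218 : Q := act 1 n1029
theorem D1218 : act 1 n1029 = n1218 := rfl
theorem F1880 : act 3 n1218 = n1030 := d6_2 (iv F1608) D1218 (iv D1030)
def n1219 : Q := act 0 n1030
theorem D1219 : act 0 n1030 = n1219 := rfl
theorem F1882 : act 4 n1219 = n1077 := d3_2 (iv F1609) D1219 (iv D1077)
theorem F1883 : act 5 n1219 = n1033 := d4_2 (iv F1610) D1219 (iv D1033)
def n1220 : Q := act 1 n1031
theorem D1220 : act 1 n1031 = n1220 := rfl
theorem F1884 : act 3 n1220 = n1078 := d6_2 (iv F1613) D1220 (iv D1078)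
theorem F1885 : act 4 n1220 = n1032 := d7_2 (iv F1614) D1220 (iv D1032)
def n1221 : Q := act 0 n1032
theorem D1221 : act 0 n1032 = n1221 := rfl
theorem F1886 : act 3 n1221 = n1033 := d2_2 (iv F1615) D1221 (iv D1033)
def n1223 : Q := act 1 n1033
theorem D1223 : act 1 n1033 = n1223 := rfl
theorem F1888 : act 4 n1223 = n1081 := d7_2 (iv F1616) D1223 (iv D1081)
def n1224 : Q := act 2 n1034
theorem D1224 : act 2 n1034 = n1224 := rfl
theorem F1889 : act 0 n1224 = n1035 := d1_1 D1224 (iv D1035) D1034
theorem F1890 : act 4 n1224 = n1082 := d10_2 (iv F1617) D1224 (iv D1082)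
def n1225 : Q := act 3 n1034
theorem D1225 : act 3 n1034 = n1225 := rfl
theorem F1891 : act 0 n1225 = n1036 := d2_1 D1225 (iv D1036) D1034
def n1226 : Q := act 5 n1034
theorem D1226 : act 5 n1034 = n1226 := rfl
theorem F1893 : act 4 n1226 = n1084 := d14_1 D1226 (iv D1084) (iv F1617)
def n1227 : Q := act 3 n1035
theorem D1227 : act 3 n1035 = n1227 := rfl
theorem F1894 : act 1 n1227 = n1059 := d6_1 D1227 (iv D1059) (iv F1618)
def n1228 : Q := act 5 n1035
theorem D1228 : act 5 n1035 = n1228 := rfl
theorem F1895 : act 2 n1228 = n1037 := d11_1 D1228 (iv D1037) D1035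
theorem F1896 : act 4 n1228 = n1086 := d14_1 D1228 (iv D1086) (iv F1619)
def n1229 : Q := act 2 n1036
theorem D1229 : act 2 n1036 = n1229 := rfl
theorem F1897 : act 1 n1229 = n1133 := d5_1 D1229 F1734 F1670 F1508 (iv F1620)
theorem F1898 : act 3 n1132 = n1229 := d6_0 F1897 (iv D1133) D1132
def n1230 : Q := act 4 n1036
theorem D1230 : act 4 n1036 = n1230 := rfl
theorem F1900 : act 3 n1230 = n1088 := d12_1 D1230 (iv D1088) (iv D947) (iv F1460) D1036
def n1232 : Q := act 1 n1037
theorem D1232 : act 1 n1037 = n1232 := rfl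
theorem F1902 : act 4 n1232 = n1090 := d7_2 (iv F1621) D1232 (iv D1090)
theorem F1903 : act 5 n1232 = n1040 := d8_2 D1037 D1232 (iv D1040) (iv D920) D918
def n1233 : Q := act 5 n1038
theorem D1233 : act 5 n1038 = n1233 := rfl
theorem F1905 : act 3 n1233 = n1094 := d13_1 D1233 (iv D1094) (iv F1623)
def n1236 : Q := act 2 n1040
theorem D1236 : act 2 n1040 = n1236 := rfl
theorem F1909 : act 1 n1236 = n1063 := d5_1 D1236 (iv D1063) (iv D934) (iv F1463) D1040
def n1237 : Q := act 5 n1041
theorem D1237 : act 5 n1041 = n1237 := rfl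
theorem F1911 : act 2 n1237 = n1049 := d11_1 D1237 (iv D1049) (iv F1627)
def n1238 : Q := act 5 n1042
theorem D1238 : act 5 n1042 = n1238 := rfl
theorem F1912 : act 2 n1238 = n1044 := d11_1 D1238 (iv D1044) (iv F1628)
def n1240 : Q := act 1 n1044
theorem D1240 : act 1 n1044 = n1240 := rfl
theorem F1914 : act 3 n1240 = n1103 := d6_2 (iv F1630) D1240 (iv D1103)
theorem F1915 : act 4 n1240 = n1045 := d7_2 (iv F1631) D1240 (iv D1045)
theorem F1916 : act 5 n1240 = n1053 := d8_2 D1044 D1240 (iv D1053) (iv D928) (iv F1465)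
def n1241 : Q := act 0 n1045
theorem D1241 : act 0 n1045 = n1241 := rfl
theorem F1917 : act 3 n1241 = n1046 := d2_2 (iv F1632) D1241 (iv D1046)
theorem F1918 : act 5 n1241 = n1054 := d4_2 (iv F1633) D1241 (iv D1054)
def n1242 : Q := act 2 n1045
theorem D1242 : act 2 n1045 = n1242 := rfl
theorem F1919 : act 5 n1242 = n1055 := d11_2 (iv F1633) D1242 (iv D1055)
def n1243 : Q := act 1 n1046
theorem D1243 : act 1 n1046 = n1243 := rfl
theorem F1920 : act 4 n1243 = n1106 := d7_2 (iv F1635) D1243 (iv D1106)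
def n1244 : Q := act 5 n1047
theorem D1244 : act 5 n1047 = n1244 := rfl
theorem F1921 : act 0 n1244 = n1049 := d4_1 D1244 (iv D1049) D1047
def n1245 : Q := act 3 n1048
theorem D1245 : act 3 n1048 = n1245 := rfl
theorem F1924 : act 0 n1245 = n1091 := d2_1 D1245 F1689 (iv F1741)
theorem F1925 : act 1 n1245 = n1050 := d6_1 D1245 (iv D1050) (iv F1638)
theorem F1926 : act 4 n1245 = n1161 := d12_2 D1048 D1245 (iv D1161) F1550 (iv F1471)
theorem E684 : n1059 = n1035 := (c17_14 F1926 (iv D1161) F1549 (iv F1471) (iv F1627) (iv D1041) (iv F1503) (iv D949) (iv D645) F588 D386 (iv F881) D932 D1059 (iv D1035) (iv D918) D919 (iv F1508) (iv D953) (iv D647) F589 (iv D224) (iv D132) (iv D77) F98 F97 (iv D26) (iv F58) (iv D23) (iv D12) (iv D6) D5 F19 D9 D18 D32 D57 (iv F1335) (iv D63) (iv D37) (iv F54) F53 (iv F91) (iv F138) (iv F220) (iv D114) (iv F215) (iv D111) F135 F92 F62 (iv D25) D26 D46 D79 (iv F237) (iv D124) (iv F230) (iv D122) (iv F217) D189 D323 D544 D899 (iv F1535) (iv D978) F1138 D805 (iv F1522)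 (iv F1772) (iv D1100) F1509 F952 (iv F877) (iv F1473) D1050 F1641 (iv F1925))
theorem E685 : n1227 = n932 := (((F1618).symm.trans (sb E684 (iv F1894)))).symm
theorem F1927 : act 3 n932 = n1035 := (sb E685 (iv D1227))
theorem F1928 : act 3 n1224 = n1057 := d2_2 F1927 (iv F1889) F1651
theorem E686 : n1120 = n1085 := ((c12_4 (iv F1485) F1927 F1619 D1085 (iv D1120) (iv D965))).symm
theorem F1929 : act 4 n1085 = n965 := (sb E686 (iv D1120))
theorem F1930 : act 3 n1228 = n1060 := d13_3 (iv D1060) F1927 D1228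
theorem E687 : n1132 = n963 := (c15_6 D932 F1927 (iv D1035) D1036 D1229 (iv F1898) (iv D963) (iv F1483) (iv D931))
theorem E688 : n1115 = n972 := ((D1115).symm.trans (sb E687 (iv D1132)))
theorem E689 : n1229 = n1116 := (((D1116).symm.trans (sb E687 F1898))).symm
theorem E690 : n1057 = n975 := (((iv F1652)).symm.trans (sb E687 F1732))
theorem F1931 : act 1 n972 = n963 := (sb E688 (iv D1115))
theorem F1933 : act 2 n1116 = n1036 := (sb E689 (iv D1229))
theorem E691 : n1137 = n932 := ((D1137).symm.trans (sb E690 F1651))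
theorem E692 : n1138 = n931 := ((D1138).symm.trans (sb E690 (iv D1057)))
theorem E693 : n1224 = n1023 := ((((iv F1599)).symm.trans (sb E690 (iv F1928)))).symm
theorem F1934 : act 4 n975 = n963 := (sb E690 F1652)
theorem F1935 : act 0 n932 = n975 := (sb E691 (iv D1137))
theorem E694 : n1205 = n1035 := ((((iv F1618)).symm.trans (sb E691 (iv F1857)))).symm
theorem F1936 : act 2 n931 = n975 := (sb E692 (iv D1138))
theorem E695 : n1206 = n1034 := ((D1206).symm.trans (sb E693 (iv D1224)))
theorem E696 : n1190 = n1082 := (((iv F1830)).symm.trans (sb E693 F1890))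
theorem F1937 : act 0 n1035 = n1023 := (sb E694 (iv D1205))
theorem E697 : n1208 = n1065 := (((iv F1861)).symm.trans (sb E695 F1859))
theorem F1938 : act 2 n1034 = n1023 := (sb E695 (iv D1206))
theorem F1940 : act 4 n1082 = n1023 := (sb E696 F1830)
theorem F1941 : act 0 n1065 = n1024 := (sb E697 (iv D1208))
theorem F1942 : act 1 n1065 = n1034 := (sb E697 F1861)
theorem E698 : n1209 = n1064 := (((iv F1863)).symm.trans (sb E697 F1862))
theorem F1943 : act 2 n1064 = n1024 := (sb E698 (iv D1209))
theorem F1944 : act 4 n1064 = n1065 := (sb E698 F1863)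
theorem E699 : n1225 = n1119 := (c15_9 (iv D1119) (iv D965) (iv D655) (iv F881) D932 F1927 (iv D1035) D1036 (iv F1891))
theorem F1946 : act 3 n1119 = n1034 := (sb E699 (iv D1225))
def n1246 : Q := act 5 n1048
theorem D1246 : act 5 n1048 = n1246 := rfl
theorem F1954 : act 4 n1246 = n1049 := d14_1 D1246 (iv D1049) D1048
def n1247 : Q := act 1 n1049
theorem D1247 : act 1 n1049 = n1247 := rfl
theorem F1956 : act 5 n1247 = n1052 := d8_2 D1049 D1247 (iv D1052) (iv D927) D925
def n1248 : Q := act 5 n1050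
theorem D1248 : act 5 n1050 = n1248 := rfl
theorem F1958 : act 2 n1248 = n1248 := d11_1 D1248 (iv D1248) F1641
theorem F1959 : act 3 n1248 = n1051 := d13_1 D1248 (iv D1051) D1050
theorem F1960 : act 4 n1248 = n1163 := d14_1 D1248 (iv D1163) (iv F1642)
def n1249 : Q := act 1 n1051
theorem D1249 : act 1 n1051 = n1249 := rfl
theorem F1961 : act 4 n1249 = n1052 := d7_2 (iv F1645) D1249 (iv D1052)
def n1251 : Q := act 2 n1052
theorem D1251 : act 2 n1052 = n1251 := rfl
theorem F1963 : act 1 n1251 = n1055 := d5_1 D1251 (iv D1055) (iv D929) (iv F1475) D1052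
def n1252 : Q := act 0 n1053
theorem D1252 : act 0 n1053 = n1252 := rfl
theorem F1964 : act 3 n1252 = n1107 := d2_2 (iv F1647) D1252 (iv D1107)
theorem F1965 : act 4 n1252 = n1054 := d3_2 (iv F1648) D1252 (iv D1054)
def n1253 : Q := act 2 n1053
theorem D1253 : act 2 n1053 = n1253 := rfl
theorem F1966 : act 4 n1253 = n1055 := d10_2 (iv F1648) D1253 (iv D1055)
def n1254 : Q := act 1 n1054
theorem D1254 : act 1 n1054 = n1254 := rfl
def n1255 : Q := act 2 n1054
theorem D1255 : act 2 n1054 = n1255 := rfl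
theorem F1968 : act 0 n1255 = n1055 := d1_1 D1255 (iv D1055) D1054
def n1262 : Q := act 0 n1061
theorem D1262 : act 0 n1061 = n1262 := rfl
theorem F1977 : act 3 n1262 = n1123 := d2_2 (iv F1658) D1262 (iv D1123)
theorem F1978 : act 4 n1262 = n1123 := d3_2 (iv F1659) D1262 (iv D1123)
theorem F1979 : act 5 n1262 = n1062 := d4_2 (iv F1660) D1262 (iv D1062)
def n1263 : Q := act 2 n1061
theorem D1263 : act 2 n1061 = n1263 := rfl
theorem F1981 : act 5 n1263 = n1063 := d11_2 (iv F1660) D1263 (iv D1063)
def n1264 : Q := act 1 n1062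
theorem D1264 : act 1 n1062 = n1264 := rfl
theorem F1982 : act 0 n1264 = n1264 := d0_1 D1264 (iv D1264) (iv D1062) (iv D934) F883 F551 (iv F883) D934 D1062
theorem F1983 : act 3 n1264 = n1125 := d6_2 (iv F1661) D1264 (iv D1125)
theorem F1984 : act 4 n1264 = n1125 := d7_2 (iv F1662) D1264 (iv D1125)
def n1265 : Q := act 2 n1062
theorem D1265 : act 2 n1062 = n1265 := rfl
theorem F1985 : act 0 n1265 = n1063 := d1_1 D1265 (iv D1063) D1062
theorem F1986 : act 4 n1265 = n1126 := d10_2 (iv F1662) D1265 (iv D1126)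
def n1267 : Q := act 3 n1064
theorem D1267 : act 3 n1064 = n1267 := rfl
theorem F1987 : act 0 n1267 = n1066 := d2_1 D1267 (iv D1066) D1064
theorem F1988 : act 1 n1267 = n1083 := d6_1 D1267 (iv D1083) (iv F1664)
def n1268 : Q := act 5 n1064
theorem D1268 : act 5 n1064 = n1268 := rfl
theorem F1989 : act 0 n1268 = n1067 := d4_1 D1268 (iv D1067) D1064
def n1269 : Q := act 3 n1065
theorem D1269 : act 3 n1065 = n1269 := rfl
theorem F1991 : act 0 n1269 = n1210 := d2_1 D1269 (iv D1210) (iv F1941)
theorem F1992 : act 1 n1269 = n1119 := d6_1 D1269 F1946 (iv F1942)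
def n1271 : Q := act 2 n1066
theorem D1271 : act 2 n1066 = n1271 := rfl
def n1272 : Q := act 4 n1066
theorem D1272 : act 4 n1066 = n1272 := rfl
theorem F1996 : act 1 n1272 = n1069 := d7_1 D1272 (iv D1069) (iv F1665)
def n1273 : Q := act 5 n1066
theorem D1273 : act 5 n1066 = n1273 := rfl
theorem F1997 : act 3 n1273 = n1067 := d13_1 D1273 (iv D1067) D1066
def n1274 : Q := act 1 n1067
theorem D1274 : act 1 n1067 = n1274 := rfl
theorem F1998 : act 5 n1274 = n1071 := d8_2 D1067 D1274 (iv D1071) (iv D937) D935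
def n1275 : Q := act 4 n1068
theorem D1275 : act 4 n1068 = n1275 := rfl
theorem F1999 : act 0 n1275 = n1073 := d3_1 D1275 (iv D1073) (iv F1666)
theorem F2000 : act 1 n1275 = n1172 := d7_1 D1275 (iv F1845) F1844
theorem F2001 : act 2 n1275 = n1069 := d10_1 D1275 (iv D1069) D1068
theorem F2002 : act 3 n1275 = n1171 := d12_1 D1275 F1804 (iv F1752) F1753 F1740
def n1276 : Q := act 5 n1068
theorem D1276 : act 5 n1068 = n1276 := rfl
theorem F2004 : act 2 n1276 = n1070 := d11_1 D1276 (iv D1070) D1068
def n1277 : Q := act 5 n1069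
theorem D1277 : act 5 n1069 = n1277 := rfl
theorem F2006 : act 4 n1277 = n1070 := d14_1 D1277 (iv D1070) D1069
def n1283 : Q := act 5 n1073
theorem D1283 : act 5 n1073 = n1283 := rfl
theorem F2014 : act 4 n1283 = n1074 := d14_1 D1283 (iv D1074) D1073
def n1285 : Q := act 1 n1075
theorem D1285 : act 1 n1075 = n1285 := rfl
theorem F2016 : act 4 n1285 = n1076 := d7_2 (iv F1674) D1285 (iv D1076)
theorem F2017 : act 5 n1285 = n1078 := d8_2 D1075 D1285 (iv D1078) (iv D942) (iv F1493)
def n1286 : Q := act 0 n1076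
theorem D1286 : act 0 n1076 = n1286 := rfl
theorem F2018 : act 3 n1286 = n1077 := d2_2 (iv F1675) D1286 (iv D1077)
theorem F2019 : act 5 n1286 = n1079 := d4_2 (iv F1676) D1286 (iv D1079)
def n1287 : Q := act 2 n1076
theorem D1287 : act 2 n1076 = n1287 := rfl
theorem F2020 : act 5 n1287 = n1080 := d11_2 (iv F1676) D1287 (iv D1080)
def n1289 : Q := act 0 n1078
theorem D1289 : act 0 n1078 = n1289 := rfl
theorem F2021 : act 4 n1289 = n1079 := d3_2 (iv F1678) D1289 (iv D1079)
def n1290 : Q := act 2 n1078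
theorem D1290 : act 2 n1078 = n1290 := rfl
theorem F2023 : act 4 n1290 = n1080 := d10_2 (iv F1678) D1290 (iv D1080)
def n1291 : Q := act 1 n1079
theorem D1291 : act 1 n1079 = n1291 := rfl
theorem F2024 : act 3 n1291 = n1081 := d6_2 (iv F1679) D1291 (iv D1081)
def n1292 : Q := act 2 n1079
theorem D1292 : act 2 n1079 = n1292 := rfl
def n1294 : Q := act 0 n1081
theorem D1294 : act 0 n1081 = n1294 := rfl
theorem F2027 : act 1 n1294 = n1112 := d0_2 D1081 D1294 (iv D1112) (iv D962) (iv D653) (iv D385) (iv F577) D633 D944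
def n1297 : Q := act 3 n1082
theorem D1297 : act 3 n1082 = n1297 := rfl
theorem F2030 : act 4 n1297 = n1116 := d12_2 (iv F1940) D1297 (iv D1116) (iv F1934) (iv F1599)
theorem F2031 : act 2 n1230 = n1297 := d10_3 F2030 F1933 D1230
def n1299 : Q := act 2 n1083
theorem D1299 : act 2 n1083 = n1299 := rfl
theorem F2035 : act 0 n1299 = n1087 := d1_1 D1299 (iv D1087) (iv F1682)
def n1300 : Q := act 4 n1083
theorem D1300 : act 4 n1083 = n1300 := rfl
theorem F2036 : act 0 n1300 = n1088 := d3_1 D1300 (iv D1088) (iv F1682)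
def n1301 : Q := act 5 n1083
theorem D1301 : act 5 n1083 = n1301 := rfl
theorem F2037 : act 0 n1301 = n1089 := d4_1 D1301 (iv D1089) (iv F1682)
theorem F2038 : act 3 n1301 = n1084 := d13_1 D1301 (iv D1084) D1083
def n1303 : Q := act 2 n1085
theorem D1303 : act 2 n1085 = n1303 := rfl
theorem F2040 : act 4 n1303 = n1119 := d10_2 (iv F1929) D1303 (iv D1119)
theorem F2041 : act 3 n1300 = n1303 := d12_5 F2040 F1946 F1617 D1083 D1300
def n1305 : Q := act 1 n1086
theorem D1305 : act 1 n1086 = n1305 := rfl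
theorem F2044 : act 5 n1305 = n1122 := d8_2 D1086 D1305 (iv D1122) (iv D966) (iv F1500)
def n1306 : Q := act 1 n1087
theorem D1306 : act 1 n1087 = n1306 := rfl
theorem F2045 : act 2 n1306 = n1091 := d5_2 D1087 D1306 (iv D1091) (iv D949) (iv F1501)
def n1307 : Q := act 3 n1087
theorem D1307 : act 3 n1087 = n1307 := rfl
theorem F2046 : act 2 n1307 = n1088 := d15_2 D1087 D1307 (iv F1900) F2031 (iv D1297) (iv D1082) D1083 F1682
theorem F2047 : act 4 n1087 = n1307 := d17_0 (iv D1307) (iv D1087) (iv D947) D946 F1500 D965 D1119 F1946 F1938 (iv D1023) F1449 (iv F1527) D1133 F1734 F1670 (iv D953) (iv D647) (iv D381) F370 (iv D134) (iv F237) (iv D124) (iv D73) F94 (iv F87) (iv D39) (iv D21) (iv F45) D31 D55 D94 (iv F1351) (iv D55) (iv D31) F45 (iv D11) D12 D23 F58 (iv D13) F24 (iv D7) (iv D4) F10 D4 F16 D7 D13 (iv F58) (iv D23) (iv F51) D39 F88 (iv F136) D116 D195 D331 (iv F780) (iv F1402) F639 (iv F709) (iv D470) D471 D789 (iv F1372) (iv D553) F1381 (iv D203) (iv F320) D317 D535 D892 (iv F1471) (iv F1627)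 (iv F1689) (iv F2045) (iv D1306)
def n1308 : Q := act 5 n1087
theorem D1308 : act 5 n1087 = n1308 := rfl
theorem F2048 : act 2 n1308 = n1089 := d11_1 D1308 (iv D1089) D1087
def n1309 : Q := act 5 n1088
theorem D1309 : act 5 n1088 = n1309 := rfl
theorem F2049 : act 4 n1309 = n1089 := d14_1 D1309 (iv D1089) D1088
def n1310 : Q := act 1 n1089
theorem D1310 : act 1 n1089 = n1310 := rfl
theorem F2050 : act 3 n1310 = n1090 := d6_2 (iv F1687) D1310 (iv D1090)
theorem F2051 : act 5 n1310 = n1095 := d8_2 D1089 D1310 (iv D1095) (iv D951) (iv F1501)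
def n1311 : Q := act 0 n1090
theorem D1311 : act 0 n1090 = n1311 := rfl
theorem F2052 : act 5 n1311 = n1096 := d4_2 (iv F1688) D1311 (iv D1096)
def n1312 : Q := act 2 n1090
theorem D1312 : act 2 n1090 = n1312 := rfl
theorem F2053 : act 5 n1312 = n1097 := d11_2 (iv F1688) D1312 (iv D1097)
def n1313 : Q := act 4 n1091
theorem D1313 : act 4 n1091 = n1313 := rfl
theorem F2054 : act 0 n1313 = n1161 := d3_1 D1313 (iv F1926) F1924
theorem F2055 : act 1 n1313 = n1092 := d7_1 D1313 (iv D1092) D1091
theorem F2056 : act 3 n1313 = n1160 := d12_1 D1313 F1788 (iv F1637) (iv F1743) (iv F1689)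
def n1314 : Q := act 5 n1091
theorem D1314 : act 5 n1091 = n1314 := rfl
theorem F2057 : act 3 n1314 = n1237 := d13_1 D1314 (iv D1237) (iv F1689)
def n1315 : Q := act 3 n1092
theorem D1315 : act 3 n1092 = n1315 := rfl
theorem F2058 : act 0 n1315 = n1100 := d2_1 D1315 (iv D1100) (iv F1690)
theorem F2059 : act 1 n1315 = n1160 := d6_1 D1315 (iv F2056) F2055
theorem F2060 : act 2 n1315 = n1128 := d9_1 D1315 F1725 D1150 F1770 F1628 F1466 (iv F1509) D1100 F1772 F1522 D984 (iv F1771) F1700 F1623 (iv F1691)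
theorem F2061 : act 4 n1315 = n1150 := d12_2 D1092 D1315 F1770 (iv D1042) (iv F1503)
def n1316 : Q := act 5 n1092
theorem D1316 : act 5 n1092 = n1316 := rfl
theorem F2062 : act 0 n1316 = n1101 := d4_1 D1316 (iv D1101) (iv F1690)
theorem F2063 : act 2 n1316 = n1094 := d11_1 D1316 (iv D1094) (iv F1691)
theorem F2064 : act 4 n1316 = n1093 := d14_1 D1316 (iv D1093) D1092
def n1318 : Q := act 1 n1094
theorem D1318 : act 1 n1094 = n1318 := rfl
theorem F2066 : act 4 n1318 = n1095 := d7_2 (iv F1696) D1318 (iv D1095)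
def n1319 : Q := act 0 n1095
theorem D1319 : act 0 n1095 = n1319 := rfl
theorem F2067 : act 3 n1319 = n1096 := d2_2 (iv F1697) D1319 (iv D1096)
def n1320 : Q := act 2 n1095
theorem D1320 : act 2 n1095 = n1320 := rfl
def n1326 : Q := act 5 n1100
theorem D1326 : act 5 n1100 = n1326 := rfl
theorem F2075 : act 2 n1326 = n1130 := d11_1 D1326 (iv D1130) (iv F1772)
theorem F2076 : act 3 n1326 = n1101 := d13_1 D1326 (iv D1101) D1100
theorem F2077 : act 4 n1326 = n1152 := d14_1 D1326 (iv D1152) (iv F1773)
def n1330 : Q := act 0 n1103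
theorem D1330 : act 0 n1103 = n1330 := rfl
theorem F2080 : act 4 n1330 = n1104 := d3_2 (iv F1706) D1330 (iv D1104)
def n1331 : Q := act 2 n1103
theorem D1331 : act 2 n1103 = n1331 := rfl
theorem F2082 : act 4 n1331 = n1105 := d10_2 (iv F1706) D1331 (iv D1105)
def n1335 : Q := act 0 n1106
theorem D1335 : act 0 n1106 = n1335 := rfl
def n1336 : Q := act 2 n1106
theorem D1336 : act 2 n1106 = n1336 := rfl
def n1355 : Q := act 5 n1119
theorem D1355 : act 5 n1119 = n1355 := rfl
theorem F2105 : act 2 n1355 = n1121 := d11_1 D1355 (iv D1121) D1119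
theorem F2106 : act 3 n1355 = n1226 := d13_1 D1355 (iv D1226) (iv F1946)
def n1358 : Q := act 2 n1122
theorem D1358 : act 2 n1122 = n1358 := rfl
theorem F2108 : act 1 n1358 = n1124 := d5_1 D1358 (iv D1124) (iv D967) (iv F1520) D1122
def n1359 : Q := act 1 n1123
theorem D1359 : act 1 n1123 = n1359 := rfl
def n1360 : Q := act 2 n1123
theorem D1360 : act 2 n1123 = n1360 := rfl
theorem F2110 : act 5 n1360 = n1126 := d11_2 (iv F1720) D1360 (iv D1126)
def n1362 : Q := act 2 n1125
theorem D1362 : act 2 n1125 = n1362 := rfl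
def n1363 : Q := act 5 n1125
theorem D1363 : act 5 n1125 = n1363 := rfl
def n1364 : Q := act 1 n1126
theorem D1364 : act 1 n1126 = n1364 := rfl
theorem F2114 : act 0 n1364 = n1326 := d16_3 F1720 D1126 D1364 (iv D1326) F1772 (iv D970) (iv D711) D712 (iv F1410) F1257 (iv F1533) (iv D976) (iv F1527) F1931 F1518 D966 F1520 D967 D1123
theorem F2115 : act 3 n1316 = n1364 := d2_0 F2114 F2076 (iv F2062)
theorem F2116 : act 5 n1315 = n1364 := d4_0 F2114 (iv D1326) (iv F2058)
def n1365 : Q := act 3 n1126
theorem D1365 : act 3 n1126 = n1365 := rfl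
theorem F2118 : act 1 n1365 = n1316 := d6_1 D1365 F2115 (iv D1364)
def n1368 : Q := act 5 n1128
theorem D1368 : act 5 n1128 = n1368 := rfl
theorem F2121 : act 0 n1368 = n1130 := d4_1 D1368 (iv D1130) D1128
theorem F2122 : act 2 n1368 = n1364 := d11_1 D1368 (iv F2116) F2060
theorem F2123 : act 3 n1368 = n1151 := d13_1 D1368 (iv D1151) (iv F1725)
theorem F2125 : act 1 n1362 = n1368 := d5_5 F2122 (iv D1364) (iv D1126) D1125 D1362
def n1369 : Q := act 1 n1130
theorem D1369 : act 1 n1130 = n1369 := rfl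
theorem F2126 : act 3 n1369 = n1153 := d6_2 (iv F1728) D1369 (iv D1153)
theorem F2128 : act 5 n1369 = n1131 := d8_2 D1130 D1369 (iv D1131) (iv D971) D970
def n1370 : Q := act 0 n1131
theorem D1370 : act 0 n1131 = n1370 := rfl
theorem F2131 : act 5 n1370 = n1336 := d16_4 D988 F1546 D1131 D1370 (iv D1336) (iv D1106) (iv D958) F955 F592 (iv D385) (iv F577) (iv D373) (iv D218) (iv F1393) F335 (iv F316) D309 D523 D879
theorem F2132 : act 0 n1369 = n1336 := d4_3 (iv F2131) (iv D1370) (iv F2128)
theorem F2133 : act 2 n1335 = n1369 := d1_0 F2132 (iv D1336) D1335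
def n1372 : Q := act 5 n1133
theorem D1372 : act 5 n1133 = n1372 := rfl
theorem F2138 : act 0 n1372 = n1136 := d4_1 D1372 (iv D1136) (iv F1733)
theorem E700 : n1255 = n929 := (c16_10 (iv D1372) F1734 F1670 F1507 D1043 F1629 D1045 D1241 F1918 D1255 (iv D929) (iv F1456) (iv D916) F859 (iv F1434) (iv F1538) D1147 F1761 (iv F1745) (iv F2138))
theorem E701 : n1055 = n1054 := (((D1054).symm.trans (sb E700 F1968))).symm
theorem E702 : n1254 = n1251 := ((D1254).symm.trans (sb E701 (iv F1963)))
theorem F2141 : act 2 n1054 = n929 := (sb E701 (iv D1055))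
theorem E704 : n1253 = n1252 := ((((iv F1965)).symm.trans (sb E701 (iv F1966)))).symm
theorem E705 : n1242 = n1241 := ((((iv F1918)).symm.trans (sb E701 (iv F1919)))).symm
theorem F2142 : act 1 n1251 = n1054 := (sb E702 (iv D1254))
theorem F2144 : act 2 n1252 = n1053 := (sb E704 (iv D1253))
theorem F2145 : act 2 n1241 = n1045 := (sb E705 (iv D1242))
theorem E706 : n1241 = n1045 := ((c15_9 F2145 F1632 F1468 (iv F1632) (iv F2145) F1917 F1634 (iv F1917) (iv D1241))).symm
theorem F2146 : act 0 n1045 = n1045 := (sb E706 (iv D1241))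
theorem F2147 : act 2 n1045 = n1045 := (sb E706 F2145)
theorem E707 : n1046 = n924 := (((F1632).symm.trans (sb E706 F1917))).symm
theorem E708 : n1054 = n929 := (((F1633).symm.trans (sb E706 F1918))).symm
theorem F2148 : act 0 n924 = n924 := (sb E707 (iv D1046))
theorem E709 : n1243 = n590 := ((((iv D924)).symm.trans (sb E707 D1243))).symm
theorem E710 : n958 = n650 := (((F1469).symm.trans (sb E707 F1635))).symm
theorem E711 : n930 = n594 := (((F1470).symm.trans (sb E707 F1636))).symm
theorem F2149 : act 0 n929 = n929 := (sb E708 (iv D1054))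
theorem E712 : n1251 = n593 := ((((iv D929)).symm.trans (sb E708 (iv F2142)))).symm
theorem F2150 : act 2 n929 = n929 := (sb E708 F2141)
theorem E713 : n1252 = n1053 := ((((iv F1648)).symm.trans (sb E708 (iv F1965)))).symm
theorem E714 : n1106 = n382 := (((F874).symm.trans (sb E709 F1920))).symm
theorem F2151 : act 0 n650 = n650 := (sb E710 (iv D958))
theorem E715 : n1104 = n957 := ((((iv F1512)).symm.trans (sb E710 (iv F1708)))).symm
theorem E716 : n653 = n385 := (((F955).symm.trans (sb E710 F1515))).symm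
theorem F2152 : act 0 n594 = n594 := (sb E711 (iv D930))
theorem E718 : n1052 = n927 := ((((iv F1475)).symm.trans (sb E712 (iv D1251)))).symm
theorem F2153 : act 0 n1053 = n1053 := (sb E713 (iv D1252))
theorem F2154 : act 2 n1053 = n1053 := (sb E713 F2144)
theorem E719 : n1107 = n959 := (((F1647).symm.trans (sb E713 F1964))).symm
theorem E720 : n1335 = n646 := ((((iv F950)).symm.trans (sb E714 D1335))).symm
theorem F2155 : act 0 n957 = n957 := (sb E715 (iv D1104))
theorem E725 : n1330 = n1103 := ((((iv F1706)).symm.trans (sb E715 (iv F2080)))).symm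
theorem E726 : n960 = n652 := (((F1513).symm.trans (sb E715 F1709))).symm
theorem F2156 : act 0 n385 = n385 := (sb E716 (iv D653))
theorem E727 : n962 = n225 := ((((iv D385)).symm.trans (sb E716 D962))).symm
theorem F2157 : act 1 n927 = n927 := (sb E718 (iv D1052))
theorem E732 : n995 = n893 := (((F1476).symm.trans (sb E718 F1646))).symm
theorem E733 : n1249 = n1051 := ((((iv F1645)).symm.trans (sb E718 (iv F1961)))).symm
theorem E734 : n1247 = n591 := ((((iv D927)).symm.trans (sb E718 (iv F1956)))).symm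
theorem F2158 : act 0 n959 = n959 := (sb E719 (iv D1107))
theorem E737 : n1369 = n387 := (((F951).symm.trans (sb E720 F2133))).symm
theorem F2160 : act 0 n1103 = n1103 := (sb E725 (iv D1330))
theorem F2161 : act 0 n652 = n652 := (sb E726 (iv D960))
theorem E743 : n1112 = n373 := ((((iv F577)).symm.trans (sb E727 D1112))).symm
theorem F2162 : act 1 n893 = n893 := (sb E732 (iv D995))
theorem E746 : n1169 = n536 := (((F1425).symm.trans (sb E732 D1169))).symm
theorem E747 : n1164 = n991 := ((((iv F1555)).symm.trans (sb E732 (iv F1795)))).symm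
theorem E748 : n1167 = n535 := ((((iv D893)).symm.trans (sb E732 (iv F1800)))).symm
theorem F2163 : act 1 n1051 = n1051 := (sb E733 (iv D1249))
theorem E749 : n1049 = n925 := (((D925).symm.trans (sb E734 (iv D1247)))).symm
theorem E750 : n1130 = n657 := (((D657).symm.trans (sb E737 (iv D1369)))).symm
theorem E751 : n1153 = n596 := ((((iv F884)).symm.trans (sb E737 F2126))).symm
theorem E752 : n1131 = n226 := ((((iv D387)).symm.trans (sb E737 F2128))).symm
theorem E762 : n1294 = n633 := (((D633).symm.trans (sb E743 (iv F2027)))).symm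
theorem E765 : n996 = n894 := (((D894).symm.trans (sb E746 F1801))).symm
theorem F2166 : act 1 n991 = n991 := (sb E747 (iv D1164))
theorem E766 : n994 = n892 := (((D892).symm.trans (sb E748 (iv D1167)))).symm
theorem E767 : n1244 = n1047 := (((D1047).symm.trans (sb E749 (iv F1921)))).symm
theorem E768 : n1237 = n1041 := ((((iv F1627)).symm.trans (sb E749 (iv F1911)))).symm
theorem E769 : n1246 = n1048 := (((D1048).symm.trans (sb E749 (iv F1954)))).symm
theorem F2167 : act 5 n925 = n925 := (sb E749 (iv D1049))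
theorem E770 : n1368 = n968 := (((D968).symm.trans (sb E750 (iv F2121)))).symm
theorem E771 : n1326 = n969 := (((D969).symm.trans (sb E750 (iv F2075)))).symm
theorem E772 : n985 = n934 := ((((iv F1488)).symm.trans (sb E750 F1728))).symm
theorem E773 : n970 = n967 := ((((iv F1521)).symm.trans (sb E750 (iv D1130)))).symm
theorem E774 : n986 = n352 := ((((iv D596)).symm.trans (sb E751 F1776))).symm
theorem E775 : n971 = n386 := (((D386).symm.trans (sb E752 (iv D1131)))).symm
theorem E776 : n1081 = n944 := (((D944).symm.trans (sb E762 (iv D1294)))).symm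
theorem F2170 : act 2 n894 = n894 := (sb E765 (iv D996))
theorem E778 : n1165 = n992 := ((((iv F1558)).symm.trans (sb E765 (iv F1797)))).symm
theorem E779 : n1166 = n993 := (((D993).symm.trans (sb E766 (iv F1799)))).symm
theorem E780 : n1162 = n989 := ((((iv F1549)).symm.trans (sb E766 (iv F1790)))).symm
theorem F2171 : act 5 n892 = n892 := (sb E766 (iv D994))
theorem F2172 : act 5 n1047 = n1047 := (sb E767 (iv D1244))
theorem E781 : n1314 = n1091 := ((((iv F1689)).symm.trans (sb E768 (iv F2057)))).symm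
theorem F2173 : act 5 n1041 = n1041 := (sb E768 (iv D1237))
theorem F2174 : act 5 n1048 = n1048 := (sb E769 (iv D1246))
theorem E782 : n1362 = n1125 := (((D1125).symm.trans (sb E770 (iv F2125)))).symm
theorem E783 : n1364 = n1126 := (((D1126).symm.trans (sb E770 F2122))).symm
theorem E784 : n1151 = n1062 := ((((iv F1661)).symm.trans (sb E770 F2123))).symm
theorem E785 : n1128 = n1123 := ((((iv F1720)).symm.trans (sb E770 (iv D1368)))).symm
theorem E787 : n1152 = n1063 := ((((iv F1663)).symm.trans (sb E771 F2077))).symm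
theorem E788 : n1124 = n1100 := (((iv F1721)).symm.trans (sb E771 (iv D1326)))
theorem E789 : n1061 = n805 := (((iv F1660)).symm.trans (sb E772 (iv D985)))
theorem E790 : n711 = n656 := ((((iv D967)).symm.trans (sb E773 (iv D970)))).symm
theorem E791 : n806 = n595 := (((D595).symm.trans (sb E774 (iv D986)))).symm
theorem E792 : n712 = n654 := (((D654).symm.trans (sb E775 F1524))).symm
theorem E793 : n988 = n655 := (((D655).symm.trans (sb E775 (iv F1546)))).symm
theorem F2175 : act 1 n944 = n944 := (sb E776 (iv D1081))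
theorem E795 : n1291 = n1079 := ((((iv F1679)).symm.trans (sb E776 (iv F2024)))).symm
theorem E796 : n1223 = n1033 := ((((iv F1616)).symm.trans (sb E776 (iv F1888)))).symm
theorem F2176 : act 2 n992 = n992 := (sb E778 (iv D1165))
theorem F2177 : act 5 n993 = n993 := (sb E779 (iv D1166))
theorem F2178 : act 5 n989 = n989 := (sb E780 (iv D1162))
theorem F2179 : act 5 n1091 = n1091 := (sb E781 (iv D1314))
theorem F2180 : act 2 n1125 = n1125 := (sb E782 (iv D1362))
theorem F2181 : act 1 n1126 = n1126 := (sb E783 (iv D1364))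
theorem E798 : n1365 = n1316 := ((D1365).symm.trans (sb E783 (iv F2115)))
theorem E799 : n1360 = n1315 := (((iv F2110)).symm.trans (sb E783 (iv F2116)))
theorem E800 : n1262 = n983 := (((iv F1979)).symm.trans (sb E784 (iv D1151)))
theorem E801 : n1359 = n983 := ((D1359).symm.trans (sb E785 F1724))
theorem E807 : n1263 = n984 := (((iv F1981)).symm.trans (sb E787 (iv D1152)))
theorem E808 : n1358 = n1157 := ((((iv F1780)).symm.trans (sb E788 (iv F2108)))).symm
theorem F2183 : act 2 n1100 = n967 := (sb E788 (iv D1124))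
theorem F2184 : act 5 n1100 = n969 := (sb E788 F1721)
theorem E809 : n933 = n479 := ((((iv D805)).symm.trans (sb E789 (iv D1061)))).symm
theorem F2185 : act 3 n805 = n967 := (sb E789 F1658)
theorem F2186 : act 4 n805 = n967 := (sb E789 F1659)
theorem F2187 : act 5 n805 = n934 := (sb E789 F1660)
theorem E810 : n964 = n420 := (((iv F1519)).symm.trans (sb E790 (iv D711)))
theorem E811 : n966 = n879 := (((iv F1520)).symm.trans (sb E790 (iv F1409)))
theorem E812 : n931 = n480 := ((D931).symm.trans (sb E791 F1157))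
theorem E813 : n979 = n932 := (((D932).symm.trans (sb E791 (iv F1537)))).symm
theorem E814 : n963 = n880 := ((D963).symm.trans (sb E792 (iv F1410)))
theorem E815 : n1159 = n946 := ((((iv F1500)).symm.trans (sb E793 D1159))).symm
theorem E816 : n965 = n909 := ((D965).symm.trans (sb E793 F1547))
theorem F2188 : act 1 n1079 = n1079 := (sb E795 (iv D1291))
theorem F2189 : act 1 n1033 = n1033 := (sb E796 (iv D1223))
theorem F2190 : act 1 n1316 = n1316 := (sb E798 F2118)
theorem F2191 : act 3 n1316 = n1126 := (sb E798 (iv D1365))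
theorem F2192 : act 2 n1315 = n1123 := (sb E799 (iv D1360))
theorem F2193 : act 5 n1315 = n1126 := (sb E799 F2110)
theorem F2194 : act 3 n983 = n1123 := (sb E800 F1977)
theorem F2195 : act 4 n983 = n1123 := (sb E800 F1978)
theorem F2196 : act 5 n983 = n1062 := (sb E800 F1979)
theorem F2197 : act 1 n983 = n1123 := (sb E801 (iv D1359))
theorem F2204 : act 5 n984 = n1063 := (sb E807 F1981)
theorem E818 : n1122 = n987 := ((((iv D1157)).symm.trans (sb E808 (iv D1358)))).symm
theorem E820 : n1060 = n786 := ((((iv F1138)).symm.trans (sb E809 (iv F1656)))).symm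
theorem F2205 : act 3 n479 = n656 := (sb E809 F1486)
theorem F2206 : act 4 n479 = n656 := (sb E809 F1487)
theorem F2207 : act 5 n479 = n595 := (sb E809 (iv D933))
theorem F2208 : act 0 n420 = n656 := (sb E810 F1519)
theorem F2209 : act 5 n420 = n654 := (sb E810 (iv D964))
theorem F2210 : act 2 n879 = n656 := (sb E811 F1520)
theorem E823 : n1121 = n556 := (((F1256).symm.trans (sb E811 (iv F1719)))).symm
theorem F2211 : act 5 n879 = n655 := (sb E811 (iv D966))
theorem F2212 : act 0 n480 = n595 := (sb E812 (iv D931))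
theorem F2213 : act 1 n480 = n654 := (sb E812 F1482)
theorem E824 : n975 = n788 := ((((iv F1140)).symm.trans (sb E812 F1936))).symm
theorem F2214 : act 3 n480 = n654 := (sb E812 F1483)
theorem F2215 : act 4 n480 = n654 := (sb E812 F1484)
theorem E826 : n1144 = n1035 := (((F1927).symm.trans (sb E813 (iv F1750)))).symm
theorem F2216 : act 0 n880 = n655 := (sb E814 F1518)
theorem E827 : n972 = n777 := (((F1257).symm.trans (sb E814 (iv F1931)))).symm
theorem F2217 : act 2 n880 = n654 := (sb E814 (iv D963))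
theorem E828 : n1116 = n557 := (((F1258).symm.trans (sb E814 D1116))).symm
theorem E829 : n1085 = n1021 := ((D1085).symm.trans (sb E815 F1785))
theorem E830 : n1119 = n1004 := ((((iv F1573)).symm.trans (sb E816 D1119))).symm
theorem F2218 : act 3 n909 = n655 := (sb E816 (iv D965))
theorem E831 : n1021 = n1015 := ((((iv F1591)).symm.trans (sb E816 (tr (iv F1929) E829)))).symm
theorem E836 : n1305 = n1158 := (((D1158).symm.trans (sb E818 (iv F2044)))).symm
theorem E839 : n1228 = n978 := (((D978).symm.trans (sb E820 (iv F1930)))).symm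
theorem F2220 : act 5 n786 = n932 := (sb E820 (iv D1060))
theorem E844 : n1355 = n898 := ((((iv F1433)).symm.trans (sb E823 (iv F2105)))).symm
theorem F2221 : act 0 n788 = n932 := (sb E824 (iv F1935))
theorem E846 : n974 = n776 := (((iv F1530)).symm.trans (sb E824 (iv D975)))
theorem E847 : n1023 = n981 := ((((iv F1540)).symm.trans (sb E824 (iv F1599)))).symm
theorem E849 : n1194 = n946 := (((F1619).symm.trans (sb E826 (iv F1841)))).symm
theorem E850 : n976 = n771 := (((iv F1533)).symm.trans (sb E827 (iv D972)))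
theorem E851 : n1133 = n910 := ((((iv F1445)).symm.trans (sb E827 D1133))).symm
theorem E853 : n1036 = n900 := ((((iv F1435)).symm.trans (sb E828 F1933))).symm
theorem E855 : n1085 = n1015 := (E829).trans E831
theorem E856 : n1303 = n1173 := ((((iv F1808)).symm.trans (sb E855 D1303))).symm
theorem E857 : n1269 = n1182 := (((D1182).symm.trans (sb E830 (iv F1992)))).symm
theorem E858 : n1147 = n1034 := (((iv F1762)).symm.trans (sb E830 F1946))
theorem E860 : n1195 = n909 := ((D1195).symm.trans (sb E831 (iv D1021)))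
theorem E862 : n1201 = n905 := ((((iv D1015)).symm.trans (sb E831 (iv F1855)))).symm
theorem F2223 : act 1 n1158 = n1086 := (sb E836 (iv D1305))
theorem E864 : n1037 = n899 := (((F1535).symm.trans (sb E839 F1895))).symm
theorem E865 : n1086 = n1014 := ((((iv F1588)).symm.trans (sb E839 F1896))).symm
theorem F2224 : act 5 n978 = n1035 := (sb E839 (iv D1228))
theorem E867 : n1226 = n980 := ((((iv F1539)).symm.trans (sb E844 F2106))).symm
theorem F2225 : act 1 n776 = n788 := (sb E846 F1530)
theorem F2226 : act 2 n776 = n777 := (sb E846 F1531)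
theorem E868 : n1136 = n911 := ((((iv F1449)).symm.trans (sb E846 (iv F1746)))).symm
theorem F2227 : act 4 n776 = n777 := (sb E846 F1532)
theorem F2228 : act 0 n981 = n1035 := (sb E847 (iv F1937))
theorem E869 : n1082 = n1017 := ((((iv F1595)).symm.trans (sb E847 (iv F1940)))).symm
theorem F2229 : act 3 n946 = n1015 := (sb E849 F1840)
theorem F2230 : act 0 n771 = n777 := (sb E850 F1533)
theorem E873 : n1022 = n973 := (((D973).symm.trans (sb E850 (iv F1597)))).symm
theorem F2231 : act 5 n771 = n776 := (sb E850 (iv D976))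
theorem E874 : n1072 = n630 := ((((iv F1447)).symm.trans (sb E851 F1734))).symm
theorem E877 : n1007 = n919 := ((D1007).symm.trans (sb E853 F1620))
theorem F2232 : act 3 n900 = n918 := (sb E853 (iv D1036))
theorem E878 : n1230 = n999 := ((((iv F1565)).symm.trans (sb E853 D1230))).symm
theorem F2233 : act 3 n1173 = n1300 := (sb E856 (iv F2041))
theorem F2234 : act 0 n1182 = n1210 := (sb E857 F1991)
theorem F2235 : act 3 n1182 = n1065 := (sb E857 (iv D1269))
theorem F2236 : act 2 n1034 = n981 := (sb E858 F1761)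
theorem F2237 : act 3 n1034 = n1004 := (sb E858 F1762)
theorem E879 : n1197 = n945 := (((F1617).symm.trans (sb E858 (iv F1848)))).symm
theorem F2238 : act 1 n909 = n1015 := (sb E860 (iv D1195))
theorem E880 : n1020 = n1013 := (((D1013).symm.trans (sb E862 (iv D1201)))).symm
theorem E882 : n1232 = n545 := (((F1434).symm.trans (sb E864 D1232))).symm
theorem E883 : n1005 = n948 := ((D1005).symm.trans (sb E864 F1621))
theorem F2239 : act 5 n899 = n918 := (sb E864 (iv D1037))
theorem E884 : n1192 = n1158 := (((iv F1834)).symm.trans (sb E865 (iv F2223)))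
theorem F2240 : act 5 n1014 = n946 := (sb E865 (iv D1086))
theorem E885 : n1084 = n1016 := ((((iv F1593)).symm.trans (sb E867 F1893))).symm
theorem F2241 : act 5 n980 = n1034 := (sb E867 (iv D1226))
theorem F2242 : act 1 n911 = n981 := (sb E868 F1745)
theorem E886 : n1149 = n1011 := ((((iv F1582)).symm.trans (sb E868 (iv F1767)))).symm
theorem F2243 : act 0 n1017 = n946 := (sb E869 F1681)
theorem F2244 : act 0 n973 = n910 := (sb E873 (iv D1022))
theorem E889 : n1135 = n937 := ((D1135).symm.trans (sb E873 F1596))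
theorem E890 : n1191 = n982 := ((((iv F1542)).symm.trans (sb E873 (iv F1833)))).symm
theorem F2245 : act 5 n973 = n911 := (sb E873 F1598)
theorem E891 : n953 = n941 := (((D941).symm.trans (sb E874 F1670))).symm
theorem E892 : n940 = n938 := (((iv F1494)).symm.trans (sb E874 (iv D1072)))
theorem E895 : n1185 = n589 := (((F1461).symm.trans (sb E877 D1185))).symm
theorem F2246 : act 1 n919 = n900 := (sb E877 (iv D1007))
theorem E896 : n1177 = n1038 := (((D1038).symm.trans (sb E877 (iv F1815)))).symm
theorem E897 : n1039 = n903 := ((D1039).symm.trans (sb E877 F1577))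
theorem E898 : n1176 = n1088 := (((iv F1813)).symm.trans (sb E878 F1900))
theorem F2247 : act 2 n945 = n1017 := (sb E879 F1847)
theorem E900 : n1200 = n1018 := ((((iv F1758)).symm.trans (sb E880 (iv F1853)))).symm
theorem E901 : n1193 = n908 := (((F1586).symm.trans (sb E880 (iv F1837)))).symm
theorem E902 : n1090 = n901 := (((D901).symm.trans (sb E882 F1902))).symm
theorem E903 : n1040 = n902 := (((D902).symm.trans (sb E882 F1903))).symm
theorem F2248 : act 2 n948 = n1014 := (sb E883 F1589)
theorem F2249 : act 4 n948 = n899 := (sb E883 (iv D1005))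
theorem F2250 : act 0 n1158 = n1199 := (sb E884 (iv F1851))
theorem F2251 : act 1 n1158 = n1014 := (sb E884 F1834)
theorem F2252 : act 2 n1158 = n1028 := (sb E884 F1836)
theorem F2253 : act 3 n1158 = n1013 := (sb E884 (iv D1192))
theorem E905 : n1143 = n1027 := ((F1784).symm.trans (sb E884 F1835))
theorem F2254 : act 0 n1016 = n948 := (sb E885 F1683)
theorem E907 : n1301 = n1196 := (((D1196).symm.trans (sb E885 (iv F2038)))).symm
theorem F2255 : act 5 n1016 = n945 := (sb E885 (iv D1084))
theorem F2256 : act 1 n1011 = n1017 := (sb E886 F1765)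
theorem F2257 : act 3 n1011 = n1012 := (sb E886 F1766)
theorem E911 : n1071 = n1016 := ((D1071).symm.trans (sb E889 F1739))
theorem F2258 : act 2 n937 = n973 := (sb E889 (iv D1135))
theorem E912 : n1070 = n1068 := (((iv F1669)).symm.trans (sb E889 F1740))
theorem E913 : n1146 = n1026 := ((((iv F1603)).symm.trans (sb E889 (iv F1753)))).symm
theorem F2259 : act 0 n982 = n1012 := (sb E890 F1831)
theorem F2260 : act 5 n982 = n1011 := (sb E890 (iv D1191))
theorem E914 : n1077 = n921 := ((D1077).symm.trans (sb E891 F1507))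
theorem F2261 : act 2 n941 = n919 := (sb E891 F1508)
theorem E915 : n1076 = n647 := (((iv F1675)).symm.trans (sb E891 (iv D953)))
theorem E916 : n1098 = n1030 := ((((iv F1609)).symm.trans (sb E891 D1098))).symm
theorem E918 : n1074 = n629 := ((((iv D938)).symm.trans (sb E892 (iv F1673)))).symm
theorem F2262 : act 3 n938 = n630 := (sb E892 F1494)
theorem E919 : n1075 = n1073 := (((D1073).symm.trans (sb E892 (iv F1674)))).symm
theorem E921 : n1010 = n923 := (((D923).symm.trans (sb E895 F1827))).symm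
theorem F2263 : act 1 n1038 = n999 := (sb E896 (iv D1177))
theorem E922 : n1233 = n1002 := ((D1233).symm.trans (sb E896 F1816))
theorem F2264 : act 3 n903 = n920 := (sb E897 F1625)
theorem F2265 : act 5 n903 = n919 := (sb E897 (iv D1039))
theorem F2266 : act 3 n1088 = n999 := (sb E898 F1813)
theorem E924 : n1309 = n998 := ((D1309).symm.trans (sb E898 (iv D1176)))
theorem F2267 : act 5 n1018 = n1019 := (sb E900 (iv D1200))
theorem F2268 : act 5 n908 = n1013 := (sb E901 (iv D1193))
theorem E925 : n1311 = n926 := ((((iv F1472)).symm.trans (sb E902 D1311))).symm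
theorem F2269 : act 1 n901 = n948 := (sb E902 (iv D1090))
theorem E926 : n1312 = n915 := ((((iv F1454)).symm.trans (sb E902 D1312))).symm
theorem E927 : n1310 = n1000 := ((((iv F1567)).symm.trans (sb E902 (iv F2050)))).symm
theorem E928 : n1008 = n952 := ((D1008).symm.trans (sb E902 F1688))
theorem F2270 : act 1 n902 = n920 := (sb E903 (iv D1040))
theorem E930 : n1236 = n916 := ((((iv F1457)).symm.trans (sb E903 D1236))).symm
theorem E931 : n1216 = n977 := ((((iv F1605)).symm.trans (sb E905 (iv F1877)))).symm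
theorem F2271 : act 4 n1027 = n1158 := (sb E905 (iv F1784))
theorem F2272 : act 0 n1196 = n1089 := (sb E907 F2037)
theorem F2273 : act 5 n1196 = n1083 := (sb E907 (iv D1301))
theorem F2274 : act 1 n1016 = n937 := (sb E911 (iv D1071))
theorem E936 : n1215 = n980 := (((F1593).symm.trans (sb E911 (iv F1875)))).symm
theorem E937 : n1274 = n945 := (((F2255).symm.trans (sb E911 (iv F1998)))).symm
theorem E938 : n1276 = n936 := ((((iv D1068)).symm.trans (sb E912 (iv F2004)))).symm
theorem F2275 : act 3 n1068 = n937 := (sb E912 F1669)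
theorem E939 : n1277 = n1275 := (((D1275).symm.trans (sb E912 (iv F2006)))).symm
theorem F2276 : act 2 n1026 = n982 := (sb E913 F1751)
theorem E940 : n1214 = n1003 := (((iv F1874)).symm.trans (sb E913 F1752))
theorem F2277 : act 0 n921 = n941 := (sb E914 (iv D1077))
theorem E942 : n1286 = n949 := ((((iv F1503)).symm.trans (sb E914 (iv F2018)))).symm
theorem E943 : n1219 = n1042 := (((D1042).symm.trans (sb E914 (iv F1882)))).symm
theorem E944 : n1043 = n944 := ((D1043).symm.trans (sb E914 F1677))
theorem E945 : n1287 = n381 := ((((iv D647)).symm.trans (sb E915 D1287))).symm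
theorem F2278 : act 3 n647 = n941 := (sb E915 F1675)
theorem E946 : n1285 = n954 := (((D954).symm.trans (sb E915 (iv F2016)))).symm
theorem E947 : n955 = n943 := ((D955).symm.trans (sb E915 F1676))
theorem F2279 : act 2 n1030 = n1038 := (sb E916 F1700)
theorem E948 : n1218 = n984 := (((iv F1880)).symm.trans (sb E916 F1771))
theorem E952 : n1283 = n939 := (((D939).symm.trans (sb E918 (iv F2014)))).symm
theorem F2280 : act 5 n629 = n938 := (sb E918 (iv D1074))
theorem E953 : n1217 = n1157 := (((F1782).symm.trans (sb E919 (iv F1878)))).symm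
theorem F2281 : act 0 n923 = n903 := (sb E921 (iv D1010))
theorem E955 : n1180 = n1044 := ((((iv F1631)).symm.trans (sb E921 (iv F1822)))).symm
theorem E956 : n1179 = n1094 := (((iv F1820)).symm.trans (sb E922 F1905))
theorem F2282 : act 5 n1002 = n1038 := (sb E922 (iv D1233))
theorem F2283 : act 4 n998 = n1089 := (sb E924 F2049)
theorem F2284 : act 5 n998 = n1088 := (sb E924 (iv D1309))
theorem E957 : n1096 = n1051 := (((D1051).symm.trans (sb E925 F2052))).symm
theorem E958 : n1097 = n1031 := (((D1031).symm.trans (sb E926 F2053))).symm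
theorem F2285 : act 1 n1000 = n1089 := (sb E927 (iv D1310))
theorem E959 : n1178 = n1095 := ((D1178).symm.trans (sb E927 F2051))
theorem F2286 : act 4 n952 = n902 := (sb E928 F1578)
theorem F2287 : act 5 n952 = n901 := (sb E928 (iv D1008))
theorem E960 : n1063 = n1032 := (((D1032).symm.trans (sb E930 F1909))).symm
theorem F2288 : act 2 n977 = n1029 := (sb E931 F1876)
theorem F2289 : act 5 n977 = n1027 := (sb E931 (iv D1216))
theorem F2290 : act 1 n980 = n1026 := (sb E936 (iv D1215))
theorem E961 : n1067 = n1064 := ((((iv F1664)).symm.trans (sb E937 (iv D1274)))).symm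
theorem F2291 : act 5 n936 = n1068 := (sb E938 (iv D1276))
theorem F2292 : act 5 n1275 = n1069 := (sb E939 (iv D1277))
theorem F2293 : act 0 n1003 = n1029 := (sb E940 F1873)
theorem F2294 : act 3 n1003 = n1026 := (sb E940 F1874)
theorem E962 : n1181 = n1025 := ((D1181).symm.trans (sb E940 (iv D1214)))
theorem E963 : n1093 = n1079 := ((D1093).symm.trans (sb E942 F2019))
theorem F2295 : act 0 n1042 = n1030 := (sb E943 (iv D1219))
theorem E964 : n1238 = n1033 := ((D1238).symm.trans (sb E943 F1883))
theorem F2296 : act 2 n944 = n923 := (sb E944 F1629)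
theorem F2297 : act 5 n944 = n921 := (sb E944 (iv D1043))
theorem E965 : n1080 = n649 := (((D649).symm.trans (sb E945 F2020))).symm
theorem E966 : n1101 = n1078 := ((D1101).symm.trans (sb E946 F2017))
theorem F2298 : act 5 n943 = n647 := (sb E947 (iv D955))
theorem F2299 : act 1 n984 = n1029 := (sb E948 (iv D1218))
theorem F2300 : act 3 n984 = n1030 := (sb E948 F1880)
theorem F2301 : act 5 n939 = n1073 := (sb E952 (iv D1283))
theorem F2302 : act 4 n1157 = n1029 := (sb E953 F1879)
theorem F2303 : act 5 n1157 = n1028 := (sb E953 (iv D1217))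
theorem F2304 : act 0 n1044 = n1002 := (sb E955 (iv D1180))
theorem E968 : n1318 = n1001 := ((D1318).symm.trans (sb E956 (iv D1179)))
theorem F2305 : act 3 n1094 = n1002 := (sb E956 F1820)
theorem F2306 : act 0 n1051 = n952 := (sb E957 (iv D1096))
theorem E971 : n1319 = n1248 := ((((iv F1959)).symm.trans (sb E957 (iv F2067)))).symm
theorem E972 : n1220 = n969 := ((D1220).symm.trans (sb E958 F1698))
theorem F2307 : act 2 n1031 = n952 := (sb E958 (iv D1097))
theorem E974 : n1320 = n1095 := ((D1320).symm.trans (sb E959 (tr F1817 E959)))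
theorem F2308 : act 5 n1095 = n1000 := (sb E959 (iv D1178))
theorem E975 : n1265 = n1221 := (((D1221).symm.trans (sb E960 (iv F1985)))).symm
theorem F2309 : act 2 n1032 = n934 := (sb E960 (iv D1063))
theorem F2310 : act 5 n1032 = n984 := (sb E960 (iv F2204))
theorem E976 : n1268 = n935 := ((((iv D1064)).symm.trans (sb E961 (iv F1989)))).symm
theorem E978 : n1273 = n1267 := (((D1267).symm.trans (sb E961 (iv F1997)))).symm
theorem E979 : n1211 = n1065 := (((F1944).symm.trans (sb E961 (iv F1865)))).symm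
theorem F2311 : act 5 n1025 = n1003 := (sb E962 (iv D1181))
theorem E980 : n1292 = n951 := ((D1292).symm.trans (sb E963 F1693))
theorem E981 : n1316 = n1289 := ((((iv F2021)).symm.trans (sb E963 (iv F2064)))).symm
theorem F2312 : act 5 n1079 = n949 := (sb E963 (iv D1093))
theorem F2313 : act 2 n1033 = n1044 := (sb E964 F1912)
theorem F2314 : act 5 n1033 = n1042 := (sb E964 (iv D1238))
theorem E982 : n961 = n957 := (((D957).symm.trans (sb E965 F1680))).symm
theorem F2315 : act 2 n649 = n943 := (sb E965 (iv D1080))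
theorem E984 : n1290 = n956 := ((((iv F1511)).symm.trans (sb E965 (iv F2023)))).symm
theorem F2316 : act 5 n1078 = n954 := (sb E966 (iv D1101))
theorem F2317 : act 1 n1001 = n1094 := (sb E968 (iv D1318))
theorem F2318 : act 4 n1001 = n1095 := (sb E968 F2066)
theorem F2319 : act 0 n1248 = n1095 := (sb E971 (iv D1319))
theorem F2320 : act 1 n969 = n1031 := (sb E972 (iv D1220))
theorem F2321 : act 3 n969 = n1078 := (sb E972 F1884)
theorem F2322 : act 4 n969 = n1032 := (sb E972 F1885)
theorem F2323 : act 2 n1095 = n1095 := (sb E974 (iv D1320))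
theorem F2324 : act 2 n1221 = n1062 := (sb E975 (iv D1265))
theorem F2325 : act 4 n1221 = n1126 := (sb E975 F1986)
theorem F2326 : act 5 n935 = n1064 := (sb E976 (iv D1268))
theorem F2327 : act 5 n1267 = n1066 := (sb E978 (iv D1273))
theorem F2328 : act 5 n1065 = n1024 := (sb E979 (iv D1211))
theorem F2329 : act 2 n951 = n1079 := (sb E980 (iv D1292))
theorem F2330 : act 1 n1289 = n1289 := (sb E981 (tr F2190 E981))
theorem F2331 : act 2 n1289 = n1094 := (sb E981 F2063)
theorem F2332 : act 3 n1289 = n1126 := (sb E981 F2191)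
theorem F2333 : act 5 n1289 = n1092 := (sb E981 (iv D1316))
theorem E987 : n1105 = n652 := ((D1105).symm.trans (sb E982 (iv D961)))
theorem F2334 : act 2 n956 = n1078 := (sb E984 (iv D1290))
theorem F2335 : act 2 n652 = n957 := (sb E987 (iv D1105))
theorem E991 : n1331 = n959 := ((((iv F1516)).symm.trans (sb E987 (iv F2082)))).symm
theorem F2336 : act 2 n959 = n1103 := (sb E991 (iv D1331))
theorem F2337 : act 2 n1240 = n1240 := d15_2 F2336 (iv F1914) F1914 (iv F2336) (iv F1647) F2154 F1647 F2158
theorem F2338 : act 0 n1240 = n1240 := d15_8 F2337 F1914 (iv F2336) (iv F1647) F2154 F1647 F2336 (iv F1914)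
theorem F2339 : act 2 n1264 = n1264 := d17_56 (iv F1648) F1647 F2336 (iv F1914) F2337 (iv D1240) F1630 F2334 (iv F2321) (iv D969) (iv D657) (iv F884) (iv F1463) (iv F2264) F1437 (iv D633) (iv F933) F932 F591 F371 F244 F245 F156 (iv F245) (iv F371) D385 (iv F880) (iv F1479) F2150 F1479 F879 (iv D594) (iv F878) (iv F1475) F1476 F1425 D894 F1427 (iv F1421) (iv F1557) F2176 (iv D992) F1418 F1360 (iv F811) (iv F1431) D1002 (iv F2305) (iv F2331) F2332 (iv D1126) D1125 (iv F1984) F1983 F2180 (iv F1983) (iv D1264) F1661 D1126 (iv F2332) F2331 (iv F2317) F1569 F1431 F811 (iv F1360) D891 (iv F1557) F2176 F1557 F1421 (iv D537) (iv F804) (iv F1425) (iv F1476) F1475 D929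
theorem F2340 : act 1 n1248 = n1248 := d17_67 (iv F1614) F1613 F1497 (iv F1477) (iv F1644) F2163 (iv F1959) F1958 F1959 F1644 D1053 F1647 F2336 (iv F1914) F2337 (iv D1240) F1630 F2334 (iv F2321) (iv D969) (iv D657) (iv F884) (iv F1463) (iv F2264) F1437 (iv D633) (iv F862) (iv F1458) F1457 F1436 F818 F1379 F367 F242 (iv F367) (iv F578) D633 (iv F1499) (iv F2315) F953 F590 F372 (iv F552) (iv F873) (iv F1467) (iv F2296) F2175 (iv F1679) (iv F2329) F1506 F951 D657 (iv F1489) F1488 D969 F2321 (iv F2334) D1103 (iv F1914) F2337 F1914 (iv F2336) (iv D959) (iv F1477) (iv F1644) (iv F1959) F1958 F1959 F1644 F1477 (iv F1497) D1078 (iv F2321) (iv D969) (iv F1488) (iv F2309) (iv D1032)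
theorem F2341 : act 1 n1163 = n1163 := d17_62 (iv F1706) (iv F1914) F2337 F1914 (iv F2336) (iv D959) (iv F1477) (iv F1644) (iv F1959) F1958 F2340 F1959 F1644 F1477 (iv F1497) D1078 (iv F2321) (iv D969) (iv F1488) (iv F2309) (iv D1032) F1458 F861 F541 (iv F502) D537 F805 (iv F1364) F1280 (iv F1364) F1280 (iv D319) (iv F1346) F1345 F324 F218 F145 F146 F100 (iv F146) (iv F218) F1343 (iv F229) (iv F322) (iv F1346) F1345 F1339 F229 F153 (iv F229) (iv F322) D319 (iv F805) (iv F1427) F2170 F1427 (iv F1421) (iv D891) (iv F1418) (iv F1554) (iv F1794) F1793 F1794 F1554 F1418 F1360 F1352 (iv F541) (iv F861) (iv F1458) F1457 F2270 (iv F2264) F1437 (iv F1499) (iv F2315) D957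
theorem F2342 : act 5 n1161 = n1161 := d8_4 D1163 F2341 (iv D1163) (iv F1789) F1789
theorem F2343 : act 5 n1313 = n1313 := d4_2 F2342 (iv F2054) F2054
theorem F2344 : act 5 n1245 = n1245 := d14_2 F2342 (iv F1926) F1926
theorem F2345 : act 5 n1160 = n1160 := d13_2 F2343 F2056 (iv F2056)
theorem F2346 : act 1 n1221 = n1221 := d5_3 F2339 (iv D1264) (iv F2324) F2324 D1264
theorem E994 : n1363 = n1264 := (c16_1 D1363 F2339 (iv D1264) (iv D1062) (iv F2187) D984 F2299 (iv F2293) (iv F2311) D1212 (iv F1868) (iv F2250) (iv D1158) D1157 F1780 (iv F2058) F2193 (iv D1126) D1125 F1722)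
theorem F2347 : act 5 n1264 = n1125 := (sb E994 (iv D1363))
theorem F2348 : act 5 n1210 = n1182 := d13_2 F2328 D1210 F2235
theorem F2349 : act 5 n1199 = n1156 := d16_8 F2328 (iv F1943) F1664 (iv D945) D948 F2248 (iv F2251) F2250 (iv F1803) (iv D1171) (iv D997) D999 F1564 (iv F1583) (iv F2259) F2260 F1581 D1024 (iv F1941)
theorem F2350 : act 5 n1141 = n1212 := d8_4 F2349 F1777 F2267 F1756 (iv F1868)
theorem F2351 : act 5 n1171 = n1213 := d11_2 F2349 (iv F1803) F1871
theorem F2352 : act 5 n1150 = n1221 := d16_8 F2351 F1871 F1868 F1866 (iv F2289) F2288 (iv F2299) (iv F1768) F2324 D1264 F1982 F2347 F2180 (iv D1125) (iv D968) (iv F1521) (iv F2183) (iv F1780) F1805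
theorem F2353 : act 3 n1174 = n1308 := d17_68 F1562 (iv F1539) (iv D980) (iv D787) F709 (iv D283) (iv F402) (iv D245) (iv D144) F169 (iv F161) F162 (iv F1382) F206 F1382 F161 F110 (iv F169) D144 D245 D420 F639 (iv F709) D787 D980 F2290 F1603 (iv F2275) (iv D1068) (iv D936) (iv F1448) F2242 F1540 F1140 F2214 (iv F2217) F1257 (iv F1445) (iv F1447) (iv F2262) (iv D938) F928 (iv D372) (iv D218) (iv D129) F151 (iv F1378) (iv F336) (iv F522) F523 (iv D270) (iv F436) (iv F1387) (iv D160) F194 F120 (iv F194) (iv F287) D267 D458 D772 F1386 (iv F1441) (iv D906) (iv F1428) D998 D1174 F1810 F2048 F1687 F2248 (iv F2251) F2253 (iv F1758) (iv F1778) (iv F1803) (iv D1171)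
theorem F2354 : act 1 n1308 = n1308 := d6_1 F2353 (iv F2353) F1810
theorem F2355 : act 5 n1307 = n1174 := d13_0 F2353 (iv D1308) D1307
theorem F2356 : act 4 n1174 = n1308 := d14_1 F2355 (iv D1308) F2047
theorem F2357 : act 5 n1306 = n1306 := d8_4 D1308 F2354 (iv D1308) D1306 (iv D1306)
theorem F2358 : act 5 n1300 = n1172 := d4_2 F2284 (iv F2036) F1806
def n1373 : Q := act 2 n1161
theorem D1373 : act 2 n1161 = n1373 := rfl
theorem F2359 : act 1 n1373 = n1373 := d5_1 D1373 (iv D1373) F1789 F1552 (iv F1789)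
theorem F2360 : act 5 n1373 = n1373 := d11_2 F2342 D1373 (iv D1373)
def n1374 : Q := act 2 n1172
theorem D1374 : act 2 n1172 = n1374 := rfl
theorem F2361 : act 0 n1374 = n1174 := d1_1 D1374 (iv D1174) (iv F1806)
def n1375 : Q := act 1 n1173
theorem D1375 : act 1 n1173 = n1375 := rfl
theorem F2362 : act 2 n1375 = n1182 := d5_2 (iv F1808) D1375 (iv D1182) F1573 F2238
theorem F2363 : act 4 n1375 = n1182 := d7_2 (iv F1809) D1375 (iv D1182)
def n1376 : Q := act 2 n1196
theorem D1376 : act 2 n1196 = n1376 := rfl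
theorem F2364 : act 0 n1376 = n1308 := d1_1 D1376 F2048 (iv F2272)
theorem F2365 : act 1 n1376 = n1271 := d5_1 D1376 (iv D1271) F1665 D1068 (iv F1844)
theorem F2366 : act 3 n1376 = n1374 := d9_2 D1196 D1376 (iv D1374) (iv D1172) F1561 D1014 (iv F2248) (iv F1687) (iv F2048) (iv F2353) (iv D1174) (iv D998) F1428 D906 D1016
theorem F2367 : act 4 n1376 = n1374 := d10_2 (iv F1845) D1376 (iv D1374)
theorem F2368 : act 5 n1376 = n1299 := d11_2 (iv F2273) D1376 (iv D1299)
def n1377 : Q := act 2 n1210
theorem D1377 : act 2 n1210 = n1377 := rfl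
theorem F2369 : act 0 n1377 = n1375 := d1_1 D1377 F2362 F2234
theorem F2370 : act 1 n1377 = n1213 := d5_1 D1377 F1871 F1868 (iv D1212) (iv F1864)
theorem F2371 : act 5 n1377 = n1375 := d11_2 (iv F2348) D1377 F2362
theorem F2372 : act 4 n1210 = n1377 := d14_3 F2371 F2363 (iv F2348)
theorem F2373 : act 3 n1377 = n1272 := d12_1 F2372 (iv D1272) (iv D1066) (iv F1600) D1210
def n1378 : Q := act 2 n1245
theorem D1378 : act 2 n1245 = n1378 := rfl
theorem F2374 : act 0 n1378 = n1306 := d1_1 D1378 F2045 (iv F1924)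
theorem F2375 : act 1 n1378 = n1378 := d5_1 D1378 (iv D1378) F1925 F1641 (iv F1925)
theorem F2376 : act 4 n1378 = n1373 := d10_2 (iv F1926) D1378 (iv D1373)
theorem F2377 : act 5 n1378 = n1378 := d11_2 F2344 D1378 (iv D1378)
theorem F2378 : act 3 n1378 = n1373 := d15_1 D1378 (iv D1373) (iv D1161) F1549 (iv F1471) (iv F1627) (iv F1689) (iv F1924)
def n1379 : Q := act 2 n1267
theorem D1379 : act 2 n1267 = n1379 := rfl
theorem F2379 : act 0 n1379 = n1271 := d1_1 D1379 (iv D1271) (iv F1987)
theorem F2380 : act 5 n1379 = n1271 := d11_2 (iv F2327) D1379 (iv D1271)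
def n1380 : Q := act 4 n1267
theorem D1380 : act 4 n1267 = n1380 := rfl
theorem F2381 : act 0 n1380 = n1272 := d3_1 D1380 (iv D1272) (iv F1987)
theorem F2382 : act 1 n1380 = n1300 := d7_1 D1380 (iv D1300) (iv F1988)
theorem F2383 : act 3 n1380 = n1375 := d12_1 D1380 F2363 F2235 (iv F1944) D1267
theorem F2384 : act 5 n1380 = n1272 := d14_2 (iv F2327) D1380 (iv D1272)
def n1381 : Q := act 3 n1271
theorem D1381 : act 3 n1271 = n1381 := rfl
theorem F2385 : act 1 n1381 = n1374 := d6_1 D1381 (iv F2366) F2365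
theorem F2386 : act 2 n1381 = n1272 := d15_2 D1271 D1381 (iv F2373) (iv D1377) (iv D1210) (iv F1943) D1267 F1987
theorem F2387 : act 4 n1271 = n1381 := d17_0 (iv D1381) (iv D1271) (iv D1066) D1065 F1942 F2237 F1573 F2218 (iv D655) (iv D386) (iv F549) (iv F870) D919 (iv F2261) (iv D941) (iv F2262) (iv D938) (iv D629) (iv F1407) (iv D558) F523 (iv D270) (iv D160) F194 F119 (iv D33) (iv D18) (iv D9) F19 D9 D17 D31 D55 F1351 F193 (iv D57) (iv F108) (iv D49) (iv D28) (iv D15) F26 F27 D15 D28 D49 F1340 F1335 (iv F193) (iv F1351) (iv D55) F75 D33 F76 (iv F121) D100 D167 D283 (iv F639) F1402 F780 (iv F817) (iv D544) D545 (iv F859) (iv D580) (iv D344) (iv F1381) (iv D329) F332 D194 D330 D554 D906 D1016 D1196 D1376 F2365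
def n1382 : Q := act 1 n1299
theorem D1382 : act 1 n1299 = n1382 := rfl
theorem F2388 : act 0 n1382 = n1382 := d0_1 D1382 (iv D1382) F2035 D1306 (iv F2374) F2375 F2374 (iv D1306) (iv F2035)
def n1383 : Q := act 3 n1299
theorem D1383 : act 3 n1299 = n1383 := rfl
theorem F2389 : act 0 n1383 = n1307 := d2_1 D1383 (iv D1307) (iv F2035)
theorem F2390 : act 2 n1383 = n1300 := d9_1 D1383 (iv F2233) F1808 (iv F2229) (iv D946) D947 D1087 D1307 F2046 F2266 F1564 (iv F1594) (iv F2247) D1083 D1299
theorem F2391 : act 5 n1383 = n1374 := d13_2 F2368 D1383 (iv F2366)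
theorem F2392 : act 4 n1299 = n1383 := d14_3 F2391 (iv F2367) F2368
def n1384 : Q := act 3 n1306
theorem D1384 : act 3 n1306 = n1384 := rfl
theorem F2393 : act 0 n1384 = n1373 := d2_1 D1384 (iv F2378) F2374
theorem F2394 : act 1 n1384 = n1307 := d6_1 D1384 (iv D1307) D1306
theorem F2395 : act 2 n1384 = n1313 := d9_1 D1384 F2056 F1787 (iv F1637) F1742 D1245 D1378 F2378 (iv D1373) (iv D1161) F1549 (iv F1471) (iv F1627) (iv F1689) (iv F2045)
theorem F2396 : act 5 n1384 = n1384 := d13_2 F2357 D1384 (iv D1384)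
theorem F2397 : act 4 n1306 = n1384 := d17_0 (iv D1384) F2045 F1689 F1627 (iv D925) F876 (iv D535) (iv D317) F320 (iv F1361) D329 D553 F1372 (iv D789) (iv F1139) (iv D787) F709 (iv F639) F1402 (iv D523) F485 (iv D195) (iv D116) F136 F87 (iv D24) (iv D12) (iv D6) F13 D6 D11 D21 D38 D66 D114 F1347 F143 F96 (iv F143) (iv F214) D183 F1334 F214 F143 F96 (iv F1363) (iv F220) (iv D114) (iv D66) (iv D38) F51 D24 F60 (iv F94) D73 D124 D208 F353 (iv F370) D381 D647 (iv F1492) F2262 F1447 F1445 (iv F2226) F2225 (iv F1540) (iv F2236) F2237 F1573 F2238 (iv F2229) (iv D946) D947 D1087 D1306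
def n1385 : Q := act 1 n1379
theorem D1385 : act 1 n1379 = n1385 := rfl
theorem F2398 : act 0 n1385 = n1385 := d0_1 D1385 (iv D1385) F2379 (iv F2365) F2364 F2354 (iv F2364) F2365 (iv F2379)
theorem F2399 : act 2 n1385 = n1382 := d5_2 D1379 D1385 (iv D1382) (iv D1299) (iv F1988)
theorem F2400 : act 5 n1385 = n1382 := d8_2 (iv F2380) D1385 (iv D1382) (iv F2368) F2365
def n1386 : Q := act 3 n1379
theorem D1386 : act 3 n1379 = n1386 := rfl
theorem F2401 : act 0 n1386 = n1381 := d2_1 D1386 (iv D1381) (iv F2379)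
theorem F2402 : act 2 n1386 = n1380 := d9_1 D1386 F2383 F2362 F2235 (iv D1065) D1066 D1271 D1381 F2386 (iv F2373) (iv D1377) (iv D1210) (iv F1943) D1267 D1379
theorem F2403 : act 5 n1386 = n1381 := d13_2 (iv F2380) D1386 (iv D1381)
theorem F2404 : act 4 n1379 = n1386 := d14_3 F2403 (iv F2387) (iv F2380)
def n1387 : Q := act 3 n1382
theorem D1387 : act 3 n1382 = n1387 := rfl
theorem F2405 : act 0 n1387 = n1387 := d2_1 D1387 (iv D1387) F2388
theorem F2406 : act 1 n1387 = n1383 := d6_1 D1387 (iv D1383) D1382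
theorem F2407 : act 4 n1382 = n1387 := d7_0 F2406 (iv F2392) D1382
def n1388 : Q := act 3 n1385
theorem D1388 : act 3 n1385 = n1388 := rfl
theorem F2408 : act 0 n1388 = n1388 := d2_1 D1388 (iv D1388) F2398
theorem F2409 : act 1 n1388 = n1386 := d6_1 D1388 (iv D1386) D1385
theorem F2410 : act 5 n1388 = n1387 := d13_2 (iv F2400) D1388 (iv D1387)
theorem F2411 : act 2 n1388 = n1387 := d17_4 F2407 (iv D1387) (iv F2399) D1388 F2406 (iv D1383) (iv D1299) (iv D1083) F2247 (iv F2256) F2257 F1584 (iv F1608) (iv F2288) (iv D977) D978 F1535 (iv D899) F817 (iv D331) (iv F485) (iv D309) (iv D182) F212 (iv F205) (iv D106) (iv D62) F81 D62 F1367 F103 (iv D28) (iv D15) F27 D15 D27 D47 (iv F1367) (iv D62) F81 (iv D36) D37 D63 F1335 (iv F193) (iv D94) F1351 F193 (iv F1335) (iv D63) (iv F128) D106 F206 F1382 F162 (iv F1382) F205 F133 (iv F212) D182 D309 D523 F780 (iv F817) D899 (iv F1535) (iv F1604) (iv F1605) F2288 F1608 (iv F1584) F1583 (iv F1594) (iv F2247) D1083 D1299 D1382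
theorem F2412 : act 4 n1385 = n1388 := d17_0 (iv D1388) F2399 D1387 (iv F2411) F2409 (iv D1386) (iv D1379) (iv D1267) F1943 (iv D1024) D1025 D1212 F1867 F1755 (iv D1003) (iv F1539) (iv D980) (iv D787) F709 (iv D283) (iv F402) (iv D245) (iv D144) F169 (iv F161) (iv D81) (iv D47) F66 D47 (iv F1367) F128 (iv D37) (iv F54) (iv F91) (iv F138) F1363 (iv F143) (iv F214) (iv F1334) (iv F1342) F215 (iv D66) (iv D38) (iv D21) (iv F45) (iv D17) D18 D32 (iv F108) (iv D49) (iv F103) D81 F162 (iv F1382) F206 F1382 F161 F110 (iv F169) D144 D245 D420 F639 (iv F709) D787 D980 F2290 (iv F2294) (iv F1755) (iv F1867) (iv D1212) (iv F1864) (iv D1210) (iv F1943) D1267 D1379 D1385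

end Cfsg.Agent.Helper17.SuzP1TC
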