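import Cfsg.Agent.Helper17.SuzP1TC.Final

set_option autoImplicit false
set_option linter.all false
set_option maxRecDepth 100000

noncomputable section

namespace Cfsg.Agent.Helper17.SuzP1TC

theorem N1 : nd 1 = n1 := ndS (p := 0) (l := 5) rfl N0 D1
theorem N2 : nd 2 = n2 := ndS (p := 1) (l := 1) rfl N1 D2
theorem N3 : nd 3 = n3 := ndS (p := 2) (l := 0) rfl N2 D3
theorem N4 : nd 4 = n4 := ndS (p := 2) (l := 2) rfl N2 D4
theorem N5 : nd 5 = n5 := ndS (p := 3) (l := 1) rfl N3 D5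
theorem N6 : nd 6 = n6 := ndS (p := 3) (l := 2) rfl N3 D6
theorem N7 : nd 7 = n7 := ndS (p := 4) (l := 3) rfl N4 D7
theorem N8 : nd 8 = n8 := ndS (p := 5) (l := 0) rfl N5 D8
theorem N9 : nd 9 = n9 := ndS (p := 5) (l := 2) rfl N5 D9
theorem N10 : nd 10 = n11 := ndS (p := 6) (l := 1) rfl N6 D11
theorem N11 : nd 11 = n12 := ndS (p := 6) (l := 3) rfl N6 D12
theorem N12 : nd 12 = n13 := ndS (p := 7) (l := 2) rfl N7 D13
theorem N13 : nd 13 = n14 := ndS (p := 7) (l := 4) rfl N7 D14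
theorem N14 : nd 14 = n15 := ndS (p := 8) (l := 2) rfl N8 D15
theorem N15 : nd 15 = n17 := ndS (p := 9) (l := 1) rfl N9 D17
theorem N16 : nd 16 = n18 := ndS (p := 9) (l := 3) rfl N9 D18
theorem N17 : nd 17 = n20 := ndS (p := 10) (l := 0) rfl N10 D20
theorem N18 : nd 18 = n21 := ndS (p := 10) (l := 3) rfl N10 D21
theorem N19 : nd 19 = n22 := ndS (p := 10) (l := 5) rfl N10 D22
theorem N20 : nd 20 = n23 := ndS (p := 11) (l := 2) rfl N11 D23
theorem N21 : nd 21 = n24 := ndS (p := 11) (l := 4) rfl N11 D24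
theorem N22 : nd 22 = n25 := ndS (p := 12) (l := 1) rfl N12 D25
theorem N23 : nd 23 = n26 := ndS (p := 12) (l := 4) rfl N12 D26
theorem N24 : nd 24 = n27 := ndS (p := 14) (l := 1) rfl N14 D27
theorem N25 : nd 25 = n28 := ndS (p := 14) (l := 3) rfl N14 D28
theorem N26 : nd 26 = n31 := ndS (p := 15) (l := 3) rfl N15 D31
theorem N27 : nd 27 = n32 := ndS (p := 16) (l := 2) rfl N16 D32
theorem N28 : nd 28 = n33 := ndS (p := 16) (l := 4) rfl N16 D33
theorem N29 : nd 29 = n36 := ndS (p := 17) (l := 1) rfl N17 D36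
theorem N30 : nd 30 = n37 := ndS (p := 17) (l := 3) rfl N17 D37
theorem N31 : nd 31 = n38 := ndS (p := 18) (l := 2) rfl N18 D38
theorem N32 : nd 32 = n39 := ndS (p := 18) (l := 4) rfl N18 D39
theorem N33 : nd 33 = n40 := ndS (p := 18) (l := 5) rfl N18 D40
theorem N34 : nd 34 = n41 := ndS (p := 20) (l := 1) rfl N20 D41
theorem N35 : nd 35 = n42 := ndS (p := 20) (l := 4) rfl N20 D42
theorem N36 : nd 36 = n43 := ndS (p := 22) (l := 0) rfl N22 D43
theorem N37 : nd 37 = n44 := ndS (p := 22) (l := 4) rfl N22 D44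
theorem N38 : nd 38 = n45 := ndS (p := 22) (l := 5) rfl N22 D45
theorem N39 : nd 39 = n46 := ndS (p := 23) (l := 3) rfl N23 D46
theorem N40 : nd 40 = n47 := ndS (p := 24) (l := 3) rfl N24 D47
theorem N41 : nd 41 = n49 := ndS (p := 25) (l := 2) rfl N25 D49
theorem N42 : nd 42 = n50 := ndS (p := 25) (l := 4) rfl N25 D50
theorem N43 : nd 43 = n55 := ndS (p := 26) (l := 2) rfl N26 D55
theorem N44 : nd 44 = n56 := ndS (p := 26) (l := 4) rfl N26 D56
theorem N45 : nd 45 = n57 := ndS (p := 27) (l := 1) rfl N27 D57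
theorem N46 : nd 46 = n58 := ndS (p := 27) (l := 4) rfl N27 D58
theorem N47 : nd 47 = n62 := ndS (p := 29) (l := 3) rfl N29 D62
theorem N48 : nd 48 = n63 := ndS (p := 30) (l := 2) rfl N30 D63
theorem N49 : nd 49 = n64 := ndS (p := 30) (l := 4) rfl N30 D64
theorem N50 : nd 50 = n65 := ndS (p := 31) (l := 1) rfl N31 D65
theorem N51 : nd 51 = n66 := ndS (p := 31) (l := 3) rfl N31 D66
theorem N52 : nd 52 = n67 := ndS (p := 31) (l := 4) rfl N31 D67
theorem N53 : nd 53 = n68 := ndS (p := 31) (l := 5) rfl N31 D68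
theorem N54 : nd 54 = n69 := ndS (p := 32) (l := 5) rfl N32 D69
theorem N55 : nd 55 = n70 := ndS (p := 34) (l := 0) rfl N34 D70
theorem N56 : nd 56 = n71 := ndS (p := 34) (l := 4) rfl N34 D71
theorem N57 : nd 57 = n72 := ndS (p := 34) (l := 5) rfl N34 D72
theorem N58 : nd 58 = n73 := ndS (p := 35) (l := 3) rfl N35 D73
theorem N59 : nd 59 = n75 := ndS (p := 36) (l := 4) rfl N36 D75
theorem N60 : nd 60 = n76 := ndS (p := 36) (l := 5) rfl N36 D76
theorem N61 : nd 61 = n77 := ndS (p := 37) (l := 3) rfl N37 D77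
theorem N62 : nd 62 = n78 := ndS (p := 37) (l := 5) rfl N37 D78
theorem N63 : nd 63 = n79 := ndS (p := 39) (l := 2) rfl N39 D79
theorem N64 : nd 64 = n81 := ndS (p := 40) (l := 4) rfl N40 D81
theorem N65 : nd 65 = n85 := ndS (p := 41) (l := 4) rfl N41 D85
theorem N66 : nd 66 = n94 := ndS (p := 43) (l := 1) rfl N43 D94
theorem N67 : nd 67 = n96 := ndS (p := 43) (l := 4) rfl N43 D96
theorem N68 : nd 68 = n98 := ndS (p := 45) (l := 4) rfl N45 D98
theorem N69 : nd 69 = n100 := ndS (p := 46) (l := 3) rfl N46 D100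
theorem N70 : nd 70 = n106 := ndS (p := 47) (l := 4) rfl N47 D106
theorem N71 : nd 71 = n109 := ndS (p := 48) (l := 4) rfl N48 D109
theorem N72 : nd 72 = n110 := ndS (p := 50) (l := 0) rfl N50 D110
theorem N73 : nd 73 = n111 := ndS (p := 50) (l := 3) rfl N50 D111
theorem N74 : nd 74 = n112 := ndS (p := 50) (l := 4) rfl N50 D112
theorem N75 : nd 75 = n113 := ndS (p := 50) (l := 5) rfl N50 D113
theorem N76 : nd 76 = n114 := ndS (p := 51) (l := 2) rfl N51 D114
theorem N77 : nd 77 = n115 := ndS (p := 51) (l := 4) rfl N51 D115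
theorem N78 : nd 78 = n116 := ndS (p := 52) (l := 3) rfl N52 D116
theorem N79 : nd 79 = n117 := ndS (p := 52) (l := 5) rfl N52 D117
theorem N80 : nd 80 = n120 := ndS (p := 55) (l := 4) rfl N55 D120
theorem N81 : nd 81 = n121 := ndS (p := 55) (l := 5) rfl N55 D121
theorem N82 : nd 82 = n122 := ndS (p := 56) (l := 3) rfl N56 D122
theorem N83 : nd 83 = n123 := ndS (p := 56) (l := 5) rfl N56 D123
theorem N84 : nd 84 = n124 := ndS (p := 58) (l := 2) rfl N58 D124
theorem N85 : nd 85 = n129 := ndS (p := 59) (l := 3) rfl N59 D129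
theorem N86 : nd 86 = n130 := ndS (p := 59) (l := 5) rfl N59 D130
theorem N87 : nd 87 = n132 := ndS (p := 61) (l := 2) rfl N61 D132
theorem N88 : nd 88 = n133 := ndS (p := 61) (l := 5) rfl N61 D133
theorem N89 : nd 89 = n134 := ndS (p := 63) (l := 1) rfl N63 D134
theorem N90 : nd 90 = n144 := ndS (p := 65) (l := 3) rfl N65 D144
theorem N91 : nd 91 = n157 := ndS (p := 66) (l := 4) rfl N66 D157
theorem N92 : nd 92 = n160 := ndS (p := 67) (l := 3) rfl N67 D160
theorem N93 : nd 93 = n164 := ndS (p := 68) (l := 3) rfl N68 D164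
theorem N94 : nd 94 = n167 := ndS (p := 69) (l := 2) rfl N69 D167
theorem N95 : nd 95 = n182 := ndS (p := 71) (l := 3) rfl N71 D182
theorem N96 : nd 96 = n183 := ndS (p := 72) (l := 1) rfl N72 D183
theorem N97 : nd 97 = n185 := ndS (p := 72) (l := 4) rfl N72 D185
theorem N98 : nd 98 = n186 := ndS (p := 72) (l := 5) rfl N72 D186
theorem N99 : nd 99 = n187 := ndS (p := 73) (l := 4) rfl N73 D187
theorem N100 : nd 100 = n188 := ndS (p := 73) (l := 5) rfl N73 D188
theorem N101 : nd 101 = n189 := ndS (p := 74) (l := 3) rfl N74 D189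
theorem N102 : nd 102 = n190 := ndS (p := 74) (l := 5) rfl N74 D190
theorem N103 : nd 103 = n193 := ndS (p := 76) (l := 4) rfl N76 D193
theorem N104 : nd 104 = n194 := ndS (p := 77) (l := 3) rfl N77 D194
theorem N105 : nd 105 = n195 := ndS (p := 78) (l := 2) rfl N78 D195
theorem N106 : nd 106 = n196 := ndS (p := 78) (l := 5) rfl N78 D196
theorem N107 : nd 107 = n203 := ndS (p := 80) (l := 3) rfl N80 D203
theorem N108 : nd 108 = n204 := ndS (p := 80) (l := 5) rfl N80 D204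
theorem N109 : nd 109 = n206 := ndS (p := 82) (l := 2) rfl N82 D206
theorem N110 : nd 110 = n207 := ndS (p := 82) (l := 5) rfl N82 D207
theorem N111 : nd 111 = n208 := ndS (p := 84) (l := 1) rfl N84 D208
theorem N112 : nd 112 = n218 := ndS (p := 85) (l := 2) rfl N85 D218
theorem N113 : nd 113 = n219 := ndS (p := 85) (l := 5) rfl N85 D219
theorem N114 : nd 114 = n223 := ndS (p := 87) (l := 1) rfl N87 D223
theorem N115 : nd 115 = n224 := ndS (p := 87) (l := 3) rfl N87 D224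
theorem N116 : nd 116 = n225 := ndS (p := 87) (l := 5) rfl N87 D225
theorem N117 : nd 117 = n226 := ndS (p := 89) (l := 0) rfl N89 D226
theorem N118 : nd 118 = n227 := ndS (p := 89) (l := 5) rfl N89 D227
theorem N119 : nd 119 = n245 := ndS (p := 90) (l := 2) rfl N90 D245
theorem N120 : nd 120 = n267 := ndS (p := 91) (l := 3) rfl N91 D267
theorem N121 : nd 121 = n270 := ndS (p := 92) (l := 2) rfl N92 D270
theorem N122 : nd 122 = n278 := ndS (p := 93) (l := 2) rfl N93 D278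
theorem N123 : nd 123 = n283 := ndS (p := 94) (l := 1) rfl N94 D283
theorem N124 : nd 124 = n309 := ndS (p := 95) (l := 2) rfl N95 D309
theorem N125 : nd 125 = n313 := ndS (p := 96) (l := 4) rfl N96 D313
theorem N126 : nd 126 = n314 := ndS (p := 96) (l := 5) rfl N96 D314
theorem N127 : nd 127 = n317 := ndS (p := 97) (l := 3) rfl N97 D317
theorem N128 : nd 128 = n318 := ndS (p := 97) (l := 5) rfl N97 D318
theorem N129 : nd 129 = n319 := ndS (p := 98) (l := 1) rfl N98 D319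
theorem N130 : nd 130 = n320 := ndS (p := 99) (l := 3) rfl N99 D320
theorem N131 : nd 131 = n321 := ndS (p := 99) (l := 5) rfl N99 D321
theorem N132 : nd 132 = n323 := ndS (p := 101) (l := 2) rfl N101 D323
theorem N133 : nd 133 = n324 := ndS (p := 101) (l := 5) rfl N101 D324
theorem N134 : nd 134 = n329 := ndS (p := 103) (l := 3) rfl N103 D329
theorem N135 : nd 135 = n330 := ndS (p := 104) (l := 2) rfl N104 D330
theorem N136 : nd 136 = n331 := ndS (p := 105) (l := 1) rfl N105 D331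
theorem N137 : nd 137 = n332 := ndS (p := 105) (l := 5) rfl N105 D332
theorem N138 : nd 138 = n344 := ndS (p := 107) (l := 2) rfl N107 D344
theorem N139 : nd 139 = n345 := ndS (p := 107) (l := 5) rfl N107 D345
theorem N140 : nd 140 = n349 := ndS (p := 109) (l := 1) rfl N109 D349
theorem N141 : nd 141 = n350 := ndS (p := 109) (l := 3) rfl N109 D350
theorem N142 : nd 142 = n351 := ndS (p := 109) (l := 5) rfl N109 D351
theorem N143 : nd 143 = n352 := ndS (p := 111) (l := 0) rfl N111 D352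
theorem N144 : nd 144 = n353 := ndS (p := 111) (l := 5) rfl N111 D353
theorem N145 : nd 145 = n371 := ndS (p := 112) (l := 1) rfl N112 D371
theorem N146 : nd 146 = n372 := ndS (p := 112) (l := 3) rfl N112 D372
theorem N147 : nd 147 = n373 := ndS (p := 112) (l := 5) rfl N112 D373
theorem N148 : nd 148 = n380 := ndS (p := 114) (l := 0) rfl N114 D380
theorem N149 : nd 149 = n381 := ndS (p := 114) (l := 3) rfl N114 D381
theorem N150 : nd 150 = n382 := ndS (p := 114) (l := 5) rfl N114 D382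
theorem N151 : nd 151 = n383 := ndS (p := 115) (l := 4) rfl N115 D383
theorem N152 : nd 152 = n384 := ndS (p := 115) (l := 5) rfl N115 D384
theorem N153 : nd 153 = n385 := ndS (p := 116) (l := 1) rfl N116 D385
theorem N154 : nd 154 = n386 := ndS (p := 117) (l := 1) rfl N117 D386
theorem N155 : nd 155 = n387 := ndS (p := 117) (l := 5) rfl N117 D387
theorem N156 : nd 156 = n420 := ndS (p := 119) (l := 1) rfl N119 D420
theorem N157 : nd 157 = n458 := ndS (p := 120) (l := 2) rfl N120 D458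
theorem N158 : nd 158 = n461 := ndS (p := 121) (l := 1) rfl N121 D461
theorem N159 : nd 159 = n470 := ndS (p := 122) (l := 1) rfl N122 D470
theorem N160 : nd 160 = n471 := ndS (p := 122) (l := 3) rfl N122 D471
theorem N161 : nd 161 = n479 := ndS (p := 123) (l := 0) rfl N123 D479
theorem N162 : nd 162 = n480 := ndS (p := 123) (l := 5) rfl N123 D480
theorem N163 : nd 163 = n523 := ndS (p := 124) (l := 1) rfl N124 D523
theorem N164 : nd 164 = n529 := ndS (p := 125) (l := 3) rfl N125 D529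
theorem N165 : nd 165 = n530 := ndS (p := 125) (l := 5) rfl N125 D530
theorem N166 : nd 166 = n531 := ndS (p := 126) (l := 1) rfl N126 D531
theorem N167 : nd 167 = n535 := ndS (p := 127) (l := 2) rfl N127 D535
theorem N168 : nd 168 = n536 := ndS (p := 127) (l := 5) rfl N127 D536
theorem N169 : nd 169 = n537 := ndS (p := 128) (l := 1) rfl N128 D537
theorem N170 : nd 170 = n540 := ndS (p := 130) (l := 2) rfl N130 D540
theorem N171 : nd 171 = n541 := ndS (p := 130) (l := 5) rfl N130 D541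
theorem N172 : nd 172 = n544 := ndS (p := 132) (l := 1) rfl N132 D544
theorem N173 : nd 173 = n545 := ndS (p := 132) (l := 3) rfl N132 D545
theorem N174 : nd 174 = n546 := ndS (p := 132) (l := 5) rfl N132 D546
theorem N175 : nd 175 = n553 := ndS (p := 134) (l := 2) rfl N134 D553
theorem N176 : nd 176 = n554 := ndS (p := 135) (l := 1) rfl N135 D554
theorem N177 : nd 177 = n555 := ndS (p := 135) (l := 3) rfl N135 D555
theorem N178 : nd 178 = n556 := ndS (p := 136) (l := 0) rfl N136 D556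
theorem N179 : nd 179 = n557 := ndS (p := 136) (l := 5) rfl N136 D557
theorem N180 : nd 180 = n558 := ndS (p := 137) (l := 1) rfl N137 D558
theorem N181 : nd 181 = n579 := ndS (p := 138) (l := 1) rfl N138 D579
theorem N182 : nd 182 = n580 := ndS (p := 138) (l := 3) rfl N138 D580
theorem N183 : nd 183 = n581 := ndS (p := 138) (l := 5) rfl N138 D581
theorem N184 : nd 184 = n588 := ndS (p := 140) (l := 0) rfl N140 D588
theorem N185 : nd 185 = n589 := ndS (p := 140) (l := 3) rfl N140 D589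
theorem N186 : nd 186 = n590 := ndS (p := 140) (l := 5) rfl N140 D590
theorem N187 : nd 187 = n591 := ndS (p := 141) (l := 2) rfl N141 D591
theorem N188 : nd 188 = n592 := ndS (p := 141) (l := 4) rfl N141 D592
theorem N189 : nd 189 = n593 := ndS (p := 141) (l := 5) rfl N141 D593
theorem N190 : nd 190 = n594 := ndS (p := 142) (l := 1) rfl N142 D594
theorem N191 : nd 191 = n595 := ndS (p := 143) (l := 1) rfl N143 D595
theorem N192 : nd 192 = n596 := ndS (p := 143) (l := 5) rfl N143 D596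
theorem N193 : nd 193 = n628 := ndS (p := 145) (l := 0) rfl N145 D628
theorem N194 : nd 194 = n629 := ndS (p := 145) (l := 3) rfl N145 D629
theorem N195 : nd 195 = n630 := ndS (p := 145) (l := 5) rfl N145 D630
theorem N196 : nd 196 = n631 := ndS (p := 146) (l := 4) rfl N146 D631
theorem N197 : nd 197 = n632 := ndS (p := 146) (l := 5) rfl N146 D632
theorem N198 : nd 198 = n633 := ndS (p := 147) (l := 1) rfl N147 D633
theorem N199 : nd 199 = n644 := ndS (p := 148) (l := 1) rfl N148 D644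
theorem N200 : nd 200 = n645 := ndS (p := 148) (l := 3) rfl N148 D645
theorem N201 : nd 201 = n646 := ndS (p := 148) (l := 5) rfl N148 D646
theorem N202 : nd 202 = n647 := ndS (p := 149) (l := 2) rfl N149 D647
theorem N203 : nd 203 = n648 := ndS (p := 149) (l := 4) rfl N149 D648
theorem N204 : nd 204 = n649 := ndS (p := 149) (l := 5) rfl N149 D649
theorem N205 : nd 205 = n650 := ndS (p := 150) (l := 1) rfl N150 D650
theorem N206 : nd 206 = n651 := ndS (p := 151) (l := 5) rfl N151 D651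
theorem N207 : nd 207 = n652 := ndS (p := 152) (l := 1) rfl N152 D652
theorem N208 : nd 208 = n654 := ndS (p := 154) (l := 0) rfl N154 D654
theorem N209 : nd 209 = n655 := ndS (p := 154) (l := 2) rfl N154 D655
theorem N210 : nd 210 = n656 := ndS (p := 154) (l := 5) rfl N154 D656
theorem N211 : nd 211 = n657 := ndS (p := 155) (l := 1) rfl N155 D657
theorem N212 : nd 212 = n771 := ndS (p := 157) (l := 1) rfl N157 D771
theorem N213 : nd 213 = n772 := ndS (p := 157) (l := 3) rfl N157 D772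
theorem N214 : nd 214 = n776 := ndS (p := 158) (l := 0) rfl N158 D776
theorem N215 : nd 215 = n777 := ndS (p := 158) (l := 5) rfl N158 D777
theorem N216 : nd 216 = n786 := ndS (p := 159) (l := 0) rfl N159 D786
theorem N217 : nd 217 = n787 := ndS (p := 159) (l := 3) rfl N159 D787
theorem N218 : nd 218 = n788 := ndS (p := 159) (l := 5) rfl N159 D788
theorem N219 : nd 219 = n789 := ndS (p := 160) (l := 2) rfl N160 D789
theorem N220 : nd 220 = n805 := ndS (p := 161) (l := 1) rfl N161 D805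
theorem N221 : nd 221 = n879 := ndS (p := 163) (l := 0) rfl N163 D879
theorem N222 : nd 222 = n880 := ndS (p := 163) (l := 5) rfl N163 D880
theorem N223 : nd 223 = n889 := ndS (p := 164) (l := 2) rfl N164 D889
theorem N224 : nd 224 = n890 := ndS (p := 164) (l := 5) rfl N164 D890
theorem N225 : nd 225 = n891 := ndS (p := 165) (l := 1) rfl N165 D891
theorem N226 : nd 226 = n892 := ndS (p := 167) (l := 1) rfl N167 D892
theorem N227 : nd 227 = n893 := ndS (p := 167) (l := 5) rfl N167 D893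
theorem N228 : nd 228 = n894 := ndS (p := 168) (l := 1) rfl N168 D894
theorem N229 : nd 229 = n895 := ndS (p := 170) (l := 1) rfl N170 D895
theorem N230 : nd 230 = n896 := ndS (p := 170) (l := 3) rfl N170 D896
theorem N231 : nd 231 = n897 := ndS (p := 170) (l := 5) rfl N170 D897
theorem N232 : nd 232 = n898 := ndS (p := 172) (l := 0) rfl N172 D898
theorem N233 : nd 233 = n899 := ndS (p := 172) (l := 3) rfl N172 D899
theorem N234 : nd 234 = n900 := ndS (p := 172) (l := 5) rfl N172 D900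
theorem N235 : nd 235 = n901 := ndS (p := 173) (l := 4) rfl N173 D901
theorem N236 : nd 236 = n902 := ndS (p := 173) (l := 5) rfl N173 D902
theorem N237 : nd 237 = n903 := ndS (p := 174) (l := 1) rfl N174 D903
theorem N238 : nd 238 = n904 := ndS (p := 175) (l := 1) rfl N175 D904
theorem N239 : nd 239 = n905 := ndS (p := 176) (l := 0) rfl N176 D905
theorem N240 : nd 240 = n906 := ndS (p := 176) (l := 3) rfl N176 D906
theorem N241 : nd 241 = n907 := ndS (p := 176) (l := 5) rfl N176 D907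
theorem N242 : nd 242 = n908 := ndS (p := 178) (l := 1) rfl N178 D908
theorem N243 : nd 243 = n909 := ndS (p := 178) (l := 5) rfl N178 D909
theorem N244 : nd 244 = n910 := ndS (p := 179) (l := 1) rfl N179 D910
theorem N245 : nd 245 = n911 := ndS (p := 180) (l := 0) rfl N180 D911
theorem N246 : nd 246 = n912 := ndS (p := 181) (l := 0) rfl N181 D912
theorem N247 : nd 247 = n913 := ndS (p := 181) (l := 3) rfl N181 D913
theorem N248 : nd 248 = n914 := ndS (p := 181) (l := 5) rfl N181 D914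
theorem N249 : nd 249 = n915 := ndS (p := 182) (l := 4) rfl N182 D915
theorem N250 : nd 250 = n916 := ndS (p := 182) (l := 5) rfl N182 D916
theorem N251 : nd 251 = n917 := ndS (p := 183) (l := 1) rfl N183 D917
theorem N252 : nd 252 = n918 := ndS (p := 184) (l := 1) rfl N184 D918
theorem N253 : nd 253 = n919 := ndS (p := 184) (l := 3) rfl N184 D919
theorem N254 : nd 254 = n920 := ndS (p := 184) (l := 5) rfl N184 D920
theorem N255 : nd 255 = n921 := ndS (p := 185) (l := 2) rfl N185 D921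
theorem N256 : nd 256 = n922 := ndS (p := 185) (l := 4) rfl N185 D922
theorem N257 : nd 257 = n923 := ndS (p := 185) (l := 5) rfl N185 D923
theorem N258 : nd 258 = n924 := ndS (p := 186) (l := 1) rfl N186 D924
theorem N259 : nd 259 = n925 := ndS (p := 187) (l := 1) rfl N187 D925
theorem N260 : nd 260 = n926 := ndS (p := 187) (l := 4) rfl N187 D926
theorem N261 : nd 261 = n927 := ndS (p := 187) (l := 5) rfl N187 D927
theorem N262 : nd 262 = n928 := ndS (p := 188) (l := 5) rfl N188 D928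
theorem N263 : nd 263 = n929 := ndS (p := 189) (l := 1) rfl N189 D929
theorem N264 : nd 264 = n932 := ndS (p := 191) (l := 2) rfl N191 D932
theorem N265 : nd 265 = n934 := ndS (p := 192) (l := 1) rfl N192 D934
theorem N266 : nd 266 = n935 := ndS (p := 193) (l := 1) rfl N193 D935
theorem N267 : nd 267 = n936 := ndS (p := 193) (l := 3) rfl N193 D936
theorem N268 : nd 268 = n937 := ndS (p := 193) (l := 5) rfl N193 D937
theorem N269 : nd 269 = n938 := ndS (p := 194) (l := 2) rfl N194 D938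
theorem N270 : nd 270 = n939 := ndS (p := 194) (l := 4) rfl N194 D939
theorem N271 : nd 271 = n941 := ndS (p := 195) (l := 1) rfl N195 D941
theorem N272 : nd 272 = n942 := ndS (p := 196) (l := 5) rfl N196 D942
theorem N273 : nd 273 = n943 := ndS (p := 197) (l := 1) rfl N197 D943
theorem N274 : nd 274 = n944 := ndS (p := 198) (l := 0) rfl N198 D944
theorem N275 : nd 275 = n945 := ndS (p := 199) (l := 0) rfl N199 D945
theorem N276 : nd 276 = n946 := ndS (p := 199) (l := 2) rfl N199 D946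
theorem N277 : nd 277 = n947 := ndS (p := 199) (l := 3) rfl N199 D947
theorem N278 : nd 278 = n948 := ndS (p := 199) (l := 5) rfl N199 D948
theorem N279 : nd 279 = n949 := ndS (p := 200) (l := 2) rfl N200 D949
theorem N280 : nd 280 = n950 := ndS (p := 200) (l := 4) rfl N200 D950
theorem N281 : nd 281 = n951 := ndS (p := 200) (l := 5) rfl N200 D951
theorem N282 : nd 282 = n952 := ndS (p := 201) (l := 1) rfl N201 D952
theorem N283 : nd 283 = n954 := ndS (p := 202) (l := 4) rfl N202 D954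
theorem N284 : nd 284 = n956 := ndS (p := 203) (l := 5) rfl N203 D956
theorem N285 : nd 285 = n957 := ndS (p := 204) (l := 1) rfl N204 D957
theorem N286 : nd 286 = n959 := ndS (p := 206) (l := 1) rfl N206 D959
theorem N287 : nd 287 = n967 := ndS (p := 210) (l := 1) rfl N210 D967
theorem N288 : nd 288 = n968 := ndS (p := 211) (l := 0) rfl N211 D968
theorem N289 : nd 289 = n969 := ndS (p := 211) (l := 2) rfl N211 D969
theorem N290 : nd 290 = n973 := ndS (p := 212) (l := 3) rfl N212 D973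
theorem N291 : nd 291 = n977 := ndS (p := 216) (l := 1) rfl N216 D977
theorem N292 : nd 292 = n978 := ndS (p := 216) (l := 3) rfl N216 D978
theorem N293 : nd 293 = n980 := ndS (p := 217) (l := 2) rfl N217 D980
theorem N294 : nd 294 = n981 := ndS (p := 217) (l := 5) rfl N217 D981
theorem N295 : nd 295 = n982 := ndS (p := 219) (l := 1) rfl N219 D982
theorem N296 : nd 296 = n983 := ndS (p := 220) (l := 0) rfl N220 D983
theorem N297 : nd 297 = n984 := ndS (p := 220) (l := 2) rfl N220 D984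
theorem N298 : nd 298 = n987 := ndS (p := 221) (l := 1) rfl N221 D987
theorem N299 : nd 299 = n989 := ndS (p := 223) (l := 1) rfl N223 D989
theorem N300 : nd 300 = n990 := ndS (p := 223) (l := 3) rfl N223 D990
theorem N301 : nd 301 = n991 := ndS (p := 223) (l := 5) rfl N223 D991
theorem N302 : nd 302 = n992 := ndS (p := 224) (l := 1) rfl N224 D992
theorem N303 : nd 303 = n993 := ndS (p := 226) (l := 0) rfl N226 D993
theorem N304 : nd 304 = n997 := ndS (p := 229) (l := 0) rfl N229 D997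
theorem N305 : nd 305 = n998 := ndS (p := 229) (l := 3) rfl N229 D998
theorem N306 : nd 306 = n999 := ndS (p := 229) (l := 5) rfl N229 D999
theorem N307 : nd 307 = n1000 := ndS (p := 230) (l := 4) rfl N230 D1000
theorem N308 : nd 308 = n1001 := ndS (p := 230) (l := 5) rfl N230 D1001
theorem N309 : nd 309 = n1002 := ndS (p := 231) (l := 1) rfl N231 D1002
theorem N310 : nd 310 = n1003 := ndS (p := 232) (l := 1) rfl N232 D1003
theorem N311 : nd 311 = n1004 := ndS (p := 232) (l := 5) rfl N232 D1004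
theorem N312 : nd 312 = n1011 := ndS (p := 238) (l := 0) rfl N238 D1011
theorem N313 : nd 313 = n1012 := ndS (p := 238) (l := 5) rfl N238 D1012
theorem N314 : nd 314 = n1013 := ndS (p := 239) (l := 1) rfl N239 D1013
theorem N315 : nd 315 = n1014 := ndS (p := 239) (l := 3) rfl N239 D1014
theorem N316 : nd 316 = n1015 := ndS (p := 239) (l := 5) rfl N239 D1015
theorem N317 : nd 317 = n1016 := ndS (p := 240) (l := 2) rfl N240 D1016
theorem N318 : nd 318 = n1017 := ndS (p := 240) (l := 5) rfl N240 D1017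
theorem N319 : nd 319 = n1018 := ndS (p := 242) (l := 0) rfl N242 D1018
theorem N320 : nd 320 = n1019 := ndS (p := 242) (l := 2) rfl N242 D1019
theorem N321 : nd 321 = n1024 := ndS (p := 246) (l := 1) rfl N246 D1024
theorem N322 : nd 322 = n1025 := ndS (p := 246) (l := 3) rfl N246 D1025
theorem N323 : nd 323 = n1026 := ndS (p := 246) (l := 5) rfl N246 D1026
theorem N324 : nd 324 = n1027 := ndS (p := 247) (l := 2) rfl N247 D1027
theorem N325 : nd 325 = n1028 := ndS (p := 247) (l := 4) rfl N247 D1028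
theorem N326 : nd 326 = n1029 := ndS (p := 247) (l := 5) rfl N247 D1029
theorem N327 : nd 327 = n1030 := ndS (p := 248) (l := 1) rfl N248 D1030
theorem N328 : nd 328 = n1031 := ndS (p := 249) (l := 5) rfl N249 D1031
theorem N329 : nd 329 = n1032 := ndS (p := 250) (l := 1) rfl N250 D1032
theorem N330 : nd 330 = n1033 := ndS (p := 251) (l := 0) rfl N251 D1033
theorem N331 : nd 331 = n1034 := ndS (p := 252) (l := 0) rfl N252 D1034
theorem N332 : nd 332 = n1035 := ndS (p := 252) (l := 2) rfl N252 D1035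
theorem N333 : nd 333 = n1038 := ndS (p := 253) (l := 4) rfl N253 D1038
theorem N334 : nd 334 = n1041 := ndS (p := 255) (l := 1) rfl N255 D1041
theorem N335 : nd 335 = n1042 := ndS (p := 255) (l := 4) rfl N255 D1042
theorem N336 : nd 336 = n1044 := ndS (p := 256) (l := 5) rfl N256 D1044
theorem N337 : nd 337 = n1045 := ndS (p := 257) (l := 1) rfl N257 D1045
theorem N338 : nd 338 = n1047 := ndS (p := 259) (l := 0) rfl N259 D1047
theorem N339 : nd 339 = n1048 := ndS (p := 259) (l := 4) rfl N259 D1048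
theorem N340 : nd 340 = n1050 := ndS (p := 260) (l := 3) rfl N260 D1050
theorem N341 : nd 341 = n1051 := ndS (p := 260) (l := 5) rfl N260 D1051
theorem N342 : nd 342 = n1053 := ndS (p := 262) (l := 1) rfl N262 D1053
theorem N343 : nd 343 = n1062 := ndS (p := 265) (l := 0) rfl N265 D1062
theorem N344 : nd 344 = n1064 := ndS (p := 266) (l := 0) rfl N266 D1064
theorem N345 : nd 345 = n1065 := ndS (p := 266) (l := 2) rfl N266 D1065
theorem N346 : nd 346 = n1066 := ndS (p := 266) (l := 3) rfl N266 D1066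
theorem N347 : nd 347 = n1068 := ndS (p := 267) (l := 2) rfl N267 D1068
theorem N348 : nd 348 = n1069 := ndS (p := 267) (l := 4) rfl N267 D1069
theorem N349 : nd 349 = n1073 := ndS (p := 269) (l := 4) rfl N269 D1073
theorem N350 : nd 350 = n1078 := ndS (p := 272) (l := 1) rfl N272 D1078
theorem N351 : nd 351 = n1079 := ndS (p := 273) (l := 0) rfl N273 D1079
theorem N352 : nd 352 = n1083 := ndS (p := 275) (l := 3) rfl N275 D1083
theorem N353 : nd 353 = n1087 := ndS (p := 277) (l := 2) rfl N277 D1087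
theorem N354 : nd 354 = n1088 := ndS (p := 277) (l := 4) rfl N277 D1088
theorem N355 : nd 355 = n1089 := ndS (p := 277) (l := 5) rfl N277 D1089
theorem N356 : nd 356 = n1091 := ndS (p := 279) (l := 1) rfl N279 D1091
theorem N357 : nd 357 = n1092 := ndS (p := 279) (l := 4) rfl N279 D1092
theorem N358 : nd 358 = n1094 := ndS (p := 280) (l := 5) rfl N280 D1094
theorem N359 : nd 359 = n1095 := ndS (p := 281) (l := 1) rfl N281 D1095
theorem N360 : nd 360 = n1100 := ndS (p := 283) (l := 3) rfl N283 D1100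
theorem N361 : nd 361 = n1103 := ndS (p := 284) (l := 1) rfl N284 D1103
theorem N362 : nd 362 = n1123 := ndS (p := 287) (l := 0) rfl N287 D1123
theorem N363 : nd 363 = n1125 := ndS (p := 288) (l := 1) rfl N288 D1125
theorem N364 : nd 364 = n1126 := ndS (p := 288) (l := 2) rfl N288 D1126
theorem N365 : nd 365 = n1141 := ndS (p := 291) (l := 0) rfl N291 D1141
theorem N366 : nd 366 = n1150 := ndS (p := 296) (l := 2) rfl N296 D1150
theorem N367 : nd 367 = n1156 := ndS (p := 298) (l := 0) rfl N298 D1156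
theorem N368 : nd 368 = n1157 := ndS (p := 298) (l := 2) rfl N298 D1157
theorem N369 : nd 369 = n1158 := ndS (p := 298) (l := 5) rfl N298 D1158
theorem N370 : nd 370 = n1160 := ndS (p := 299) (l := 0) rfl N299 D1160
theorem N371 : nd 371 = n1161 := ndS (p := 299) (l := 3) rfl N299 D1161
theorem N372 : nd 372 = n1163 := ndS (p := 300) (l := 5) rfl N300 D1163
theorem N373 : nd 373 = n1171 := ndS (p := 304) (l := 1) rfl N304 D1171
theorem N374 : nd 374 = n1172 := ndS (p := 304) (l := 3) rfl N304 D1172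
theorem N375 : nd 375 = n1173 := ndS (p := 304) (l := 5) rfl N304 D1173
theorem N376 : nd 376 = n1174 := ndS (p := 305) (l := 2) rfl N305 D1174
theorem N377 : nd 377 = n1182 := ndS (p := 311) (l := 1) rfl N311 D1182
theorem N378 : nd 378 = n1196 := ndS (p := 317) (l := 3) rfl N317 D1196
theorem N379 : nd 379 = n1199 := ndS (p := 320) (l := 3) rfl N320 D1199
theorem N380 : nd 380 = n1210 := ndS (p := 321) (l := 3) rfl N321 D1210
theorem N381 : nd 381 = n1212 := ndS (p := 322) (l := 2) rfl N322 D1212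
theorem N382 : nd 382 = n1213 := ndS (p := 322) (l := 4) rfl N322 D1213
theorem N383 : nd 383 = n1221 := ndS (p := 329) (l := 0) rfl N329 D1221
theorem N384 : nd 384 = n1240 := ndS (p := 336) (l := 1) rfl N336 D1240
theorem N385 : nd 385 = n1245 := ndS (p := 339) (l := 3) rfl N339 D1245
theorem N386 : nd 386 = n1248 := ndS (p := 340) (l := 5) rfl N340 D1248
theorem N387 : nd 387 = n1264 := ndS (p := 343) (l := 1) rfl N343 D1264
theorem N388 : nd 388 = n1267 := ndS (p := 344) (l := 3) rfl N344 D1267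
theorem N389 : nd 389 = n1271 := ndS (p := 346) (l := 2) rfl N346 D1271
theorem N390 : nd 390 = n1272 := ndS (p := 346) (l := 4) rfl N346 D1272
theorem N391 : nd 391 = n1275 := ndS (p := 347) (l := 4) rfl N347 D1275
theorem N392 : nd 392 = n1289 := ndS (p := 350) (l := 0) rfl N350 D1289
theorem N393 : nd 393 = n1299 := ndS (p := 352) (l := 2) rfl N352 D1299
theorem N394 : nd 394 = n1300 := ndS (p := 352) (l := 4) rfl N352 D1300
theorem N395 : nd 395 = n1306 := ndS (p := 353) (l := 1) rfl N353 D1306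
theorem N396 : nd 396 = n1307 := ndS (p := 353) (l := 3) rfl N353 D1307
theorem N397 : nd 397 = n1308 := ndS (p := 353) (l := 5) rfl N353 D1308
theorem N398 : nd 398 = n1313 := ndS (p := 356) (l := 4) rfl N356 D1313
theorem N399 : nd 399 = n1315 := ndS (p := 357) (l := 3) rfl N357 D1315
theorem N400 : nd 400 = n1373 := ndS (p := 371) (l := 2) rfl N371 D1373
theorem N401 : nd 401 = n1374 := ndS (p := 374) (l := 2) rfl N374 D1374
theorem N402 : nd 402 = n1375 := ndS (p := 375) (l := 1) rfl N375 D1375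
theorem N403 : nd 403 = n1376 := ndS (p := 378) (l := 2) rfl N378 D1376
theorem N404 : nd 404 = n1377 := ndS (p := 380) (l := 2) rfl N380 D1377
theorem N405 : nd 405 = n1378 := ndS (p := 385) (l := 2) rfl N385 D1378
theorem N406 : nd 406 = n1379 := ndS (p := 388) (l := 2) rfl N388 D1379
theorem N407 : nd 407 = n1380 := ndS (p := 388) (l := 4) rfl N388 D1380
theorem N408 : nd 408 = n1381 := ndS (p := 389) (l := 3) rfl N389 D1381
theorem N409 : nd 409 = n1382 := ndS (p := 393) (l := 1) rfl N393 D1382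
theorem N410 : nd 410 = n1383 := ndS (p := 393) (l := 3) rfl N393 D1383
theorem N411 : nd 411 = n1384 := ndS (p := 395) (l := 3) rfl N395 D1384
theorem N412 : nd 412 = n1385 := ndS (p := 406) (l := 1) rfl N406 D1385
theorem N413 : nd 413 = n1386 := ndS (p := 406) (l := 3) rfl N406 D1386
theorem N414 : nd 414 = n1387 := ndS (p := 409) (l := 3) rfl N409 D1387
theorem N415 : nd 415 = n1388 := ndS (p := 412) (l := 3) rfl N412 D1388
theorem Q1 : ∀ i, i < 1 → P i := stepQ 0 Q0 (allL N0 (tt N0 F1) (tt N0 F2) (tt N0 F3) (tt N0 F4) (tt N0 F5) (tt N1 D1))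
theorem Q2 : ∀ i, i < 2 → P i := stepQ 1 Q1 (allL N1 (tt N1 F6) (tt N2 D2) (tt N1 F7) (tt N1 F8) (tt N1 F9) (tt N0 (iv D1)))
theorem Q3 : ∀ i, i < 3 → P i := stepQ 2 Q2 (allL N2 (tt N3 D3) (tt N1 (iv D2)) (tt N4 D4) (tt N2 F10) (tt N2 F11) (tt N2 F12))
theorem Q4 : ∀ i, i < 4 → P i := stepQ 3 Q3 (allL N3 (tt N2 (iv D3)) (tt N5 D5) (tt N6 D6) (tt N3 F13) (tt N3 F14) (tt N3 F15))
theorem Q5 : ∀ i, i < 5 → P i := stepQ 4 Q4 (allL N4 (tt N6 (iv F21)) (tt N4 F16) (tt N2 (iv D4)) (tt N7 D7) (tt N4 F17) (tt N4 F18))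
theorem Q6 : ∀ i, i < 6 → P i := stepQ 5 Q5 (allL N5 (tt N8 D8) (tt N3 (iv D5)) (tt N9 D9) (tt N5 F19) (tt N5 F20) (tt N8 F1401))
theorem Q7 : ∀ i, i < 7 → P i := stepQ 6 Q6 (allL N6 (tt N4 F21) (tt N10 D11) (tt N3 (iv D6)) (tt N11 D12) (tt N6 F22) (tt N6 F23))
theorem Q8 : ∀ i, i < 8 → P i := stepQ 7 Q7 (allL N7 (tt N11 (iv F34)) (tt N7 F24) (tt N12 D13) (tt N4 (iv D7)) (tt N13 D14) (tt N7 F25))
theorem Q9 : ∀ i, i < 9 → P i := stepQ 8 Q8 (allL N8 (tt N5 (iv D8)) (tt N8 F26) (tt N14 D15) (tt N8 F27) (tt N8 F28) (tt N5 (iv F1401)))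
theorem Q10 : ∀ i, i < 10 → P i := stepQ 9 Q9 (allL N9 (tt N14 (iv F40)) (tt N15 D17) (tt N5 (iv D9)) (tt N16 D18) (tt N9 F29) (tt N14 F1390))
theorem Q11 : ∀ i, i < 11 → P i := stepQ 10 Q10 (allL N10 (tt N17 D20) (tt N6 (iv D11)) (tt N15 (iv F45)) (tt N18 D21) (tt N10 F33) (tt N19 D22))
theorem Q12 : ∀ i, i < 12 → P i := stepQ 11 Q11 (allL N11 (tt N7 F34) (tt N18 (iv F51)) (tt N20 D23) (tt N6 (iv D12)) (tt N21 D24) (tt N11 F35))
theorem Q13 : ∀ i, i < 13 → P i := stepQ 12 Q12 (allL N12 (tt N20 (iv F56)) (tt N22 D25) (tt N7 (iv D13)) (tt N20 (iv F58)) (tt N23 D26) (tt N12 F36))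
theorem Q14 : ∀ i, i < 14 → P i := stepQ 13 Q13 (allL N13 (tt N21 (iv F59)) (tt N13 F37) (tt N23 (iv F63)) (tt N13 F38) (tt N7 (iv D14)) (tt N13 F39))
theorem Q15 : ∀ i, i < 15 → P i := stepQ 14 Q14 (allL N14 (tt N9 F40) (tt N24 D27) (tt N8 (iv D15)) (tt N25 D28) (tt N14 F41) (tt N9 (iv F1390)))
theorem Q16 : ∀ i, i < 16 → P i := stepQ 15 Q15 (allL N15 (tt N19 (iv F52)) (tt N9 (iv D17)) (tt N10 F45) (tt N26 D31) (tt N15 F46) (tt N17 (iv F50)))
theorem Q17 : ∀ i, i < 17 → P i := stepQ 16 Q16 (allL N16 (tt N25 (iv F68)) (tt N26 (iv F75)) (tt N27 D32) (tt N9 (iv D18)) (tt N28 D33) (tt N25 F1384))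
theorem Q18 : ∀ i, i < 18 → P i := stepQ 17 Q17 (allL N17 (tt N10 (iv D20)) (tt N29 D36) (tt N19 (iv F54)) (tt N30 D37) (tt N17 F49) (tt N15 F50))
theorem Q19 : ∀ i, i < 19 → P i := stepQ 18 Q18 (allL N18 (tt N30 (iv F85)) (tt N11 F51) (tt N31 D38) (tt N10 (iv D21)) (tt N32 D39) (tt N33 D40))
theorem Q20 : ∀ i, i < 20 → P i := stepQ 19 Q19 (allL N19 (tt N15 F52) (tt N19 F53) (tt N17 F54) (tt N33 (iv F91)) (tt N19 F55) (tt N10 (iv D22)))
theorem Q21 : ∀ i, i < 21 → P i := stepQ 20 Q20 (allL N20 (tt N12 F56) (tt N34 D41) (tt N11 (iv D23)) (tt N12 F58) (tt N35 D42) (tt N20 F57))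
theorem Q22 : ∀ i, i < 22 → P i := stepQ 21 Q21 (allL N21 (tt N13 F59) (tt N32 (iv F87)) (tt N35 (iv F94)) (tt N21 F60) (tt N11 (iv D24)) (tt N21 F61))
theorem Q23 : ∀ i, i < 23 → P i := stepQ 22 Q22 (allL N22 (tt N36 D43) (tt N12 (iv D25)) (tt N22 F62) (tt N34 (iv F92)) (tt N37 D44) (tt N38 D45))
theorem Q24 : ∀ i, i < 24 → P i := stepQ 23 Q23 (allL N23 (tt N35 (iv F93)) (tt N37 (iv F97)) (tt N13 F63) (tt N39 D46) (tt N12 (iv D26)) (tt N23 F64))
theorem Q25 : ∀ i, i < 25 → P i := stepQ 24 Q24 (allL N24 (tt N24 F65) (tt N14 (iv D27)) (tt N24 F66) (tt N40 D47) (tt N24 F67) (tt N29 F1405))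
theorem Q26 : ∀ i, i < 26 → P i := stepQ 25 Q25 (allL N25 (tt N16 F68) (tt N40 (iv F103)) (tt N41 D49) (tt N14 (iv D28)) (tt N42 D50) (tt N16 (iv F1384)))
theorem Q27 : ∀ i, i < 27 → P i := stepQ 26 Q26 (allL N26 (tt N33 (iv F89)) (tt N16 F75) (tt N43 D55) (tt N15 (iv D31)) (tt N44 D56) (tt N30 (iv F86)))
theorem Q28 : ∀ i, i < 28 → P i := stepQ 27 Q27 (allL N27 (tt N41 (iv F107)) (tt N45 D57) (tt N16 (iv D32)) (tt N41 (iv F108)) (tt N46 D58) (tt N41 F1366))
theorem Q29 : ∀ i, i < 29 → P i := stepQ 28 Q28 (allL N28 (tt N42 (iv F109)) (tt N44 (iv F119)) (tt N46 (iv F121)) (tt N28 F76) (tt N16 (iv D33)) (tt N42 F1391))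
theorem Q30 : ∀ i, i < 30 → P i := stepQ 29 Q29 (allL N29 (tt N29 F80) (tt N17 (iv D36)) (tt N29 F81) (tt N47 D62) (tt N29 F82) (tt N24 (iv F1405)))
theorem Q31 : ∀ i, i < 31 → P i := stepQ 30 Q30 (allL N30 (tt N18 F85) (tt N47 (iv F128)) (tt N48 D63) (tt N17 (iv D37)) (tt N49 D64) (tt N26 F86))
theorem Q32 : ∀ i, i < 32 → P i := stepQ 31 Q31 (allL N31 (tt N48 (iv F130)) (tt N50 D65) (tt N18 (iv D38)) (tt N51 D66) (tt N52 D67) (tt N53 D68))
theorem Q33 : ∀ i, i < 33 → P i := stepQ 32 Q32 (allL N32 (tt N49 (iv F132)) (tt N21 F87) (tt N52 (iv F136)) (tt N32 F88) (tt N18 (iv D39)) (tt N54 D69))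
theorem Q34 : ∀ i, i < 34 → P i := stepQ 33 Q33 (allL N33 (tt N26 F89) (tt N33 F90) (tt N53 (iv F138)) (tt N19 F91) (tt N54 (iv F142)) (tt N18 (iv D40)))
theorem Q35 : ∀ i, i < 35 → P i := stepQ 34 Q34 (allL N34 (tt N55 D70) (tt N20 (iv D41)) (tt N50 (iv F135)) (tt N22 F92) (tt N56 D71) (tt N57 D72))
theorem Q36 : ∀ i, i < 36 → P i := stepQ 35 Q35 (allL N35 (tt N23 F93) (tt N56 (iv F144)) (tt N21 F94) (tt N58 D73) (tt N20 (iv D42)) (tt N35 F95))
theorem Q37 : ∀ i, i < 37 → P i := stepQ 36 Q36 (allL N36 (tt N22 (iv D43)) (tt N53 (iv F1363)) (tt N36 F96) (tt N55 (iv F143)) (tt N59 D75) (tt N60 D76))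
theorem Q38 : ∀ i, i < 38 → P i := stepQ 37 Q37 (allL N37 (tt N59 (iv F150)) (tt N23 F97) (tt N37 F98) (tt N61 D77) (tt N22 (iv D44)) (tt N62 D78))
theorem Q39 : ∀ i, i < 39 → P i := stepQ 38 Q38 (allL N38 (tt N60 (iv F152)) (tt N38 F99) (tt N38 F100) (tt N57 (iv F146)) (tt N62 (iv F157)) (tt N22 (iv D45)))
theorem Q40 : ∀ i, i < 40 → P i := stepQ 39 Q39 (allL N39 (tt N58 (iv F147)) (tt N61 (iv F154)) (tt N63 D79) (tt N23 (iv D46)) (tt N58 (iv F148)) (tt N39 F101))
theorem Q41 : ∀ i, i < 41 → P i := stepQ 40 Q40 (allL N40 (tt N40 F102) (tt N25 F103) (tt N47 (iv F1367)) (tt N24 (iv D47)) (tt N64 D81) (tt N47 (iv F1394)))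
theorem Q42 : ∀ i, i < 42 → P i := stepQ 41 Q41 (allL N41 (tt N27 F107) (tt N48 F1340) (tt N25 (iv D49)) (tt N27 F108) (tt N65 D85) (tt N27 (iv F1366)))
theorem Q43 : ∀ i, i < 43 → P i := stepQ 42 Q42 (allL N42 (tt N28 F109) (tt N64 (iv F161)) (tt N65 (iv F169)) (tt N42 F110) (tt N25 (iv D50)) (tt N28 (iv F1391)))
theorem Q44 : ∀ i, i < 44 → P i := stepQ 43 Q43 (allL N43 (tt N53 (iv F137)) (tt N66 D94) (tt N26 (iv D55)) (tt N66 F1351) (tt N67 D96) (tt N48 (iv F131)))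
theorem Q45 : ∀ i, i < 45 → P i := stepQ 44 Q44 (allL N44 (tt N54 (iv F139)) (tt N28 F119) (tt N67 (iv F194)) (tt N44 F120) (tt N26 (iv D56)) (tt N49 (iv F134)))
theorem Q46 : ∀ i, i < 46 → P i := stepQ 45 Q45 (allL N45 (tt N51 F1327) (tt N27 (iv D57)) (tt N66 (iv F193)) (tt N48 (iv F1335)) (tt N68 D98) (tt N66 F1328))
theorem Q47 : ∀ i, i < 47 → P i := stepQ 46 Q46 (allL N46 (tt N65 (iv F168)) (tt N68 (iv F195)) (tt N28 F121) (tt N69 D100) (tt N27 (iv D58)) (tt N65 F1377))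
theorem Q48 : ∀ i, i < 48 → P i := stepQ 47 Q47 (allL N47 (tt N47 F127) (tt N30 F128) (tt N40 F1367) (tt N29 (iv D62)) (tt N70 D106) (tt N40 F1394))
theorem Q49 : ∀ i, i < 49 → P i := stepQ 48 Q48 (allL N48 (tt N31 F130) (tt N41 (iv F1340)) (tt N30 (iv D63)) (tt N45 F1335) (tt N71 D109) (tt N43 F131))
theorem Q50 : ∀ i, i < 50 → P i := stepQ 49 Q49 (allL N49 (tt N32 F132) (tt N70 (iv F205)) (tt N71 (iv F212)) (tt N49 F133) (tt N30 (iv D64)) (tt N44 F134))
theorem Q51 : ∀ i, i < 51 → P i := stepQ 50 Q50 (allL N50 (tt N72 D110) (tt N31 (iv D65)) (tt N34 F135) (tt N73 D111) (tt N74 D112) (tt N75 D113))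
theorem Q52 : ∀ i, i < 52 → P i := stepQ 51 Q51 (allL N51 (tt N45 (iv F1327)) (tt N73 (iv F215)) (tt N76 D114) (tt N31 (iv D66)) (tt N77 D115) (tt N76 F221))
theorem Q53 : ∀ i, i < 53 → P i := stepQ 52 Q52 (allL N52 (tt N71 (iv F211)) (tt N74 (iv F216)) (tt N32 F136) (tt N78 D116) (tt N31 (iv D67)) (tt N79 D117))
theorem Q54 : ∀ i, i < 54 → P i := stepQ 53 Q53 (allL N53 (tt N43 F137) (tt N36 F1363) (tt N33 F138) (tt N76 (iv F220)) (tt N79 (iv F224)) (tt N31 (iv D68)))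
theorem Q55 : ∀ i, i < 55 → P i := stepQ 54 Q54 (allL N54 (tt N44 F139) (tt N54 F140) (tt N79 (iv F223)) (tt N54 F141) (tt N33 F142) (tt N32 (iv D69)))
theorem Q56 : ∀ i, i < 56 → P i := stepQ 55 Q55 (allL N55 (tt N34 (iv D70)) (tt N76 (iv F1347)) (tt N72 (iv F214)) (tt N36 F143) (tt N80 D120) (tt N81 D121))
theorem Q57 : ∀ i, i < 57 → P i := stepQ 56 Q56 (allL N56 (tt N80 (iv F227)) (tt N35 F144) (tt N74 (iv F217)) (tt N82 D122) (tt N34 (iv D71)) (tt N83 D123))
theorem Q58 : ∀ i, i < 58 → P i := stepQ 57 Q57 (allL N57 (tt N81 (iv F228)) (tt N57 F145) (tt N75 (iv F218)) (tt N38 F146) (tt N83 (iv F233)) (tt N34 (iv D72)))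
theorem Q59 : ∀ i, i < 59 → P i := stepQ 58 Q58 (allL N58 (tt N39 F147) (tt N82 (iv F230)) (tt N84 D124) (tt N35 (iv D73)) (tt N39 F148) (tt N58 F149))
theorem Q60 : ∀ i, i < 60 → P i := stepQ 59 Q59 (allL N59 (tt N37 F150) (tt N79 (iv F1378)) (tt N59 F151) (tt N85 D129) (tt N36 (iv D75)) (tt N86 D130))
theorem Q61 : ∀ i, i < 61 → P i := stepQ 60 Q60 (allL N60 (tt N38 F152) (tt N75 (iv F1343)) (tt N60 F153) (tt N81 (iv F229)) (tt N86 (iv F243)) (tt N36 (iv D76)))
theorem Q62 : ∀ i, i < 62 → P i := stepQ 61 Q61 (allL N61 (tt N85 (iv F240)) (tt N39 F154) (tt N87 D132) (tt N37 (iv D77)) (tt N82 (iv F231)) (tt N88 D133))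
theorem Q63 : ∀ i, i < 63 → P i := stepQ 62 Q62 (allL N62 (tt N86 (iv F241)) (tt N62 F155) (tt N62 F156) (tt N88 (iv F245)) (tt N38 F157) (tt N37 (iv D78)))
theorem Q64 : ∀ i, i < 64 → P i := stepQ 63 Q63 (allL N63 (tt N84 (iv F234)) (tt N89 D134) (tt N39 (iv D79)) (tt N84 (iv F237)) (tt N84 (iv F235)) (tt N63 F158))
theorem Q65 : ∀ i, i < 65 → P i := stepQ 64 Q64 (allL N64 (tt N64 F160) (tt N42 F161) (tt N70 (iv F1382)) (tt N64 F162) (tt N40 (iv D81)) (tt N70 (iv F1408)))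
theorem Q66 : ∀ i, i < 66 → P i := stepQ 65 Q65 (allL N65 (tt N46 F168) (tt N71 F1353) (tt N42 F169) (tt N90 D144) (tt N41 (iv D85)) (tt N46 (iv F1377)))
theorem Q67 : ∀ i, i < 67 → P i := stepQ 66 Q66 (allL N66 (tt N76 F1337) (tt N43 (iv D94)) (tt N45 F193) (tt N43 (iv F1351)) (tt N91 D157) (tt N45 (iv F1328)))
theorem Q68 : ∀ i, i < 68 → P i := stepQ 67 Q67 (allL N67 (tt N79 (iv F222)) (tt N91 (iv F287)) (tt N44 F194) (tt N92 D160) (tt N43 (iv D96)) (tt N71 (iv F213)))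
theorem Q69 : ∀ i, i < 69 → P i := stepQ 68 Q68 (allL N68 (tt N77 F1336) (tt N46 F195) (tt N91 (iv F288)) (tt N93 D164) (tt N45 (iv D98)) (tt N91 F1338))
theorem Q70 : ∀ i, i < 70 → P i := stepQ 69 Q69 (allL N69 (tt N90 (iv F261)) (tt N93 (iv F292)) (tt N94 D167) (tt N46 (iv D100)) (tt N90 (iv F262)) (tt N90 F1392))
theorem Q71 : ∀ i, i < 71 → P i := stepQ 70 Q70 (allL N70 (tt N70 F204) (tt N49 F205) (tt N64 F1382) (tt N70 F206) (tt N47 (iv D106)) (tt N64 F1408))
theorem Q72 : ∀ i, i < 72 → P i := stepQ 71 Q71 (allL N71 (tt N52 F211) (tt N65 (iv F1353)) (tt N49 F212) (tt N95 D182) (tt N48 (iv D109)) (tt N67 F213))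
theorem Q73 : ∀ i, i < 73 → P i := stepQ 72 Q72 (allL N72 (tt N50 (iv D110)) (tt N96 D183) (tt N55 F214) (tt N96 (iv F1334)) (tt N97 D185) (tt N98 D186))
theorem Q74 : ∀ i, i < 74 → P i := stepQ 73 Q73 (allL N73 (tt N96 F1341) (tt N51 F215) (tt N96 F1342) (tt N50 (iv D111)) (tt N99 D187) (tt N100 D188))
theorem Q75 : ∀ i, i < 75 → P i := stepQ 74 Q74 (allL N74 (tt N97 (iv F319)) (tt N52 F216) (tt N56 F217) (tt N101 D189) (tt N50 (iv D112)) (tt N102 D190))
theorem Q76 : ∀ i, i < 76 → P i := stepQ 75 Q75 (allL N75 (tt N98 (iv F321)) (tt N60 F1343) (tt N57 F218) (tt N100 (iv F324)) (tt N102 (iv F327)) (tt N50 (iv D113)))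
theorem Q77 : ∀ i, i < 77 → P i := stepQ 76 Q76 (allL N76 (tt N66 (iv F1337)) (tt N55 F1347) (tt N51 (iv D114)) (tt N53 F220) (tt N103 D193) (tt N51 (iv F221)))
theorem Q78 : ∀ i, i < 78 → P i := stepQ 77 Q77 (allL N77 (tt N68 (iv F1336)) (tt N99 (iv F323)) (tt N103 (iv F332)) (tt N104 D194) (tt N51 (iv D115)) (tt N103 (iv F333)))
theorem Q79 : ∀ i, i < 79 → P i := stepQ 78 Q78 (allL N78 (tt N95 (iv F315)) (tt N101 (iv F325)) (tt N105 D195) (tt N52 (iv D116)) (tt N104 (iv F334)) (tt N106 D196))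
theorem Q80 : ∀ i, i < 80 → P i := stepQ 79 Q79 (allL N79 (tt N67 F222) (tt N59 F1378) (tt N54 F223) (tt N106 (iv F336)) (tt N53 F224) (tt N52 (iv D117)))
theorem Q81 : ∀ i, i < 81 → P i := stepQ 80 Q80 (allL N80 (tt N56 F227) (tt N103 (iv F1361)) (tt N97 (iv F320)) (tt N107 D203) (tt N55 (iv D120)) (tt N108 D204))
theorem Q82 : ∀ i, i < 82 → P i := stepQ 81 Q81 (allL N81 (tt N57 F228) (tt N100 (iv F1339)) (tt N98 (iv F322)) (tt N60 F229) (tt N108 (iv F347)) (tt N55 (iv D121)))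
theorem Q83 : ∀ i, i < 83 → P i := stepQ 82 Q82 (allL N82 (tt N107 (iv F344)) (tt N58 F230) (tt N109 D206) (tt N56 (iv D122)) (tt N61 F231) (tt N110 D207))
theorem Q84 : ∀ i, i < 84 → P i := stepQ 83 Q83 (allL N83 (tt N108 (iv F346)) (tt N83 F232) (tt N102 (iv F326)) (tt N110 (iv F351)) (tt N57 F233) (tt N56 (iv D123)))
theorem Q85 : ∀ i, i < 85 → P i := stepQ 84 Q84 (allL N84 (tt N63 F234) (tt N111 D208) (tt N58 (iv D124)) (tt N63 F237) (tt N63 F235) (tt N84 F236))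
theorem Q86 : ∀ i, i < 86 → P i := stepQ 85 Q85 (allL N85 (tt N61 F240) (tt N106 (iv F1393)) (tt N112 D218) (tt N59 (iv D129)) (tt N107 (iv F345)) (tt N113 D219))
theorem Q87 : ∀ i, i < 87 → P i := stepQ 86 Q86 (allL N86 (tt N62 F241) (tt N102 (iv F1355)) (tt N86 F242) (tt N113 (iv F367)) (tt N60 F243) (tt N59 (iv D130)))
theorem Q88 : ∀ i, i < 88 → P i := stepQ 87 Q87 (allL N87 (tt N112 (iv F365)) (tt N114 D223) (tt N61 (iv D132)) (tt N115 D224) (tt N109 (iv F349)) (tt N116 D225))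
theorem Q89 : ∀ i, i < 89 → P i := stepQ 88 Q88 (allL N88 (tt N113 (iv F366)) (tt N88 F244) (tt N116 (iv F371)) (tt N62 F245) (tt N110 (iv F352)) (tt N61 (iv D133)))
theorem Q90 : ∀ i, i < 90 → P i := stepQ 89 Q89 (allL N89 (tt N117 D226) (tt N63 (iv D134)) (tt N114 (iv F370)) (tt N111 (iv F353)) (tt N111 (iv F354)) (tt N118 D227))
theorem Q91 : ∀ i, i < 91 → P i := stepQ 90 Q90 (allL N90 (tt N69 F261) (tt N95 F1376) (tt N119 D245) (tt N65 (iv D144)) (tt N69 F262) (tt N69 (iv F1392)))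
theorem Q92 : ∀ i, i < 92 → P i := stepQ 91 Q91 (allL N91 (tt N103 F1350) (tt N67 F287) (tt N68 F288) (tt N120 D267) (tt N66 (iv D157)) (tt N68 (iv F1338)))
theorem Q93 : ∀ i, i < 93 → P i := stepQ 92 Q92 (allL N92 (tt N106 (iv F335)) (tt N120 (iv F436)) (tt N121 D270) (tt N67 (iv D160)) (tt N120 F1387) (tt N95 (iv F316)))
theorem Q94 : ∀ i, i < 94 → P i := stepQ 93 Q93 (allL N93 (tt N104 F1348) (tt N69 F292) (tt N122 D278) (tt N68 (iv D164)) (tt N95 (iv F1365)) (tt N120 (iv F1371)))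
theorem Q95 : ∀ i, i < 95 → P i := stepQ 94 Q94 (allL N94 (tt N119 (iv F400)) (tt N123 D283) (tt N69 (iv D167)) (tt N119 (iv F402)) (tt N119 (iv F401)) (tt N119 F1403))
theorem Q96 : ∀ i, i < 96 → P i := stepQ 95 Q95 (allL N95 (tt N78 F315) (tt N90 (iv F1376)) (tt N124 D309) (tt N71 (iv D182)) (tt N93 F1365) (tt N92 F316))
theorem Q97 : ∀ i, i < 97 → P i := stepQ 96 Q96 (allL N96 (tt N73 (iv F1341)) (tt N72 (iv D183)) (tt N73 (iv F1342)) (tt N72 F1334) (tt N125 D313) (tt N126 D314))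
theorem Q98 : ∀ i, i < 98 → P i := stepQ 97 Q97 (allL N97 (tt N74 F319) (tt N125 (iv F494)) (tt N80 F320) (tt N127 D317) (tt N72 (iv D185)) (tt N128 D318))
theorem Q99 : ∀ i, i < 99 → P i := stepQ 98 Q98 (allL N98 (tt N75 F321) (tt N129 D319) (tt N81 F322) (tt N126 (iv F1346)) (tt N128 (iv F503)) (tt N72 (iv D186)))
theorem Q100 : ∀ i, i < 100 → P i := stepQ 99 Q99 (allL N99 (tt N125 F1356) (tt N77 F323) (tt N125 F1357) (tt N130 D320) (tt N73 (iv D187)) (tt N131 D321))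
theorem Q101 : ∀ i, i < 101 → P i := stepQ 100 Q100 (allL N100 (tt N126 (iv F1344)) (tt N81 F1339) (tt N126 (iv F1345)) (tt N75 F324) (tt N131 (iv F506)) (tt N73 (iv D188)))
theorem Q102 : ∀ i, i < 102 → P i := stepQ 101 Q101 (allL N101 (tt N127 (iv F500)) (tt N78 F325) (tt N132 D323) (tt N74 (iv D189)) (tt N130 (iv F505)) (tt N133 D324))
theorem Q103 : ∀ i, i < 103 → P i := stepQ 102 Q102 (allL N102 (tt N128 (iv F501)) (tt N86 F1355) (tt N83 F326) (tt N133 (iv F509)) (tt N75 F327) (tt N74 (iv D190)))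
theorem Q104 : ∀ i, i < 104 → P i := stepQ 103 Q103 (allL N103 (tt N91 (iv F1350)) (tt N80 F1361) (tt N77 F332) (tt N134 D329) (tt N76 (iv D193)) (tt N77 F333))
theorem Q105 : ∀ i, i < 105 → P i := stepQ 104 Q104 (allL N104 (tt N93 (iv F1348)) (tt N130 (iv F504)) (tt N135 D330) (tt N77 (iv D194)) (tt N78 F334) (tt N134 (iv F519)))
theorem Q106 : ∀ i, i < 106 → P i := stepQ 105 Q105 (allL N105 (tt N124 (iv F483)) (tt N136 D331) (tt N78 (iv D195)) (tt N124 (iv F485)) (tt N135 (iv F520)) (tt N137 D332))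
theorem Q107 : ∀ i, i < 107 → P i := stepQ 106 Q106 (allL N106 (tt N92 F335) (tt N85 F1393) (tt N137 (iv F522)) (tt N79 F336) (tt N134 (iv F518)) (tt N78 (iv D196)))
theorem Q108 : ∀ i, i < 108 → P i := stepQ 107 Q107 (allL N107 (tt N82 F344) (tt N134 (iv F1381)) (tt N138 D344) (tt N80 (iv D203)) (tt N85 F345) (tt N139 D345))
theorem Q109 : ∀ i, i < 109 → P i := stepQ 108 Q108 (allL N108 (tt N83 F346) (tt N131 (iv F1352)) (tt N128 (iv F502)) (tt N139 (iv F541)) (tt N81 F347) (tt N80 (iv D204)))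
theorem Q110 : ∀ i, i < 110 → P i := stepQ 109 Q109 (allL N109 (tt N138 (iv F538)) (tt N140 D349) (tt N82 (iv D206)) (tt N141 D350) (tt N87 F349) (tt N142 D351))
theorem Q111 : ∀ i, i < 111 → P i := stepQ 110 Q110 (allL N110 (tt N139 (iv F540)) (tt N110 F350) (tt N142 (iv F547)) (tt N83 F351) (tt N88 F352) (tt N82 (iv D207)))
theorem Q112 : ∀ i, i < 112 → P i := stepQ 111 Q111 (allL N111 (tt N143 D352) (tt N84 (iv D208)) (tt N140 (iv F545)) (tt N89 F353) (tt N89 F354) (tt N144 D353))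
theorem Q113 : ∀ i, i < 113 → P i := stepQ 112 Q112 (allL N112 (tt N87 F365) (tt N145 D371) (tt N85 (iv D218)) (tt N146 D372) (tt N138 (iv F539)) (tt N147 D373))
theorem Q114 : ∀ i, i < 114 → P i := stepQ 113 Q113 (allL N113 (tt N88 F366) (tt N133 (iv F1379)) (tt N147 (iv F578)) (tt N86 F367) (tt N139 (iv F542)) (tt N85 (iv D219)))
theorem Q115 : ∀ i, i < 115 → P i := stepQ 114 Q114 (allL N114 (tt N148 D380) (tt N87 (iv D223)) (tt N89 F370) (tt N149 D381) (tt N140 (iv F546)) (tt N150 D382))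
theorem Q116 : ∀ i, i < 116 → P i := stepQ 115 Q115 (allL N115 (tt N146 (iv F575)) (tt N149 (iv F589)) (tt N146 (iv F576)) (tt N87 (iv D224)) (tt N151 D383) (tt N152 D384))
theorem Q117 : ∀ i, i < 117 → P i := stepQ 116 Q116 (allL N116 (tt N147 (iv F577)) (tt N153 D385) (tt N88 F371) (tt N152 (iv F591)) (tt N142 (iv F548)) (tt N87 (iv D225)))
theorem Q118 : ∀ i, i < 118 → P i := stepQ 117 Q117 (allL N117 (tt N89 (iv D226)) (tt N154 D386) (tt N148 (iv F588)) (tt N143 (iv F549)) (tt N143 (iv F550)) (tt N155 D387))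
theorem Q119 : ∀ i, i < 119 → P i := stepQ 118 Q118 (allL N118 (tt N155 (iv F593)) (tt N118 F372) (tt N150 (iv F590)) (tt N144 (iv F552)) (tt N144 (iv F553)) (tt N89 (iv D227)))
theorem Q120 : ∀ i, i < 120 → P i := stepQ 119 Q119 (allL N119 (tt N94 F400) (tt N156 D420) (tt N90 (iv D245)) (tt N94 F402) (tt N94 F401) (tt N94 (iv F1403)))
theorem Q121 : ∀ i, i < 121 → P i := stepQ 120 Q120 (allL N120 (tt N134 F1370) (tt N92 F436) (tt N157 D458) (tt N91 (iv D267)) (tt N92 (iv F1387)) (tt N93 F1371))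
theorem Q122 : ∀ i, i < 122 → P i := stepQ 121 Q121 (allL N121 (tt N137 (iv F521)) (tt N158 D461) (tt N92 (iv D270)) (tt N137 (iv F523)) (tt N157 F1399) (tt N124 (iv F484)))
theorem Q123 : ∀ i, i < 123 → P i := stepQ 122 Q122 (allL N122 (tt N135 F1368) (tt N159 D470) (tt N93 (iv D278)) (tt N160 D471) (tt N124 (iv F1383)) (tt N157 (iv F1389)))
theorem Q124 : ∀ i, i < 124 → P i := stepQ 123 Q123 (allL N123 (tt N161 D479) (tt N94 (iv D283)) (tt N159 (iv F709)) (tt N156 (iv F639)) (tt N156 (iv F640)) (tt N162 D480))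
theorem Q125 : ∀ i, i < 125 → P i := stepQ 124 Q124 (allL N124 (tt N105 F483) (tt N163 D523) (tt N95 (iv D309)) (tt N105 F485) (tt N122 F1383) (tt N121 F484))
theorem Q126 : ∀ i, i < 126 → P i := stepQ 125 Q125 (allL N125 (tt N99 (iv F1356)) (tt N97 F494) (tt N99 (iv F1357)) (tt N164 D529) (tt N96 (iv D313)) (tt N165 D530))
theorem Q127 : ∀ i, i < 127 → P i := stepQ 126 Q126 (allL N126 (tt N100 F1344) (tt N166 D531) (tt N100 F1345) (tt N98 F1346) (tt N165 (iv F794)) (tt N96 (iv D314)))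
theorem Q128 : ∀ i, i < 128 → P i := stepQ 127 Q127 (allL N127 (tt N101 F500) (tt N164 (iv F793)) (tt N167 D535) (tt N97 (iv D317)) (tt N164 (iv F1358)) (tt N168 D536))
theorem Q129 : ∀ i, i < 129 → P i := stepQ 128 Q128 (allL N128 (tt N102 F501) (tt N169 D537) (tt N108 F502) (tt N168 (iv F804)) (tt N98 F503) (tt N97 (iv D318)))
theorem Q130 : ∀ i, i < 130 → P i := stepQ 129 Q129 (allL N129 (tt N129 F1278) (tt N98 (iv D319)) (tt N166 (iv F1280)) (tt N166 (iv F1364)) (tt N169 (iv F805)) (tt N166 (iv F795)))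
theorem Q131 : ∀ i, i < 131 → P i := stepQ 130 Q130 (allL N130 (tt N164 F1380) (tt N104 F504) (tt N170 D540) (tt N99 (iv D320)) (tt N101 F505) (tt N171 D541))
theorem Q132 : ∀ i, i < 132 → P i := stepQ 131 Q131 (allL N131 (tt N165 (iv F1359)) (tt N108 F1352) (tt N165 (iv F1360)) (tt N171 (iv F811)) (tt N100 F506) (tt N99 (iv D321)))
theorem Q133 : ∀ i, i < 133 → P i := stepQ 132 Q132 (allL N132 (tt N167 (iv F802)) (tt N172 D544) (tt N101 (iv D323)) (tt N173 D545) (tt N170 (iv F810)) (tt N174 D546))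
theorem Q134 : ∀ i, i < 134 → P i := stepQ 133 Q133 (allL N133 (tt N168 (iv F803)) (tt N113 F1379) (tt N174 (iv F818)) (tt N102 F509) (tt N171 (iv F812)) (tt N101 (iv D324)))
theorem Q135 : ∀ i, i < 135 → P i := stepQ 134 Q134 (allL N134 (tt N120 (iv F1370)) (tt N107 F1381) (tt N175 D553) (tt N103 (iv D329)) (tt N106 F518) (tt N104 F519))
theorem Q136 : ∀ i, i < 136 → P i := stepQ 135 Q135 (allL N135 (tt N122 (iv F1368)) (tt N176 D554) (tt N104 (iv D330)) (tt N177 D555) (tt N105 F520) (tt N175 (iv F830)))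
theorem Q137 : ∀ i, i < 137 → P i := stepQ 136 Q136 (allL N136 (tt N178 D556) (tt N105 (iv D331)) (tt N172 (iv F817)) (tt N163 (iv F780)) (tt N176 (iv F831)) (tt N179 D557))
theorem Q138 : ∀ i, i < 138 → P i := stepQ 137 Q137 (allL N137 (tt N121 F521) (tt N180 D558) (tt N106 F522) (tt N121 F523) (tt N175 (iv F829)) (tt N105 (iv D332)))
theorem Q139 : ∀ i, i < 139 → P i := stepQ 138 Q138 (allL N138 (tt N109 F538) (tt N181 D579) (tt N107 (iv D344)) (tt N182 D580) (tt N112 F539) (tt N183 D581))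
theorem Q140 : ∀ i, i < 140 → P i := stepQ 139 Q139 (allL N139 (tt N110 F540) (tt N171 (iv F1375)) (tt N183 (iv F861)) (tt N108 F541) (tt N113 F542) (tt N107 (iv D345)))
theorem Q141 : ∀ i, i < 141 → P i := stepQ 140 Q140 (allL N140 (tt N184 D588) (tt N109 (iv D349)) (tt N111 F545) (tt N185 D589) (tt N114 F546) (tt N186 D590))
theorem Q142 : ∀ i, i < 142 → P i := stepQ 141 Q141 (allL N141 (tt N182 (iv F858)) (tt N185 (iv F872)) (tt N187 D591) (tt N109 (iv D350)) (tt N188 D592) (tt N189 D593))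
theorem Q143 : ∀ i, i < 143 → P i := stepQ 142 Q142 (allL N142 (tt N183 (iv F860)) (tt N190 D594) (tt N110 F547) (tt N189 (iv F878)) (tt N116 F548) (tt N109 (iv D351)))
theorem Q144 : ∀ i, i < 144 → P i := stepQ 143 Q143 (allL N143 (tt N111 (iv D352)) (tt N191 D595) (tt N184 (iv F870)) (tt N117 F549) (tt N117 F550) (tt N192 D596))
theorem Q145 : ∀ i, i < 145 → P i := stepQ 144 Q144 (allL N144 (tt N192 (iv F883)) (tt N144 F551) (tt N186 (iv F873)) (tt N118 F552) (tt N118 F553) (tt N111 (iv D353)))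
theorem Q146 : ∀ i, i < 146 → P i := stepQ 145 Q145 (allL N145 (tt N193 D628) (tt N112 (iv D371)) (tt N180 (iv F1407)) (tt N194 D629) (tt N181 (iv F857)) (tt N195 D630))
theorem Q147 : ∀ i, i < 147 → P i := stepQ 146 Q146 (allL N146 (tt N115 F575) (tt N194 (iv F928)) (tt N115 F576) (tt N112 (iv D372)) (tt N196 D631) (tt N197 D632))
theorem Q148 : ∀ i, i < 148 → P i := stepQ 147 Q147 (allL N147 (tt N116 F577) (tt N198 D633) (tt N113 F578) (tt N197 (iv F933)) (tt N183 (iv F862)) (tt N112 (iv D373)))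
theorem Q149 : ∀ i, i < 149 → P i := stepQ 148 Q148 (allL N148 (tt N114 (iv D380)) (tt N199 D644) (tt N117 F588) (tt N200 D645) (tt N184 (iv F871)) (tt N201 D646))
theorem Q150 : ∀ i, i < 150 → P i := stepQ 149 Q149 (allL N149 (tt N200 (iv F949)) (tt N115 F589) (tt N202 D647) (tt N114 (iv D381)) (tt N203 D648) (tt N204 D649))
theorem Q151 : ∀ i, i < 151 → P i := stepQ 150 Q150 (allL N150 (tt N201 (iv F950)) (tt N205 D650) (tt N118 F590) (tt N204 (iv F953)) (tt N186 (iv F874)) (tt N114 (iv D382)))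
theorem Q152 : ∀ i, i < 152 → P i := stepQ 151 Q151 (allL N151 (tt N196 (iv F929)) (tt N203 (iv F952)) (tt N196 (iv F930)) (tt N188 (iv F877)) (tt N115 (iv D383)) (tt N206 D651))
theorem Q153 : ∀ i, i < 153 → P i := stepQ 152 Q152 (allL N152 (tt N197 (iv F931)) (tt N207 D652) (tt N197 (iv F932)) (tt N116 F591) (tt N206 (iv F956)) (tt N115 (iv D384)))
theorem Q154 : ∀ i, i < 154 → P i := stepQ 153 Q153 (allL N153 (tt N153 F2156) (tt N116 (iv D385)) (tt N153 F592) (tt N207 (iv F957)) (tt N190 (iv F880)) (tt N205 (iv F955)))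
theorem Q155 : ∀ i, i < 155 → P i := stepQ 154 Q154 (allL N154 (tt N208 D654) (tt N117 (iv D386)) (tt N209 D655) (tt N191 (iv F881)) (tt N191 (iv F882)) (tt N210 D656))
theorem Q156 : ∀ i, i < 156 → P i := stepQ 155 Q155 (allL N155 (tt N118 F593) (tt N211 D657) (tt N201 (iv F951)) (tt N192 (iv F884)) (tt N192 (iv F885)) (tt N117 (iv D387)))
theorem Q157 : ∀ i, i < 157 → P i := stepQ 156 Q156 (allL N156 (tt N210 F2208) (tt N119 (iv D420)) (tt N163 F1402) (tt N123 F639) (tt N123 F640) (tt N208 F2209))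
theorem Q158 : ∀ i, i < 158 → P i := stepQ 157 Q157 (allL N157 (tt N175 F1388) (tt N212 D771) (tt N120 (iv D458)) (tt N213 D772) (tt N121 (iv F1399)) (tt N122 F1389))
theorem Q159 : ∀ i, i < 159 → P i := stepQ 158 Q158 (allL N158 (tt N214 D776) (tt N121 (iv D461)) (tt N212 (iv F1124)) (tt N180 (iv F832)) (tt N212 (iv F1400)) (tt N215 D777))
theorem Q160 : ∀ i, i < 160 → P i := stepQ 159 Q159 (allL N159 (tt N216 D786) (tt N122 (iv D470)) (tt N123 F709) (tt N217 D787) (tt N163 (iv F1396)) (tt N218 D788))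
theorem Q161 : ∀ i, i < 161 → P i := stepQ 160 Q160 (allL N160 (tt N177 F1385) (tt N217 (iv F1139)) (tt N219 D789) (tt N122 (iv D471)) (tt N177 (iv F1398)) (tt N213 (iv F1374)))
theorem Q162 : ∀ i, i < 162 → P i := stepQ 161 Q161 (allL N161 (tt N123 (iv D479)) (tt N220 D805) (tt N216 (iv F1138)) (tt N210 F2205) (tt N210 F2206) (tt N191 F2207))
theorem Q163 : ∀ i, i < 163 → P i := stepQ 162 Q162 (allL N162 (tt N191 F2212) (tt N208 F2213) (tt N218 (iv F1140)) (tt N208 F2214) (tt N208 F2215) (tt N123 (iv D480)))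
theorem Q164 : ∀ i, i < 164 → P i := stepQ 163 Q163 (allL N163 (tt N221 D879) (tt N124 (iv D523)) (tt N156 (iv F1402)) (tt N136 F780) (tt N159 F1396) (tt N222 D880))
theorem Q165 : ∀ i, i < 165 → P i := stepQ 164 Q164 (allL N164 (tt N130 (iv F1380)) (tt N127 F793) (tt N223 D889) (tt N125 (iv D529)) (tt N127 F1358) (tt N224 D890))
theorem Q166 : ∀ i, i < 166 → P i := stepQ 165 Q165 (allL N165 (tt N131 F1359) (tt N225 D891) (tt N131 F1360) (tt N224 (iv F1418)) (tt N126 F794) (tt N125 (iv D530)))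
theorem Q167 : ∀ i, i < 167 → P i := stepQ 166 Q166 (allL N166 (tt N166 F1279) (tt N126 (iv D531)) (tt N129 F1280) (tt N129 F1364) (tt N225 (iv F1422)) (tt N129 F795))
theorem Q168 : ∀ i, i < 168 → P i := stepQ 167 Q167 (allL N167 (tt N132 F802) (tt N226 D892) (tt N127 (iv D535)) (tt N187 (iv F876)) (tt N223 (iv F1416)) (tt N227 D893))
theorem Q169 : ∀ i, i < 169 → P i := stepQ 168 Q168 (allL N168 (tt N133 F803) (tt N228 D894) (tt N227 (iv F1425)) (tt N128 F804) (tt N224 (iv F1419)) (tt N127 (iv D536)))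
theorem Q170 : ∀ i, i < 170 → P i := stepQ 169 Q169 (allL N169 (tt N169 F1362) (tt N128 (iv D537)) (tt N225 (iv F1421)) (tt N228 (iv F1427)) (tt N129 F805) (tt N225 (iv F1423)))
theorem Q171 : ∀ i, i < 171 → P i := stepQ 170 Q170 (allL N170 (tt N223 (iv F1415)) (tt N229 D895) (tt N130 (iv D540)) (tt N230 D896) (tt N132 F810) (tt N231 D897))
theorem Q172 : ∀ i, i < 172 → P i := stepQ 171 Q171 (allL N171 (tt N224 (iv F1417)) (tt N139 F1375) (tt N231 (iv F1431)) (tt N131 F811) (tt N133 F812) (tt N130 (iv D541)))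
theorem Q173 : ∀ i, i < 173 → P i := stepQ 172 Q172 (allL N172 (tt N232 D898) (tt N132 (iv D544)) (tt N136 F817) (tt N233 D899) (tt N229 (iv F1429)) (tt N234 D900))
theorem Q174 : ∀ i, i < 174 → P i := stepQ 173 Q173 (allL N173 (tt N187 (iv F875)) (tt N233 (iv F1434)) (tt N182 (iv F859)) (tt N132 (iv D545)) (tt N235 D901) (tt N236 D902))
theorem Q175 : ∀ i, i < 175 → P i := stepQ 174 Q174 (allL N174 (tt N227 (iv F1424)) (tt N237 D903) (tt N133 F818) (tt N236 (iv F1436)) (tt N231 (iv F1432)) (tt N132 (iv D546)))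
theorem Q176 : ∀ i, i < 176 → P i := stepQ 175 Q175 (allL N175 (tt N157 (iv F1388)) (tt N238 D904) (tt N134 (iv D553)) (tt N219 F1372) (tt N137 F829) (tt N135 F830))
theorem Q177 : ∀ i, i < 177 → P i := stepQ 176 Q176 (allL N176 (tt N239 D905) (tt N135 (iv D554)) (tt N229 (iv F1428)) (tt N240 D906) (tt N136 F831) (tt N241 D907))
theorem Q178 : ∀ i, i < 178 → P i := stepQ 177 Q177 (allL N177 (tt N160 (iv F1385)) (tt N240 (iv F1441)) (tt N213 (iv F1386)) (tt N135 (iv D555)) (tt N160 F1398) (tt N219 (iv F1414)))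
theorem Q179 : ∀ i, i < 179 → P i := stepQ 178 Q178 (allL N178 (tt N136 (iv D556)) (tt N242 D908) (tt N232 (iv F1433)) (tt N221 (iv F1256)) (tt N239 (iv F1440)) (tt N243 D909))
theorem Q180 : ∀ i, i < 180 → P i := stepQ 179 Q179 (allL N179 (tt N243 (iv F1444)) (tt N244 D910) (tt N234 (iv F1435)) (tt N222 (iv F1258)) (tt N241 (iv F1443)) (tt N136 (iv D557)))
theorem Q181 : ∀ i, i < 181 → P i := stepQ 180 Q180 (allL N180 (tt N245 D911) (tt N137 (iv D558)) (tt N145 F1407) (tt N158 F832) (tt N238 (iv F1439)) (tt N244 (iv F1446)))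
theorem Q182 : ∀ i, i < 182 → P i := stepQ 181 Q181 (allL N181 (tt N246 D912) (tt N138 (iv D579)) (tt N238 (iv F1438)) (tt N247 D913) (tt N145 F857) (tt N248 D914))
theorem Q183 : ∀ i, i < 183 → P i := stepQ 182 Q182 (allL N182 (tt N141 F858) (tt N247 (iv F1451)) (tt N173 F859) (tt N138 (iv D580)) (tt N249 D915) (tt N250 D916))
theorem Q184 : ∀ i, i < 184 → P i := stepQ 183 Q183 (allL N183 (tt N142 F860) (tt N251 D917) (tt N139 F861) (tt N250 (iv F1458)) (tt N147 F862) (tt N138 (iv D581)))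
theorem Q185 : ∀ i, i < 185 → P i := stepQ 184 Q184 (allL N184 (tt N140 (iv D588)) (tt N252 D918) (tt N143 F870) (tt N253 D919) (tt N148 F871) (tt N254 D920))
theorem Q186 : ∀ i, i < 186 → P i := stepQ 185 Q185 (allL N185 (tt N253 (iv F1461)) (tt N141 F872) (tt N255 D921) (tt N140 (iv D589)) (tt N256 D922) (tt N257 D923))
theorem Q187 : ∀ i, i < 187 → P i := stepQ 186 Q186 (allL N186 (tt N254 (iv F1462)) (tt N258 D924) (tt N144 F873) (tt N257 (iv F1467)) (tt N150 F874) (tt N140 (iv D590)))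
theorem Q188 : ∀ i, i < 188 → P i := stepQ 187 Q187 (allL N187 (tt N173 F875) (tt N259 D925) (tt N141 (iv D591)) (tt N167 F876) (tt N260 D926) (tt N261 D927))
theorem Q189 : ∀ i, i < 189 → P i := stepQ 188 Q188 (allL N188 (tt N249 (iv F1453)) (tt N256 (iv F1465)) (tt N260 (iv F1473)) (tt N151 F877) (tt N141 (iv D592)) (tt N262 D928))
theorem Q190 : ∀ i, i < 190 → P i := stepQ 189 Q189 (allL N189 (tt N250 (iv F1456)) (tt N263 D929) (tt N261 (iv F1475)) (tt N142 F878) (tt N262 (iv F1478)) (tt N141 (iv D593)))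
theorem Q191 : ∀ i, i < 191 → P i := stepQ 190 Q190 (allL N190 (tt N190 F2152) (tt N142 (iv D594)) (tt N190 F879) (tt N263 (iv F1479)) (tt N153 F880) (tt N258 (iv F1470)))
theorem Q192 : ∀ i, i < 192 → P i := stepQ 191 Q191 (allL N191 (tt N162 (iv F2212)) (tt N143 (iv D595)) (tt N264 D932) (tt N154 F881) (tt N154 F882) (tt N161 (iv F2207)))
theorem Q193 : ∀ i, i < 193 → P i := stepQ 192 Q192 (allL N192 (tt N144 F883) (tt N265 D934) (tt N254 (iv F1463)) (tt N155 F884) (tt N155 F885) (tt N143 (iv D596)))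
theorem Q194 : ∀ i, i < 194 → P i := stepQ 193 Q193 (allL N193 (tt N145 (iv D628)) (tt N266 D935) (tt N245 (iv F1448)) (tt N267 D936) (tt N246 (iv F1450)) (tt N268 D937))
theorem Q195 : ∀ i, i < 195 → P i := stepQ 194 Q194 (allL N194 (tt N267 (iv F1490)) (tt N146 F928) (tt N269 D938) (tt N145 (iv D629)) (tt N270 D939) (tt N269 F2280))
theorem Q196 : ∀ i, i < 196 → P i := stepQ 195 Q195 (allL N195 (tt N268 (iv F1491)) (tt N271 D941) (tt N244 F1447) (tt N269 (iv F2262)) (tt N248 (iv F1452)) (tt N145 (iv D630)))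
theorem Q197 : ∀ i, i < 197 → P i := stepQ 196 Q196 (allL N196 (tt N151 F929) (tt N270 (iv F1493)) (tt N151 F930) (tt N249 (iv F1455)) (tt N146 (iv D631)) (tt N272 D942))
theorem Q198 : ∀ i, i < 198 → P i := stepQ 197 Q197 (allL N197 (tt N152 F931) (tt N273 D943) (tt N152 F932) (tt N147 F933) (tt N272 (iv F1498)) (tt N146 (iv D632)))
theorem Q199 : ∀ i, i < 199 → P i := stepQ 198 Q198 (allL N198 (tt N274 D944) (tt N147 (iv D633)) (tt N237 (iv F1437)) (tt N273 (iv F1499)) (tt N251 (iv F1459)) (tt N271 (iv F1495)))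
theorem Q200 : ∀ i, i < 200 → P i := stepQ 199 Q199 (allL N199 (tt N275 D945) (tt N148 (iv D644)) (tt N276 D946) (tt N277 D947) (tt N252 (iv F1460)) (tt N278 D948))
theorem Q201 : ∀ i, i < 201 → P i := stepQ 200 Q200 (allL N200 (tt N149 F949) (tt N277 (iv F1501)) (tt N279 D949) (tt N148 (iv D645)) (tt N280 D950) (tt N281 D951))
theorem Q202 : ∀ i, i < 202 → P i := stepQ 201 Q201 (allL N201 (tt N150 F950) (tt N282 D952) (tt N155 F951) (tt N281 (iv F1506)) (tt N254 (iv F1464)) (tt N148 (iv D646)))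
theorem Q203 : ∀ i, i < 203 → P i := stepQ 202 Q202 (allL N202 (tt N279 (iv F1502)) (tt N269 (iv F1492)) (tt N149 (iv D647)) (tt N271 F2278) (tt N283 D954) (tt N273 (iv F2298)))
theorem Q204 : ∀ i, i < 204 → P i := stepQ 203 Q203 (allL N203 (tt N280 (iv F1504)) (tt N151 F952) (tt N283 (iv F1509)) (tt N256 (iv F1466)) (tt N149 (iv D648)) (tt N284 D956))
theorem Q205 : ∀ i, i < 205 → P i := stepQ 204 Q204 (allL N204 (tt N281 (iv F1505)) (tt N285 D957) (tt N273 F2315) (tt N150 F953) (tt N284 (iv F1511)) (tt N149 (iv D649)))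
theorem Q206 : ∀ i, i < 206 → P i := stepQ 205 Q205 (allL N205 (tt N205 F2151) (tt N150 (iv D650)) (tt N205 F954) (tt N285 (iv F1512)) (tt N258 (iv F1469)) (tt N153 F955))
theorem Q207 : ∀ i, i < 207 → P i := stepQ 206 Q206 (allL N206 (tt N272 (iv F1496)) (tt N286 D959) (tt N272 (iv F1497)) (tt N262 (iv F1477)) (tt N152 F956) (tt N151 (iv D651)))
theorem Q208 : ∀ i, i < 208 → P i := stepQ 207 Q207 (allL N207 (tt N207 F2161) (tt N152 (iv D652)) (tt N285 F2335) (tt N153 F957) (tt N286 (iv F1516)) (tt N285 (iv F1513)))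
theorem Q209 : ∀ i, i < 209 → P i := stepQ 208 Q208 (allL N208 (tt N154 (iv D654)) (tt N162 (iv F2213)) (tt N222 (iv F2217)) (tt N162 (iv F2214)) (tt N162 (iv F2215)) (tt N156 (iv F2209)))
theorem Q210 : ∀ i, i < 210 → P i := stepQ 209 Q209 (allL N209 (tt N222 (iv F2216)) (tt N276 (iv F1500)) (tt N154 (iv D655)) (tt N243 (iv F2218)) (tt N264 (iv F1485)) (tt N221 (iv F2211)))
theorem Q211 : ∀ i, i < 211 → P i := stepQ 210 Q210 (allL N210 (tt N156 (iv F2208)) (tt N287 D967) (tt N221 (iv F2210)) (tt N161 (iv F2205)) (tt N161 (iv F2206)) (tt N154 (iv D656)))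
theorem Q212 : ∀ i, i < 212 → P i := stepQ 211 Q211 (allL N211 (tt N288 D968) (tt N155 (iv D657)) (tt N289 D969) (tt N265 (iv F1488)) (tt N265 (iv F1489)) (tt N287 (iv F1521)))
theorem Q213 : ∀ i, i < 213 → P i := stepQ 212 Q212 (allL N212 (tt N215 F2230) (tt N157 (iv D771)) (tt N158 F1124) (tt N290 D973) (tt N158 F1400) (tt N214 F2231))
theorem Q214 : ∀ i, i < 214 → P i := stepQ 213 Q213 (allL N213 (tt N219 (iv F1141)) (tt N290 (iv F1529)) (tt N177 F1386) (tt N157 (iv D772)) (tt N219 F1413) (tt N160 F1374))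
theorem Q215 : ∀ i, i < 215 → P i := stepQ 214 Q214 (allL N214 (tt N158 (iv D776)) (tt N218 F2225) (tt N215 F2226) (tt N245 (iv F1449)) (tt N215 F2227) (tt N212 (iv F2231)))
theorem Q216 : ∀ i, i < 216 → P i := stepQ 215 Q215 (allL N215 (tt N212 (iv F2230)) (tt N222 (iv F1257)) (tt N214 (iv F2226)) (tt N244 (iv F1445)) (tt N214 (iv F2227)) (tt N158 (iv D777)))
theorem Q217 : ∀ i, i < 217 → P i := stepQ 216 Q216 (allL N216 (tt N159 (iv D786)) (tt N291 D977) (tt N161 F1138) (tt N292 D978) (tt N221 F1412) (tt N264 F2220))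
theorem Q218 : ∀ i, i < 218 → P i := stepQ 217 Q217 (allL N217 (tt N292 (iv F1534)) (tt N160 F1139) (tt N293 D980) (tt N159 (iv D787)) (tt N240 (iv F1442)) (tt N294 D981))
theorem Q219 : ∀ i, i < 219 → P i := stepQ 218 Q218 (allL N218 (tt N264 F2221) (tt N214 (iv F2225)) (tt N162 F1140) (tt N294 (iv F1540)) (tt N222 F1411) (tt N159 (iv D788)))
theorem Q220 : ∀ i, i < 220 → P i := stepQ 219 Q219 (allL N219 (tt N213 F1141) (tt N295 D982) (tt N160 (iv D789)) (tt N175 (iv F1372)) (tt N213 (iv F1413)) (tt N177 F1414))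
theorem Q221 : ∀ i, i < 221 → P i := stepQ 220 Q220 (allL N220 (tt N296 D983) (tt N161 (iv D805)) (tt N297 D984) (tt N287 F2185) (tt N287 F2186) (tt N265 F2187))
theorem Q222 : ∀ i, i < 222 → P i := stepQ 221 Q221 (allL N221 (tt N163 (iv D879)) (tt N298 D987) (tt N210 F2210) (tt N178 F1256) (tt N216 (iv F1412)) (tt N209 F2211))
theorem Q223 : ∀ i, i < 223 → P i := stepQ 222 Q222 (allL N222 (tt N209 F2216) (tt N215 F1257) (tt N208 F2217) (tt N179 F1258) (tt N218 (iv F1411)) (tt N163 (iv D880)))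
theorem Q224 : ∀ i, i < 224 → P i := stepQ 223 Q223 (allL N223 (tt N170 F1415) (tt N299 D989) (tt N164 (iv D889)) (tt N300 D990) (tt N167 F1416) (tt N301 D991))
theorem Q225 : ∀ i, i < 225 → P i := stepQ 224 Q224 (allL N224 (tt N171 F1417) (tt N302 D992) (tt N301 (iv F1554)) (tt N165 F1418) (tt N168 F1419) (tt N164 (iv D890)))
theorem Q226 : ∀ i, i < 226 → P i := stepQ 225 Q225 (allL N225 (tt N225 F1420) (tt N165 (iv D891)) (tt N169 F1421) (tt N302 (iv F1557)) (tt N166 F1422) (tt N169 F1423))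
theorem Q227 : ∀ i, i < 227 → P i := stepQ 226 Q226 (allL N226 (tt N303 D993) (tt N167 (iv D892)) (tt N299 (iv F1549)) (tt N259 (iv F1471)) (tt N299 (iv F1550)) (tt N226 F2171))
theorem Q228 : ∀ i, i < 228 → P i := stepQ 227 Q227 (allL N227 (tt N174 F1424) (tt N227 F2162) (tt N168 F1425) (tt N261 (iv F1476)) (tt N301 (iv F1555)) (tt N167 (iv D893)))
theorem Q229 : ∀ i, i < 229 → P i := stepQ 228 Q228 (allL N228 (tt N228 F1426) (tt N168 (iv D894)) (tt N228 F2170) (tt N169 F1427) (tt N302 (iv F1558)) (tt N302 (iv F1559)))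
theorem Q230 : ∀ i, i < 230 → P i := stepQ 229 Q229 (allL N229 (tt N304 D997) (tt N170 (iv D895)) (tt N176 F1428) (tt N305 D998) (tt N172 F1429) (tt N306 D999))
theorem Q231 : ∀ i, i < 231 → P i := stepQ 230 Q230 (allL N230 (tt N300 (iv F1551)) (tt N305 (iv F1563)) (tt N230 F1430) (tt N170 (iv D896)) (tt N307 D1000) (tt N308 D1001))
theorem Q232 : ∀ i, i < 232 → P i := stepQ 231 Q231 (allL N231 (tt N301 (iv F1553)) (tt N309 D1002) (tt N171 F1431) (tt N308 (iv F1569)) (tt N174 F1432) (tt N170 (iv D897)))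
theorem Q233 : ∀ i, i < 233 → P i := stepQ 232 Q232 (allL N232 (tt N172 (iv D898)) (tt N310 D1003) (tt N178 F1433) (tt N293 (iv F1539)) (tt N304 (iv F1562)) (tt N311 D1004))
theorem Q234 : ∀ i, i < 234 → P i := stepQ 233 Q233 (allL N233 (tt N293 (iv F1538)) (tt N173 F1434) (tt N292 (iv F1535)) (tt N172 (iv D899)) (tt N278 (iv F2249)) (tt N252 F2239))
theorem Q235 : ∀ i, i < 235 → P i := stepQ 234 Q234 (allL N234 (tt N311 (iv F1572)) (tt N253 (iv F2246)) (tt N179 F1435) (tt N252 F2232) (tt N306 (iv F1565)) (tt N172 (iv D900)))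
theorem Q236 : ∀ i, i < 236 → P i := stepQ 235 Q235 (allL N235 (tt N260 (iv F1472)) (tt N278 F2269) (tt N249 (iv F1454)) (tt N307 (iv F1567)) (tt N173 (iv D901)) (tt N282 (iv F2287)))
theorem Q237 : ∀ i, i < 237 → P i := stepQ 236 Q236 (allL N236 (tt N261 (iv F1474)) (tt N254 F2270) (tt N250 (iv F1457)) (tt N174 F1436) (tt N282 (iv F2286)) (tt N173 (iv D902)))
theorem Q238 : ∀ i, i < 238 → P i := stepQ 237 Q237 (allL N237 (tt N257 (iv F2281)) (tt N174 (iv D903)) (tt N198 F1437) (tt N254 F2264) (tt N309 (iv F1571)) (tt N253 F2265))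
theorem Q239 : ∀ i, i < 239 → P i := stepQ 238 Q238 (allL N238 (tt N312 D1011) (tt N175 (iv D904)) (tt N181 F1438) (tt N295 (iv F1541)) (tt N180 F1439) (tt N313 D1012))
theorem Q240 : ∀ i, i < 240 → P i := stepQ 239 Q239 (allL N239 (tt N176 (iv D905)) (tt N314 D1013) (tt N304 (iv F1561)) (tt N315 D1014) (tt N178 F1440) (tt N316 D1015))
theorem Q241 : ∀ i, i < 241 → P i := stepQ 240 Q240 (allL N240 (tt N315 (iv F1587)) (tt N177 F1441) (tt N317 D1016) (tt N176 (iv D906)) (tt N217 F1442) (tt N318 D1017))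
theorem Q242 : ∀ i, i < 242 → P i := stepQ 241 Q241 (allL N241 (tt N316 (iv F1590)) (tt N313 (iv F1583)) (tt N306 (iv F1564)) (tt N318 (iv F1594)) (tt N179 F1443) (tt N176 (iv D907)))
theorem Q243 : ∀ i, i < 243 → P i := stepQ 242 Q242 (allL N242 (tt N319 D1018) (tt N178 (iv D908)) (tt N320 D1019) (tt N298 (iv F1543)) (tt N314 (iv F1586)) (tt N314 F2268))
theorem Q244 : ∀ i, i < 244 → P i := stepQ 243 Q243 (allL N243 (tt N179 F1444) (tt N316 F2238) (tt N311 (iv F1573)) (tt N209 F2218) (tt N316 (iv F1591)) (tt N178 (iv D909)))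
theorem Q245 : ∀ i, i < 245 → P i := stepQ 244 Q244 (allL N244 (tt N290 (iv F2244)) (tt N179 (iv D910)) (tt N195 (iv F1447)) (tt N215 F1445) (tt N313 (iv F1585)) (tt N180 F1446))
theorem Q246 : ∀ i, i < 246 → P i := stepQ 245 Q245 (allL N245 (tt N180 (iv D911)) (tt N294 F2242) (tt N193 F1448) (tt N214 F1449) (tt N312 (iv F1582)) (tt N290 (iv F2245)))
theorem Q247 : ∀ i, i < 247 → P i := stepQ 246 Q246 (allL N246 (tt N181 (iv D912)) (tt N321 D1024) (tt N312 (iv F1581)) (tt N322 D1025) (tt N193 F1450) (tt N323 D1026))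
theorem Q248 : ∀ i, i < 248 → P i := stepQ 247 Q247 (allL N247 (tt N322 (iv F1601)) (tt N182 F1451) (tt N324 D1027) (tt N181 (iv D913)) (tt N325 D1028) (tt N326 D1029))
theorem Q249 : ∀ i, i < 249 → P i := stepQ 248 Q248 (allL N248 (tt N323 (iv F1602)) (tt N327 D1030) (tt N313 (iv F1584)) (tt N326 (iv F1608)) (tt N195 F1452) (tt N181 (iv D914)))
theorem Q250 : ∀ i, i < 250 → P i := stepQ 249 Q249 (allL N249 (tt N188 F1453) (tt N325 (iv F1606)) (tt N235 F1454) (tt N196 F1455) (tt N182 (iv D915)) (tt N328 D1031))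
theorem Q251 : ∀ i, i < 251 → P i := stepQ 250 Q250 (allL N250 (tt N189 F1456) (tt N329 D1032) (tt N236 F1457) (tt N183 F1458) (tt N328 (iv F1614)) (tt N182 (iv D916)))
theorem Q252 : ∀ i, i < 252 → P i := stepQ 251 Q251 (allL N251 (tt N330 D1033) (tt N183 (iv D917)) (tt N309 (iv F1570)) (tt N329 (iv F1615)) (tt N198 F1459) (tt N327 (iv F1610)))
theorem Q253 : ∀ i, i < 253 → P i := stepQ 252 Q252 (allL N252 (tt N331 D1034) (tt N184 (iv D918)) (tt N332 D1035) (tt N234 (iv F2232)) (tt N199 F1460) (tt N233 (iv F2239)))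
theorem Q254 : ∀ i, i < 254 → P i := stepQ 253 Q253 (allL N253 (tt N185 F1461) (tt N234 F2246) (tt N271 (iv F2261)) (tt N184 (iv D919)) (tt N333 D1038) (tt N237 (iv F2265)))
theorem Q255 : ∀ i, i < 255 → P i := stepQ 254 Q254 (allL N254 (tt N186 F1462) (tt N236 (iv F2270)) (tt N192 F1463) (tt N237 (iv F2264)) (tt N201 F1464) (tt N184 (iv D920)))
theorem Q256 : ∀ i, i < 256 → P i := stepQ 255 Q255 (allL N255 (tt N271 F2277) (tt N334 D1041) (tt N185 (iv D921)) (tt N279 (iv F1503)) (tt N335 D1042) (tt N274 (iv F2297)))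
theorem Q257 : ∀ i, i < 257 → P i := stepQ 256 Q256 (allL N256 (tt N333 (iv F1622)) (tt N188 F1465) (tt N335 (iv F1628)) (tt N203 F1466) (tt N185 (iv D922)) (tt N336 D1044))
theorem Q258 : ∀ i, i < 258 → P i := stepQ 257 Q257 (allL N257 (tt N237 F2281) (tt N337 D1045) (tt N274 (iv F2296)) (tt N186 F1467) (tt N336 (iv F1631)) (tt N185 (iv D923)))
theorem Q259 : ∀ i, i < 259 → P i := stepQ 258 Q258 (allL N258 (tt N258 F2148) (tt N186 (iv D924)) (tt N258 F1468) (tt N337 (iv F1632)) (tt N205 F1469) (tt N190 F1470))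
theorem Q260 : ∀ i, i < 260 → P i := stepQ 259 Q259 (allL N259 (tt N338 D1047) (tt N187 (iv D925)) (tt N334 (iv F1627)) (tt N226 F1471) (tt N339 D1048) (tt N259 F2167))
theorem Q261 : ∀ i, i < 261 → P i := stepQ 260 Q260 (allL N260 (tt N235 F1472) (tt N339 (iv F1638)) (tt N188 F1473) (tt N340 D1050) (tt N187 (iv D926)) (tt N341 D1051))
theorem Q262 : ∀ i, i < 262 → P i := stepQ 261 Q261 (allL N261 (tt N236 F1474) (tt N261 F2157) (tt N189 F1475) (tt N227 F1476) (tt N341 (iv F1645)) (tt N187 (iv D927)))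
theorem Q263 : ∀ i, i < 263 → P i := stepQ 262 Q262 (allL N262 (tt N328 (iv F1611)) (tt N342 D1053) (tt N341 (iv F1644)) (tt N206 F1477) (tt N189 F1478) (tt N188 (iv D928)))
theorem Q264 : ∀ i, i < 264 → P i := stepQ 263 Q263 (allL N263 (tt N263 F2149) (tt N189 (iv D929)) (tt N263 F2150) (tt N190 F1479) (tt N342 (iv F1648)) (tt N337 (iv F1633)))
theorem Q265 : ∀ i, i < 265 → P i := stepQ 264 Q264 (allL N264 (tt N218 (iv F2221)) (tt N332 (iv F1618)) (tt N191 (iv D932)) (tt N332 F1927) (tt N209 F1485) (tt N216 (iv F2220)))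
theorem Q266 : ∀ i, i < 266 → P i := stepQ 265 Q265 (allL N265 (tt N343 D1062) (tt N192 (iv D934)) (tt N329 (iv F2309)) (tt N211 F1488) (tt N211 F1489) (tt N220 (iv F2187)))
theorem Q267 : ∀ i, i < 267 → P i := stepQ 266 Q266 (allL N266 (tt N344 D1064) (tt N193 (iv D935)) (tt N345 D1065) (tt N346 D1066) (tt N321 (iv F1600)) (tt N344 F2326))
theorem Q268 : ∀ i, i < 268 → P i := stepQ 267 Q267 (allL N267 (tt N194 F1490) (tt N346 (iv F1665)) (tt N347 D1068) (tt N193 (iv D936)) (tt N348 D1069) (tt N347 F2291))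
theorem Q269 : ∀ i, i < 269 → P i := stepQ 268 Q268 (allL N268 (tt N195 F1491) (tt N317 (iv F2274)) (tt N290 F2258) (tt N347 (iv F2275)) (tt N323 (iv F1603)) (tt N193 (iv D937)))
theorem Q270 : ∀ i, i < 270 → P i := stepQ 269 Q269 (allL N269 (tt N347 (iv F1666)) (tt N202 F1492) (tt N194 (iv D938)) (tt N195 F2262) (tt N349 D1073) (tt N194 (iv F2280)))
theorem Q271 : ∀ i, i < 271 → P i := stepQ 270 Q270 (allL N270 (tt N348 (iv F1667)) (tt N196 F1493) (tt N349 (iv F1672)) (tt N325 (iv F1607)) (tt N194 (iv D939)) (tt N349 F2301))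
theorem Q272 : ∀ i, i < 272 → P i := stepQ 271 Q271 (allL N271 (tt N255 (iv F2277)) (tt N195 (iv D941)) (tt N253 F2261) (tt N202 (iv F2278)) (tt N327 (iv F1609)) (tt N198 F1495))
theorem Q273 : ∀ i, i < 273 → P i := stepQ 272 Q272 (allL N272 (tt N206 F1496) (tt N350 D1078) (tt N206 F1497) (tt N328 (iv F1613)) (tt N197 F1498) (tt N196 (iv D942)))
theorem Q274 : ∀ i, i < 274 → P i := stepQ 273 Q273 (allL N273 (tt N351 D1079) (tt N197 (iv D943)) (tt N204 (iv F2315)) (tt N198 F1499) (tt N350 (iv F1678)) (tt N202 F2298))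
theorem Q275 : ∀ i, i < 275 → P i := stepQ 274 Q274 (allL N274 (tt N198 (iv D944)) (tt N274 F2175) (tt N257 F2296) (tt N351 (iv F1679)) (tt N330 (iv F1616)) (tt N255 F2297))
theorem Q276 : ∀ i, i < 276 → P i := stepQ 275 Q275 (allL N275 (tt N199 (iv D945)) (tt N344 (iv F1664)) (tt N318 F2247) (tt N352 D1083) (tt N331 (iv F1617)) (tt N317 (iv F2255)))
theorem Q277 : ∀ i, i < 277 → P i := stepQ 276 Q276 (allL N276 (tt N318 (iv F2243)) (tt N209 F1500) (tt N199 (iv D946)) (tt N316 F2229) (tt N332 (iv F1619)) (tt N315 (iv F2240)))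
theorem Q278 : ∀ i, i < 278 → P i := stepQ 277 Q277 (allL N277 (tt N352 (iv F1682)) (tt N200 F1501) (tt N353 D1087) (tt N199 (iv D947)) (tt N354 D1088) (tt N355 D1089))
theorem Q279 : ∀ i, i < 279 → P i := stepQ 278 Q278 (allL N278 (tt N317 (iv F2254)) (tt N235 (iv F2269)) (tt N315 F2248) (tt N355 (iv F1687)) (tt N233 F2249) (tt N199 (iv D948)))
theorem Q280 : ∀ i, i < 280 → P i := stepQ 279 Q279 (allL N279 (tt N202 F1502) (tt N356 D1091) (tt N200 (iv D949)) (tt N255 F1503) (tt N357 D1092) (tt N351 (iv F2312)))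
theorem Q281 : ∀ i, i < 281 → P i := stepQ 280 Q280 (allL N280 (tt N203 F1504) (tt N354 (iv F1686)) (tt N357 (iv F1691)) (tt N333 (iv F1623)) (tt N200 (iv D950)) (tt N358 D1094))
theorem Q282 : ∀ i, i < 282 → P i := stepQ 281 Q281 (allL N281 (tt N204 F1505) (tt N359 D1095) (tt N351 F2329) (tt N201 F1506) (tt N358 (iv F1696)) (tt N200 (iv D951)))
theorem Q283 : ∀ i, i < 283 → P i := stepQ 282 Q282 (allL N282 (tt N341 (iv F2306)) (tt N201 (iv D952)) (tt N328 (iv F2307)) (tt N359 (iv F1697)) (tt N236 F2286) (tt N235 F2287))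
theorem Q284 : ∀ i, i < 284 → P i := stepQ 283 Q283 (allL N283 (tt N357 (iv F1690)) (tt N349 (iv F1671)) (tt N203 F1509) (tt N360 D1100) (tt N202 (iv D954)) (tt N350 (iv F2316)))
theorem Q285 : ∀ i, i < 285 → P i := stepQ 284 Q284 (allL N284 (tt N358 (iv F1695)) (tt N361 D1103) (tt N350 F2334) (tt N336 (iv F1630)) (tt N204 F1511) (tt N203 (iv D956)))
theorem Q286 : ∀ i, i < 286 → P i := stepQ 285 Q285 (allL N285 (tt N285 F2155) (tt N204 (iv D957)) (tt N207 (iv F2335)) (tt N205 F1512) (tt N361 (iv F1706)) (tt N207 F1513))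
theorem Q287 : ∀ i, i < 287 → P i := stepQ 286 Q286 (allL N286 (tt N286 F2158) (tt N206 (iv D959)) (tt N361 F2336) (tt N342 (iv F1647)) (tt N207 F1516) (tt N361 (iv F1707)))
theorem Q288 : ∀ i, i < 288 → P i := stepQ 287 Q287 (allL N287 (tt N362 D1123) (tt N210 (iv D967)) (tt N360 (iv F2183)) (tt N220 (iv F2185)) (tt N220 (iv F2186)) (tt N211 F1521))
theorem Q289 : ∀ i, i < 289 → P i := stepQ 288 Q288 (allL N288 (tt N211 (iv D968)) (tt N363 D1125) (tt N364 D1126) (tt N343 (iv F1661)) (tt N343 (iv F1662)) (tt N362 (iv F1720)))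
theorem Q290 : ∀ i, i < 290 → P i := stepQ 289 Q289 (allL N289 (tt N364 (iv F1723)) (tt N328 F2320) (tt N211 (iv D969)) (tt N350 F2321) (tt N329 F2322) (tt N360 (iv F2184)))
theorem Q291 : ∀ i, i < 291 → P i := stepQ 290 Q290 (allL N290 (tt N244 F2244) (tt N213 F1529) (tt N268 (iv F2258)) (tt N212 (iv D973)) (tt N295 (iv F1542)) (tt N245 F2245))
theorem Q292 : ∀ i, i < 292 → P i := stepQ 291 Q291 (allL N291 (tt N365 D1141) (tt N216 (iv D977)) (tt N326 F2288) (tt N324 F1605) (tt N298 (iv F1544)) (tt N324 F2289))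
theorem Q293 : ∀ i, i < 293 → P i := stepQ 292 Q292 (allL N292 (tt N217 F1534) (tt N324 (iv F1604)) (tt N233 F1535) (tt N216 (iv D978)) (tt N315 (iv F1588)) (tt N332 F2224))
theorem Q294 : ∀ i, i < 294 → P i := stepQ 293 Q293 (allL N293 (tt N233 F1538) (tt N323 F2290) (tt N217 (iv D980)) (tt N232 F1539) (tt N317 (iv F1593)) (tt N331 F2241))
theorem Q295 : ∀ i, i < 295 → P i := stepQ 294 Q294 (allL N294 (tt N332 F2228) (tt N245 (iv F2242)) (tt N331 (iv F2236)) (tt N218 F1540) (tt N318 (iv F1595)) (tt N217 (iv D981)))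
theorem Q296 : ∀ i, i < 296 → P i := stepQ 295 Q295 (allL N295 (tt N313 F2259) (tt N219 (iv D982)) (tt N323 (iv F2276)) (tt N238 F1541) (tt N290 F1542) (tt N312 F2260))
theorem Q297 : ∀ i, i < 297 → P i := stepQ 296 Q296 (allL N296 (tt N220 (iv D983)) (tt N362 F2197) (tt N366 D1150) (tt N362 F2194) (tt N362 F2195) (tt N343 F2196))
theorem Q298 : ∀ i, i < 298 → P i := stepQ 297 Q297 (allL N297 (tt N366 (iv F1768)) (tt N326 F2299) (tt N220 (iv D984)) (tt N327 F2300) (tt N360 (iv F1773)) (tt N329 (iv F2310)))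
theorem Q299 : ∀ i, i < 299 → P i := stepQ 298 Q298 (allL N298 (tt N367 D1156) (tt N221 (iv D987)) (tt N368 D1157) (tt N242 F1543) (tt N291 F1544) (tt N369 D1158))
theorem Q300 : ∀ i, i < 300 → P i := stepQ 299 Q299 (allL N299 (tt N370 D1160) (tt N223 (iv D989)) (tt N226 F1549) (tt N371 D1161) (tt N226 F1550) (tt N299 F2178))
theorem Q301 : ∀ i, i < 301 → P i := stepQ 300 Q300 (allL N300 (tt N230 F1551) (tt N371 (iv F1789)) (tt N300 F1552) (tt N223 (iv D990)) (tt N340 (iv F1642)) (tt N372 D1163))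
theorem Q302 : ∀ i, i < 302 → P i := stepQ 301 Q301 (allL N301 (tt N231 F1553) (tt N301 F2166) (tt N224 F1554) (tt N372 (iv F1794)) (tt N227 F1555) (tt N223 (iv D991)))
theorem Q303 : ∀ i, i < 303 → P i := stepQ 302 Q302 (allL N302 (tt N302 F1556) (tt N224 (iv D992)) (tt N302 F2176) (tt N225 F1557) (tt N228 F1558) (tt N228 F1559))
theorem Q304 : ∀ i, i < 304 → P i := stepQ 303 Q303 (allL N303 (tt N226 (iv D993)) (tt N366 F1769) (tt N370 (iv F1787)) (tt N338 (iv F1637)) (tt N370 (iv F1788)) (tt N303 F2177))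
theorem Q305 : ∀ i, i < 305 → P i := stepQ 304 Q304 (allL N304 (tt N229 (iv D997)) (tt N373 D1171) (tt N239 F1561) (tt N374 D1172) (tt N232 F1562) (tt N375 D1173))
theorem Q306 : ∀ i, i < 306 → P i := stepQ 305 Q305 (allL N305 (tt N374 (iv F1806)) (tt N230 F1563) (tt N376 D1174) (tt N229 (iv D998)) (tt N355 F2283) (tt N354 F2284))
theorem Q307 : ∀ i, i < 307 → P i := stepQ 306 Q306 (allL N306 (tt N375 (iv F1807)) (tt N333 (iv F2263)) (tt N241 F1564) (tt N354 (iv F2266)) (tt N234 F1565) (tt N229 (iv D999)))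
theorem Q308 : ∀ i, i < 308 → P i := stepQ 307 Q307 (allL N307 (tt N340 (iv F1640)) (tt N355 F2285) (tt N307 F1566) (tt N235 F1567) (tt N230 (iv D1000)) (tt N359 (iv F2308)))
theorem Q309 : ∀ i, i < 309 → P i := stepQ 308 Q308 (allL N308 (tt N372 (iv F1792)) (tt N358 F2317) (tt N308 F1568) (tt N231 F1569) (tt N359 F2318) (tt N230 (iv D1001)))
theorem Q310 : ∀ i, i < 310 → P i := stepQ 309 Q309 (allL N309 (tt N336 (iv F2304)) (tt N231 (iv D1002)) (tt N251 F1570) (tt N358 (iv F2305)) (tt N237 F1571) (tt N333 F2282))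
theorem Q311 : ∀ i, i < 311 → P i := stepQ 310 Q310 (allL N310 (tt N326 F2293) (tt N232 (iv D1003)) (tt N365 (iv F1755)) (tt N323 F2294) (tt N373 (iv F1804)) (tt N322 (iv F2311)))
theorem Q312 : ∀ i, i < 312 → P i := stepQ 311 Q311 (allL N311 (tt N234 F1572) (tt N377 D1182) (tt N243 F1573) (tt N331 (iv F2237)) (tt N375 (iv F1809)) (tt N232 (iv D1004)))
theorem Q313 : ∀ i, i < 313 → P i := stepQ 312 Q312 (allL N312 (tt N238 (iv D1011)) (tt N318 F2256) (tt N246 F1581) (tt N313 F2257) (tt N245 F1582) (tt N295 (iv F2260)))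
theorem Q314 : ∀ i, i < 314 → P i := stepQ 313 Q313 (allL N313 (tt N295 (iv F2259)) (tt N241 F1583) (tt N248 F1584) (tt N312 (iv F2257)) (tt N244 F1585) (tt N238 (iv D1012)))
theorem Q315 : ∀ i, i < 315 → P i := stepQ 314 Q314 (allL N314 (tt N320 F1757) (tt N239 (iv D1013)) (tt N319 (iv F1758)) (tt N369 (iv F2253)) (tt N242 F1586) (tt N242 (iv F2268)))
theorem Q316 : ∀ i, i < 316 → P i := stepQ 315 Q315 (allL N315 (tt N240 F1587) (tt N369 (iv F2251)) (tt N278 (iv F2248)) (tt N239 (iv D1014)) (tt N292 F1588) (tt N276 F2240))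
theorem Q317 : ∀ i, i < 317 → P i := stepQ 316 Q316 (allL N316 (tt N241 F1590) (tt N243 (iv F2238)) (tt N375 (iv F1808)) (tt N276 (iv F2229)) (tt N243 F1591) (tt N239 (iv D1015)))
theorem Q318 : ∀ i, i < 318 → P i := stepQ 317 Q317 (allL N317 (tt N278 F2254) (tt N268 F2274) (tt N240 (iv D1016)) (tt N378 D1196) (tt N293 F1593) (tt N275 F2255))
theorem Q319 : ∀ i, i < 319 → P i := stepQ 318 Q318 (allL N318 (tt N276 F2243) (tt N312 (iv F2256)) (tt N275 (iv F2247)) (tt N241 F1594) (tt N294 F1595) (tt N240 (iv D1017)))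
theorem Q320 : ∀ i, i < 320 → P i := stepQ 319 Q319 (allL N319 (tt N242 (iv D1018)) (tt N367 (iv F1777)) (tt N314 F1758) (tt N367 (iv F1778)) (tt N320 (iv F1759)) (tt N320 F2267))
theorem Q321 : ∀ i, i < 321 → P i := stepQ 320 Q320 (allL N320 (tt N314 (iv F1757)) (tt N365 F1756) (tt N242 (iv D1019)) (tt N379 D1199) (tt N319 F1759) (tt N319 (iv F2267)))
theorem Q322 : ∀ i, i < 322 → P i := stepQ 321 Q321 (allL N321 (tt N345 (iv F1941)) (tt N246 (iv D1024)) (tt N344 (iv F1943)) (tt N380 D1210) (tt N266 F1600) (tt N345 (iv F2328)))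
theorem Q323 : ∀ i, i < 323 → P i := stepQ 322 Q322 (allL N322 (tt N247 F1601) (tt N380 (iv F1864)) (tt N381 D1212) (tt N246 (iv D1025)) (tt N382 D1213) (tt N310 F2311))
theorem Q324 : ∀ i, i < 324 → P i := stepQ 323 Q323 (allL N323 (tt N248 F1602) (tt N293 (iv F2290)) (tt N295 F2276) (tt N310 (iv F2294)) (tt N268 F1603) (tt N246 (iv D1026)))
theorem Q325 : ∀ i, i < 325 → P i := stepQ 324 Q324 (allL N324 (tt N381 (iv F1866)) (tt N292 F1604) (tt N247 (iv D1027)) (tt N291 (iv F1605)) (tt N369 F2271) (tt N291 (iv F2289)))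
theorem Q326 : ∀ i, i < 326 → P i := stepQ 325 Q325 (allL N325 (tt N382 (iv F1870)) (tt N249 F1606) (tt N369 (iv F2252)) (tt N270 F1607) (tt N247 (iv D1028)) (tt N368 (iv F2303)))
theorem Q327 : ∀ i, i < 327 → P i := stepQ 326 Q326 (allL N326 (tt N310 (iv F2293)) (tt N297 (iv F2299)) (tt N291 (iv F2288)) (tt N248 F1608) (tt N368 (iv F2302)) (tt N247 (iv D1029)))
theorem Q328 : ∀ i, i < 328 → P i := stepQ 327 Q327 (allL N327 (tt N335 (iv F2295)) (tt N248 (iv D1030)) (tt N333 F2279) (tt N297 (iv F2300)) (tt N271 F1609) (tt N251 F1610))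
theorem Q329 : ∀ i, i < 329 → P i := stepQ 328 Q328 (allL N328 (tt N262 F1611) (tt N289 (iv F2320)) (tt N282 F2307) (tt N272 F1613) (tt N250 F1614) (tt N249 (iv D1031)))
theorem Q330 : ∀ i, i < 330 → P i := stepQ 329 Q329 (allL N329 (tt N383 D1221) (tt N250 (iv D1032)) (tt N265 F2309) (tt N251 F1615) (tt N289 (iv F2322)) (tt N297 F2310))
theorem Q331 : ∀ i, i < 331 → P i := stepQ 330 Q330 (allL N330 (tt N251 (iv D1033)) (tt N330 F2189) (tt N336 F2313) (tt N383 (iv F1886)) (tt N274 F1616) (tt N335 F2314))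
theorem Q332 : ∀ i, i < 332 → P i := stepQ 331 Q331 (allL N331 (tt N252 (iv D1034)) (tt N345 (iv F1942)) (tt N294 F2236) (tt N311 F2237) (tt N275 F1617) (tt N293 (iv F2241)))
theorem Q333 : ∀ i, i < 333 → P i := stepQ 332 Q332 (allL N332 (tt N294 (iv F2228)) (tt N264 F1618) (tt N252 (iv D1035)) (tt N264 (iv F1927)) (tt N276 F1619) (tt N292 (iv F2224)))
theorem Q334 : ∀ i, i < 334 → P i := stepQ 333 Q333 (allL N333 (tt N256 F1622) (tt N306 F2263) (tt N327 (iv F2279)) (tt N280 F1623) (tt N253 (iv D1038)) (tt N309 (iv F2282)))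
theorem Q335 : ∀ i, i < 335 → P i := stepQ 334 Q334 (allL N334 (tt N339 (iv F1741)) (tt N255 (iv D1041)) (tt N259 F1627) (tt N356 (iv F1689)) (tt N338 F1743) (tt N334 F2173))
theorem Q336 : ∀ i, i < 336 → P i := stepQ 335 Q335 (allL N335 (tt N327 F2295) (tt N338 (iv F1744)) (tt N256 F1628) (tt N366 (iv F1770)) (tt N255 (iv D1042)) (tt N330 (iv F2314)))
theorem Q337 : ∀ i, i < 337 → P i := stepQ 336 Q336 (allL N336 (tt N309 F2304) (tt N384 D1240) (tt N330 (iv F2313)) (tt N284 F1630) (tt N257 F1631) (tt N256 (iv D1044)))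
theorem Q338 : ∀ i, i < 338 → P i := stepQ 337 Q337 (allL N337 (tt N337 F2146) (tt N257 (iv D1045)) (tt N337 F2147) (tt N258 F1632) (tt N384 (iv F1915)) (tt N263 F1633))
theorem Q339 : ∀ i, i < 339 → P i := stepQ 338 Q338 (allL N338 (tt N259 (iv D1047)) (tt N335 F1744) (tt N339 F1742) (tt N303 F1637) (tt N334 (iv F1743)) (tt N338 F2172))
theorem Q340 : ∀ i, i < 340 → P i := stepQ 339 Q339 (allL N339 (tt N334 F1741) (tt N260 F1638) (tt N338 (iv F1742)) (tt N385 D1245) (tt N259 (iv D1048)) (tt N339 F2174))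
theorem Q341 : ∀ i, i < 341 → P i := stepQ 340 Q340 (allL N340 (tt N307 F1640) (tt N385 (iv F1925)) (tt N340 F1641) (tt N260 (iv D1050)) (tt N300 F1642) (tt N386 D1248))
theorem Q342 : ∀ i, i < 342 → P i := stepQ 341 Q341 (allL N341 (tt N282 F2306) (tt N341 F2163) (tt N262 F1644) (tt N386 (iv F1959)) (tt N261 F1645) (tt N260 (iv D1051)))
theorem Q343 : ∀ i, i < 343 → P i := stepQ 342 Q342 (allL N342 (tt N342 F2153) (tt N262 (iv D1053)) (tt N342 F2154) (tt N286 F1647) (tt N263 F1648) (tt N384 (iv F1916)))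
theorem Q344 : ∀ i, i < 344 → P i := stepQ 343 Q343 (allL N343 (tt N265 (iv D1062)) (tt N387 D1264) (tt N383 (iv F2324)) (tt N288 F1661) (tt N288 F1662) (tt N296 (iv F2196)))
theorem Q345 : ∀ i, i < 345 → P i := stepQ 344 Q344 (allL N344 (tt N266 (iv D1064)) (tt N275 F1664) (tt N321 F1943) (tt N388 D1267) (tt N345 F1944) (tt N266 (iv F2326)))
theorem Q346 : ∀ i, i < 346 → P i := stepQ 345 Q345 (allL N345 (tt N321 F1941) (tt N331 F1942) (tt N266 (iv D1065)) (tt N377 (iv F2235)) (tt N344 (iv F1944)) (tt N321 F2328))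
theorem Q347 : ∀ i, i < 347 → P i := stepQ 346 Q346 (allL N346 (tt N388 (iv F1987)) (tt N267 F1665) (tt N389 D1271) (tt N266 (iv D1066)) (tt N390 D1272) (tt N388 (iv F2327)))
theorem Q348 : ∀ i, i < 348 → P i := stepQ 347 Q347 (allL N347 (tt N269 F1666) (tt N378 (iv F1844)) (tt N267 (iv D1068)) (tt N268 F2275) (tt N391 D1275) (tt N267 (iv F2291)))
theorem Q349 : ∀ i, i < 349 → P i := stepQ 348 Q348 (allL N348 (tt N270 F1667) (tt N390 (iv F1996)) (tt N391 (iv F2001)) (tt N382 (iv F1872)) (tt N267 (iv D1069)) (tt N391 (iv F2292)))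
theorem Q350 : ∀ i, i < 350 → P i := stepQ 349 Q349 (allL N349 (tt N391 (iv F1999)) (tt N283 F1671) (tt N270 F1672) (tt N368 F1782) (tt N269 (iv D1073)) (tt N270 (iv F2301)))
theorem Q351 : ∀ i, i < 351 → P i := stepQ 350 Q350 (allL N350 (tt N392 D1289) (tt N272 (iv D1078)) (tt N284 (iv F2334)) (tt N289 (iv F2321)) (tt N273 F1678) (tt N283 F2316))
theorem Q352 : ∀ i, i < 352 → P i := stepQ 351 Q351 (allL N351 (tt N273 (iv D1079)) (tt N351 F2188) (tt N281 (iv F2329)) (tt N274 F1679) (tt N392 (iv F2021)) (tt N279 F2312))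
theorem Q353 : ∀ i, i < 353 → P i := stepQ 352 Q352 (allL N352 (tt N277 F1682) (tt N388 (iv F1988)) (tt N393 D1299) (tt N275 (iv D1083)) (tt N394 D1300) (tt N378 (iv F2273)))
theorem Q354 : ∀ i, i < 354 → P i := stepQ 353 Q353 (allL N353 (tt N393 (iv F2035)) (tt N395 D1306) (tt N277 (iv D1087)) (tt N396 D1307) (tt N396 F2047) (tt N397 D1308))
theorem Q355 : ∀ i, i < 355 → P i := stepQ 354 Q354 (allL N354 (tt N394 (iv F2036)) (tt N280 F1686) (tt N396 (iv F2046)) (tt N306 F2266) (tt N277 (iv D1088)) (tt N305 (iv F2284)))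
theorem Q356 : ∀ i, i < 356 → P i := stepQ 355 Q355 (allL N355 (tt N378 (iv F2272)) (tt N307 (iv F2285)) (tt N397 (iv F2048)) (tt N278 F1687) (tt N305 (iv F2283)) (tt N277 (iv D1089)))
theorem Q357 : ∀ i, i < 357 → P i := stepQ 356 Q356 (allL N356 (tt N385 (iv F1924)) (tt N279 (iv D1091)) (tt N395 (iv F2045)) (tt N334 F1689) (tt N398 D1313) (tt N356 F2179))
theorem Q358 : ∀ i, i < 358 → P i := stepQ 357 Q357 (allL N357 (tt N283 F1690) (tt N398 (iv F2055)) (tt N280 F1691) (tt N399 D1315) (tt N279 (iv D1092)) (tt N392 (iv F2333)))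
theorem Q359 : ∀ i, i < 359 → P i := stepQ 358 Q358 (allL N358 (tt N284 F1695) (tt N308 (iv F2317)) (tt N392 (iv F2331)) (tt N309 F2305) (tt N281 F1696) (tt N280 (iv D1094)))
theorem Q360 : ∀ i, i < 360 → P i := stepQ 359 Q359 (allL N359 (tt N386 (iv F2319)) (tt N281 (iv D1095)) (tt N359 F2323) (tt N282 F1697) (tt N308 (iv F2318)) (tt N307 F2308))
theorem Q361 : ∀ i, i < 361 → P i := stepQ 360 Q360 (allL N360 (tt N399 (iv F2058)) (tt N368 (iv F1780)) (tt N287 F2183) (tt N283 (iv D1100)) (tt N297 F1773) (tt N289 F2184))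
theorem Q362 : ∀ i, i < 362 → P i := stepQ 361 Q361 (allL N361 (tt N361 F2160) (tt N284 (iv D1103)) (tt N286 (iv F2336)) (tt N384 (iv F1914)) (tt N285 F1706) (tt N286 F1707))
theorem Q363 : ∀ i, i < 363 → P i := stepQ 362 Q362 (allL N362 (tt N287 (iv D1123)) (tt N296 (iv F2197)) (tt N399 (iv F2192)) (tt N296 (iv F2194)) (tt N296 (iv F2195)) (tt N288 F1720))
theorem Q364 : ∀ i, i < 364 → P i := stepQ 363 Q363 (allL N363 (tt N363 F1722) (tt N288 (iv D1125)) (tt N363 F2180) (tt N387 (iv F1983)) (tt N387 (iv F1984)) (tt N387 (iv F2347)))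
theorem Q365 : ∀ i, i < 365 → P i := stepQ 364 Q364 (allL N364 (tt N289 F1723) (tt N364 F2181) (tt N288 (iv D1126)) (tt N392 (iv F2332)) (tt N383 (iv F2325)) (tt N399 (iv F2193)))
theorem Q366 : ∀ i, i < 366 → P i := stepQ 365 Q365 (allL N365 (tt N291 (iv D1141)) (tt N320 (iv F1756)) (tt N310 F1755) (tt N381 (iv F1867)) (tt N367 (iv F1779)) (tt N381 F2350))
theorem Q367 : ∀ i, i < 367 → P i := stepQ 366 Q366 (allL N366 (tt N297 F1768) (tt N303 (iv F1769)) (tt N296 (iv D1150)) (tt N335 F1770) (tt N399 (iv F2061)) (tt N383 F2352))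
theorem Q368 : ∀ i, i < 368 → P i := stepQ 367 Q367 (allL N367 (tt N298 (iv D1156)) (tt N319 F1777) (tt N373 (iv F1803)) (tt N319 F1778) (tt N365 F1779) (tt N379 (iv F2349)))
theorem Q369 : ∀ i, i < 369 → P i := stepQ 368 Q368 (allL N368 (tt N373 F1805) (tt N360 F1780) (tt N298 (iv D1157)) (tt N349 (iv F1782)) (tt N326 F2302) (tt N325 F2303))
theorem Q370 : ∀ i, i < 370 → P i := stepQ 369 Q369 (allL N369 (tt N379 F2250) (tt N315 F2251) (tt N325 F2252) (tt N314 F2253) (tt N324 (iv F2271)) (tt N298 (iv D1158)))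
theorem Q371 : ∀ i, i < 371 → P i := stepQ 370 Q370 (allL N370 (tt N299 (iv D1160)) (tt N399 (iv F2059)) (tt N303 F1787) (tt N398 (iv F2056)) (tt N303 F1788) (tt N370 F2345))
theorem Q372 : ∀ i, i < 372 → P i := stepQ 371 Q371 (allL N371 (tt N398 (iv F2054)) (tt N300 F1789) (tt N400 D1373) (tt N299 (iv D1161)) (tt N385 (iv F1926)) (tt N371 F2342))
theorem Q373 : ∀ i, i < 373 → P i := stepQ 372 Q372 (allL N372 (tt N308 F1792) (tt N372 F2341) (tt N372 F1793) (tt N301 F1794) (tt N386 (iv F1960)) (tt N300 (iv D1163)))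
theorem Q374 : ∀ i, i < 374 → P i := stepQ 373 Q373 (allL N373 (tt N368 (iv F1805)) (tt N304 (iv D1171)) (tt N367 F1803) (tt N391 (iv F2002)) (tt N310 F1804) (tt N382 F2351))
theorem Q375 : ∀ i, i < 375 → P i := stepQ 374 Q374 (allL N374 (tt N305 F1806) (tt N391 (iv F2000)) (tt N401 D1374) (tt N304 (iv D1172)) (tt N378 (iv F1845)) (tt N394 (iv F2358)))
theorem Q376 : ∀ i, i < 376 → P i := stepQ 375 Q375 (allL N375 (tt N306 F1807) (tt N402 D1375) (tt N316 F1808) (tt N394 F2233) (tt N311 F1809) (tt N304 (iv D1173)))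
theorem Q377 : ∀ i, i < 377 → P i := stepQ 376 Q376 (allL N376 (tt N401 (iv F2361)) (tt N376 F1810) (tt N305 (iv D1174)) (tt N397 F2353) (tt N397 F2356) (tt N396 (iv F2355)))
theorem Q378 : ∀ i, i < 378 → P i := stepQ 377 Q377 (allL N377 (tt N380 F2234) (tt N311 (iv D1182)) (tt N402 (iv F2362)) (tt N345 F2235) (tt N402 (iv F2363)) (tt N380 (iv F2348)))
theorem Q379 : ∀ i, i < 379 → P i := stepQ 378 Q378 (allL N378 (tt N355 F2272) (tt N347 F1844) (tt N403 D1376) (tt N317 (iv D1196)) (tt N374 F1845) (tt N352 F2273))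
theorem Q380 : ∀ i, i < 380 → P i := stepQ 379 Q379 (allL N379 (tt N369 (iv F2250)) (tt N381 F1868) (tt N382 (iv F1871)) (tt N320 (iv D1199)) (tt N381 F1869) (tt N367 F2349))
theorem Q381 : ∀ i, i < 381 → P i := stepQ 380 Q380 (allL N380 (tt N377 (iv F2234)) (tt N322 F1864) (tt N404 D1377) (tt N321 (iv D1210)) (tt N404 F2372) (tt N377 F2348))
theorem Q382 : ∀ i, i < 382 → P i := stepQ 381 Q381 (allL N381 (tt N324 F1866) (tt N379 (iv F1868)) (tt N322 (iv D1212)) (tt N365 F1867) (tt N379 (iv F1869)) (tt N365 (iv F2350)))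
theorem Q383 : ∀ i, i < 383 → P i := stepQ 382 Q382 (allL N382 (tt N325 F1870) (tt N404 (iv F2370)) (tt N379 F1871) (tt N348 F1872) (tt N322 (iv D1213)) (tt N373 (iv F2351)))
theorem Q384 : ∀ i, i < 384 → P i := stepQ 383 Q383 (allL N383 (tt N329 (iv D1221)) (tt N383 F2346) (tt N343 F2324) (tt N330 F1886) (tt N364 F2325) (tt N366 (iv F2352)))
theorem Q385 : ∀ i, i < 385 → P i := stepQ 384 Q384 (allL N384 (tt N384 F2338) (tt N336 (iv D1240)) (tt N384 F2337) (tt N361 F1914) (tt N337 F1915) (tt N342 F1916))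
theorem Q386 : ∀ i, i < 386 → P i := stepQ 385 Q385 (allL N385 (tt N356 F1924) (tt N340 F1925) (tt N405 D1378) (tt N339 (iv D1245)) (tt N371 F1926) (tt N385 F2344))
theorem Q387 : ∀ i, i < 387 → P i := stepQ 386 Q386 (allL N386 (tt N359 F2319) (tt N386 F2340) (tt N386 F1958) (tt N341 F1959) (tt N372 F1960) (tt N340 (iv D1248)))
theorem Q388 : ∀ i, i < 388 → P i := stepQ 387 Q387 (allL N387 (tt N387 F1982) (tt N343 (iv D1264)) (tt N387 F2339) (tt N363 F1983) (tt N363 F1984) (tt N363 F2347))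
theorem Q389 : ∀ i, i < 389 → P i := stepQ 388 Q388 (allL N388 (tt N346 F1987) (tt N352 F1988) (tt N406 D1379) (tt N344 (iv D1267)) (tt N407 D1380) (tt N346 F2327))
theorem Q390 : ∀ i, i < 390 → P i := stepQ 389 Q389 (allL N389 (tt N406 (iv F2379)) (tt N403 (iv F2365)) (tt N346 (iv D1271)) (tt N408 D1381) (tt N408 F2387) (tt N406 (iv F2380)))
theorem Q391 : ∀ i, i < 391 → P i := stepQ 390 Q390 (allL N390 (tt N407 (iv F2381)) (tt N348 F1996) (tt N408 (iv F2386)) (tt N404 (iv F2373)) (tt N346 (iv D1272)) (tt N407 (iv F2384)))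
theorem Q392 : ∀ i, i < 392 → P i := stepQ 391 Q391 (allL N391 (tt N349 F1999) (tt N374 F2000) (tt N348 F2001) (tt N373 F2002) (tt N347 (iv D1275)) (tt N348 F2292))
theorem Q393 : ∀ i, i < 393 → P i := stepQ 392 Q392 (allL N392 (tt N350 (iv D1289)) (tt N392 F2330) (tt N358 F2331) (tt N364 F2332) (tt N351 F2021) (tt N357 F2333))
theorem Q394 : ∀ i, i < 394 → P i := stepQ 393 Q393 (allL N393 (tt N353 F2035) (tt N409 D1382) (tt N352 (iv D1299)) (tt N410 D1383) (tt N410 F2392) (tt N403 (iv F2368)))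
theorem Q395 : ∀ i, i < 395 → P i := stepQ 394 Q394 (allL N394 (tt N354 F2036) (tt N407 (iv F2382)) (tt N410 (iv F2390)) (tt N375 (iv F2233)) (tt N352 (iv D1300)) (tt N374 F2358))
theorem Q396 : ∀ i, i < 396 → P i := stepQ 395 Q395 (allL N395 (tt N405 (iv F2374)) (tt N353 (iv D1306)) (tt N356 F2045) (tt N411 D1384) (tt N411 F2397) (tt N395 F2357))
theorem Q397 : ∀ i, i < 397 → P i := stepQ 396 Q396 (allL N396 (tt N410 (iv F2389)) (tt N411 (iv F2394)) (tt N354 F2046) (tt N353 (iv D1307)) (tt N353 (iv F2047)) (tt N376 F2355))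
theorem Q398 : ∀ i, i < 398 → P i := stepQ 397 Q397 (allL N397 (tt N403 (iv F2364)) (tt N397 F2354) (tt N355 F2048) (tt N376 (iv F2353)) (tt N376 (iv F2356)) (tt N353 (iv D1308)))
theorem Q399 : ∀ i, i < 399 → P i := stepQ 398 Q398 (allL N398 (tt N371 F2054) (tt N357 F2055) (tt N411 (iv F2395)) (tt N370 F2056) (tt N356 (iv D1313)) (tt N398 F2343))
theorem Q400 : ∀ i, i < 400 → P i := stepQ 399 Q399 (allL N399 (tt N360 F2058) (tt N370 F2059) (tt N362 F2192) (tt N357 (iv D1315)) (tt N366 F2061) (tt N364 F2193))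
theorem Q401 : ∀ i, i < 401 → P i := stepQ 400 Q400 (allL N400 (tt N411 (iv F2393)) (tt N400 F2359) (tt N371 (iv D1373)) (tt N405 (iv F2378)) (tt N405 (iv F2376)) (tt N400 F2360))
theorem Q402 : ∀ i, i < 402 → P i := stepQ 401 Q401 (allL N401 (tt N376 F2361) (tt N408 (iv F2385)) (tt N374 (iv D1374)) (tt N403 (iv F2366)) (tt N403 (iv F2367)) (tt N410 (iv F2391)))
theorem Q403 : ∀ i, i < 403 → P i := stepQ 402 Q402 (allL N402 (tt N404 (iv F2369)) (tt N375 (iv D1375)) (tt N377 F2362) (tt N407 (iv F2383)) (tt N377 F2363) (tt N404 (iv F2371)))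
theorem Q404 : ∀ i, i < 404 → P i := stepQ 403 Q403 (allL N403 (tt N397 F2364) (tt N389 F2365) (tt N378 (iv D1376)) (tt N401 F2366) (tt N401 F2367) (tt N393 F2368))
theorem Q405 : ∀ i, i < 405 → P i := stepQ 404 Q404 (allL N404 (tt N402 F2369) (tt N382 F2370) (tt N380 (iv D1377)) (tt N390 F2373) (tt N380 (iv F2372)) (tt N402 F2371))
theorem Q406 : ∀ i, i < 406 → P i := stepQ 405 Q405 (allL N405 (tt N395 F2374) (tt N405 F2375) (tt N385 (iv D1378)) (tt N400 F2378) (tt N400 F2376) (tt N405 F2377))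
theorem Q407 : ∀ i, i < 407 → P i := stepQ 406 Q406 (allL N406 (tt N389 F2379) (tt N412 D1385) (tt N388 (iv D1379)) (tt N413 D1386) (tt N413 F2404) (tt N389 F2380))
theorem Q408 : ∀ i, i < 408 → P i := stepQ 407 Q407 (allL N407 (tt N390 F2381) (tt N394 F2382) (tt N413 (iv F2402)) (tt N402 F2383) (tt N388 (iv D1380)) (tt N390 F2384))
theorem Q409 : ∀ i, i < 409 → P i := stepQ 408 Q408 (allL N408 (tt N413 (iv F2401)) (tt N401 F2385) (tt N390 F2386) (tt N389 (iv D1381)) (tt N389 (iv F2387)) (tt N413 (iv F2403)))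
theorem Q410 : ∀ i, i < 410 → P i := stepQ 409 Q409 (allL N409 (tt N409 F2388) (tt N393 (iv D1382)) (tt N412 (iv F2399)) (tt N414 D1387) (tt N414 F2407) (tt N412 (iv F2400)))
theorem Q411 : ∀ i, i < 411 → P i := stepQ 410 Q410 (allL N410 (tt N396 F2389) (tt N414 (iv F2406)) (tt N394 F2390) (tt N393 (iv D1383)) (tt N393 (iv F2392)) (tt N401 F2391))
theorem Q412 : ∀ i, i < 412 → P i := stepQ 411 Q411 (allL N411 (tt N400 F2393) (tt N396 F2394) (tt N398 F2395) (tt N395 (iv D1384)) (tt N395 (iv F2397)) (tt N411 F2396))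
theorem Q413 : ∀ i, i < 413 → P i := stepQ 412 Q412 (allL N412 (tt N412 F2398) (tt N406 (iv D1385)) (tt N409 F2399) (tt N415 D1388) (tt N415 F2412) (tt N409 F2400))
theorem Q414 : ∀ i, i < 414 → P i := stepQ 413 Q413 (allL N413 (tt N408 F2401) (tt N415 (iv F2409)) (tt N407 F2402) (tt N406 (iv D1386)) (tt N406 (iv F2404)) (tt N408 F2403))
theorem Q415 : ∀ i, i < 415 → P i := stepQ 414 Q414 (allL N414 (tt N414 F2405) (tt N410 F2406) (tt N415 (iv F2411)) (tt N409 (iv D1387)) (tt N409 (iv F2407)) (tt N415 (iv F2410)))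
theorem Q416 : ∀ i, i < 416 → P i := stepQ 415 Q415 (allL N415 (tt N415 F2408) (tt N413 F2409) (tt N414 F2411) (tt N412 (iv D1388)) (tt N412 (iv F2412)) (tt N414 F2410))

theorem closedN : ∀ i, i < N → P i := Q416

end Cfsg.Agent.Helper17.SuzP1TC
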