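import Cfsg.Agent.Helper17.SuzP1TC.Facts1

set_option autoImplicit false
set_option linter.all false
set_option maxRecDepth 100000

noncomputable section

namespace Cfsg.Agent.Helper17.SuzP1TC

def N : ℕ := 416

def nl : ℕ := 6

def parT : ℕ := 0xce6672d96c5e271385c2613037cbd5deed73b2d92c361b0d82c15eadd6ab558abd52a750a4d0a8541a04f66f31984c2612c95cae552a954a247209047e391b8cc622f178ac562b1388c421b0b85c2a150a84c1a090481c0e03007fbfdfafc7e3edf4f97c3ddeef77b3d9ecf2793c1e0ef77bbddcee743a1cee673395cae571381bedf6fb75b8dc6db65b2d86c351a6d36933998cb6532590c86431d8ec763b198ac461b0984c160b0580bf5eaf176bb5dae972b95cae170b85bad96cb55aad568b3592c960b0582bd5cad56ab158ac552a954a853a9d4aa45228d46a15027d3e9f4f2793a9d4da69349a4c25d2c954aa5528944a24d249248a45228f47a391a8d46a31188c452291489442210e8743211088441209007f3f9f8fa7d3e1ecf67a3d1e4f0773a9d4e873399c8e472381c0e06f379b4da6d359acd2693419cca653198cc46130980c05f2f174b85b2d164b2572b95caa552a148a450281389c4d261289449249209048239148843211047e3d1e8ec763a1c0e06e371a0d06633190c86432180bc5c2d158ac5228138944a241208c4422110803e1f0f87c3c1e0e86c361a0d06432180b8582c160a05024120904422100803c1c0e06030160b050281409048200e07030180a050200c0602010040000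

def pletT : ℕ := 0x6d96cb89245272b3109133591136caacd62a08220b361b130644d006b80d86200d362aca155668a4d95806b2503532d024d86c55a00d31564a36c26c559365601a6b04d958ac9a4d541558a1935034d8ab26cac526c558ac9a19559a8d46b343251a4d958acd159aa94eaacd76229354566a35575395d96169b8cd55aaecae2b1891c86455d8ec16c66270c51376086c4cc4d9862ac32a265068a068

def par (i : ℕ) : ℕ := (parT >>> (9 * i)) &&& 511

def plet (i : ℕ) : ℕ := (pletT >>> (3 * i)) &&& 7

def chk (i p l : ℕ) : Bool :=
  decide (0 < i) && decide (i < N) && decide (par i = p) && decide (p < i) && decide (plet i = l)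

def nd (i : ℕ) : Q :=
  if h : 0 < i ∧ i < N ∧ par i < i then act (plet i) (nd (par i)) else n0
termination_by i
decreasing_by exact h.2.2

theorem nd_zero : nd 0 = n0 := by
  rw [nd, dif_neg]; omega

theorem nd_ge {i : ℕ} (h : N ≤ i) : nd i = n0 := by
  rw [nd, dif_neg]; omega

theorem nd_step {i p l : ℕ} (h : chk i p l = true) : nd i = act l (nd p) := by
  simp only [chk, Bool.and_eq_true, decide_eq_true_eq] at h
  obtain ⟨⟨⟨⟨h1, h2⟩, h3⟩, h4⟩, h5⟩ := h
  rw [nd, dif_pos ⟨h1, h2, h3 ▸ h4⟩, h3, h5]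

theorem ndS {i p l : ℕ} {y x : Q} (h : chk i p l = true) (e : nd p = y) (F : act l y = x) :
    nd i = x := by
  rw [nd_step h, e, F]

def P (i : ℕ) : Prop := ∀ l, l < nl → ∃ j, act l (nd i) = nd j

theorem tt {l j : ℕ} {x y : Q} (e : nd j = y) (F : act l x = y) : ∃ j, act l x = nd j :=
  ⟨j, F.trans e.symm⟩

theorem allL {i : ℕ} {x : Q} (e : nd i = x) (h0 : ∃ j, act 0 x = nd j) (h1 : ∃ j, act 1 x = nd j) (h2 : ∃ j, act 2 x = nd j) (h3 : ∃ j, act 3 x = nd j) (h4 : ∃ j, act 4 x = nd j) (h5 : ∃ j, act 5 x = nd j) : P i := by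
  intro l hl; rw [e]; unfold nl at hl; interval_cases l <;> assumption

theorem stepQ (k : ℕ) (h : ∀ i, i < k → P i) (hk : P k) : ∀ i, i < k + 1 → P i := by
  intro i hi
  rcases Nat.lt_succ_iff_lt_or_eq.mp hi with h1 | h1
  · exact h i h1
  · exact h1 ▸ hk

theorem Q0 : ∀ i, i < 0 → P i := fun i h => absurd h (Nat.not_lt_zero i)

theorem N0 : nd 0 = n0 := nd_zero


end Cfsg.Agent.Helper17.SuzP1TC
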